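import Mathlib
import Cfsg.Agent.Helper5.Symp
import Cfsg.Agent.Helper5.QuadCount

set_option autoImplicit false
set_option linter.unusedSimpArgs false

namespace Cfsg.Agent.Helper5

open Matrix

section symp
variable {F : Type*} [Field F] {m : ℕ}

/-- The index in `Fin m` underlying an index in `Fin m ⊕ Fin m`. -/
def sidx (a : Fin m ⊕ Fin m) : Fin m := Sum.elim id id a

/-- The "dual basis" vectors: `sympForm x (bvec a) = x a`. -/
def bvec (m : ℕ) (F : Type*) [Field F] (a : Fin m ⊕ Fin m) : Fin m ⊕ Fin m → F :=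
  (-Matrix.J (Fin m) F) *ᵥ Pi.single a 1

theorem sympForm_bvec (x : Fin m ⊕ Fin m → F) (a : Fin m ⊕ Fin m) :
    Cfsg.sympForm m F x (bvec m F a) = x a := sympForm_single_right x a

theorem J_mulVec_apply (v : Fin m ⊕ Fin m → F) :
    Matrix.J (Fin m) F *ᵥ v = Sum.elim (fun i => - v (Sum.inr i)) (fun i => v (Sum.inl i)) := by
  unfold Matrix.J
  rw [Matrix.fromBlocks_mulVec]
  funext x
  rcases x with i | i <;> simp [Matrix.neg_mulVec]

theorem bvec_apply_of_ne (a c : Fin m ⊕ Fin m) (h : sidx a ≠ sidx c) : bvec m F a c = 0 := by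
  unfold bvec
  rw [Matrix.neg_mulVec, J_mulVec_apply]
  rcases a with a | a <;> rcases c with c | c <;>
    simp [sidx, Pi.single_apply] at h ⊢ <;> exact fun h' => absurd h'.symm h

theorem bvec_inl_inr (j : Fin m) : bvec m F (Sum.inl j) (Sum.inr j) = -1 := by
  unfold bvec
  rw [Matrix.neg_mulVec, J_mulVec_apply]
  simp

/-- The vectors vanishing on the coordinates over `S`. -/
def WS (F : Type*) [Field F] {m : ℕ} (S : Finset (Fin m)) : Set (Fin m ⊕ Fin m → F) :=
  {x | ∀ a, sidx a ∈ S → x a = 0}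

theorem bvec_mem_WS (S : Finset (Fin m)) (a : Fin m ⊕ Fin m) (ha : sidx a ∉ S) :
    bvec m F a ∈ WS F S := by
  intro c hc
  apply bvec_apply_of_ne
  intro h
  rw [h] at ha
  exact ha hc

/-- The subgroup of `Sp` fixing the dual basis vectors over `S`. -/
def spFix (F : Type*) [Field F] {m : ℕ} (S : Finset (Fin m)) :
    Subgroup (Matrix.symplecticGroup (Fin m) F) where
  carrier := {g | ∀ a, sidx a ∈ S →
    (g : Matrix (Fin m ⊕ Fin m) (Fin m ⊕ Fin m) F) *ᵥ bvec m F a = bvec m F a}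
  one_mem' := by
    intro a _
    rw [sp_coe_one, Matrix.one_mulVec]
  mul_mem' := by
    intro g h hg hh a ha
    rw [sp_mul_mulVec, hh a ha, hg a ha]
  inv_mem' := by
    intro g hg a ha
    have := sp_inv_mulVec g (bvec m F a)
    rw [hg a ha] at this
    exact this

theorem mem_spFix (S : Finset (Fin m)) (g : Matrix.symplecticGroup (Fin m) F) :
    g ∈ spFix F S ↔ ∀ a, sidx a ∈ S →
      (g : Matrix (Fin m ⊕ Fin m) (Fin m ⊕ Fin m) F) *ᵥ bvec m F a = bvec m F a := Iff.rfl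

theorem spFix_apply (S : Finset (Fin m)) (g : Matrix.symplecticGroup (Fin m) F)
    (hg : g ∈ spFix F S) (x : Fin m ⊕ Fin m → F) (a : Fin m ⊕ Fin m) (ha : sidx a ∈ S) :
    ((g : Matrix (Fin m ⊕ Fin m) (Fin m ⊕ Fin m) F) *ᵥ x) a = x a := by
  rw [← sympForm_bvec ((g : Matrix (Fin m ⊕ Fin m) (Fin m ⊕ Fin m) F) *ᵥ x) a, ← sympForm_bvec x a]
  conv_lhs => rw [← hg a ha]
  exact sp_sympForm g x _

theorem spFix_mem_WS (S : Finset (Fin m)) (g : Matrix.symplecticGroup (Fin m) F)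
    (hg : g ∈ spFix F S) (x : Fin m ⊕ Fin m → F) (hx : x ∈ WS F S) :
    (g : Matrix (Fin m ⊕ Fin m) (Fin m ⊕ Fin m) F) *ᵥ x ∈ WS F S := by
  intro a ha
  rw [spFix_apply S g hg x a ha]
  exact hx a ha

theorem spFix_mono (S T : Finset (Fin m)) (h : S ⊆ T) : spFix F T ≤ spFix F S :=
  fun _ hg a ha => hg a (h ha)

theorem spFix_univ : spFix F (Finset.univ : Finset (Fin m)) = ⊥ := by
  rw [eq_bot_iff]
  intro g hg
  rw [Subgroup.mem_bot]
  apply sp_ext
  intro x
  funext a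
  rw [spFix_apply _ g hg x a (Finset.mem_univ _), sp_coe_one, Matrix.one_mulVec]

/-- The pairs in `W_S` with form value `-1`. -/
def pairSet (F : Type*) [Field F] {m : ℕ} (S : Finset (Fin m)) :
    Set ((Fin m ⊕ Fin m → F) × (Fin m ⊕ Fin m → F)) :=
  {p | p.1 ∈ WS F S ∧ p.2 ∈ WS F S ∧ Cfsg.sympForm m F p.1 p.2 = -1}

theorem sympForm_bvec_inl_inr (j : Fin m) :
    Cfsg.sympForm m F (bvec m F (Sum.inl j)) (bvec m F (Sum.inr j)) = -1 := by
  rw [sympForm_bvec, bvec_inl_inr]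

/-- `spFix S` is transitive on `pairSet S`. -/
theorem exists_spFix_map (S : Finset (Fin m)) (j : Fin m) (hj : j ∉ S)
    (v w : Fin m ⊕ Fin m → F) (hv : v ∈ WS F S) (hw : w ∈ WS F S)
    (hvw : Cfsg.sympForm m F v w = -1) :
    ∃ g ∈ spFix F S,
      (g : Matrix (Fin m ⊕ Fin m) (Fin m ⊕ Fin m) F) *ᵥ bvec m F (Sum.inl j) = v ∧
      (g : Matrix (Fin m ⊕ Fin m) (Fin m ⊕ Fin m) F) *ᵥ bvec m F (Sum.inr j) = w := by
  set X₀ : Submodule F (Fin m ⊕ Fin m → F) :=
    Submodule.span F (bvec m F '' {a | sidx a ∈ S}) with hX₀def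
  have hX₀ : ∀ z ∈ X₀, ∀ x ∈ WS F S, Cfsg.sympForm m F x z = 0 := by
    intro z hz x hx
    induction hz using Submodule.span_induction with
    | mem z hz =>
      obtain ⟨a, ha, rfl⟩ := hz
      rw [sympForm_bvec]
      exact hx a ha
    | zero => exact Helper13.sympForm_zero_right x
    | add y z _ _ hy hz => rw [Helper13.sympForm_add_right, hy, hz, add_zero]
    | smul c z _ hz => rw [Helper13.sympForm_smul_right, hz, mul_zero]
  have hX₀' : ∀ z ∈ X₀, ∀ x ∈ WS F S, Cfsg.sympForm m F z x = 0 := by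
    intro z hz x hx
    rw [Helper13.sympForm_swap, hX₀ z hz x hx, neg_zero]
  set b1 := bvec m F (Sum.inl j) with hb1def
  set b2 := bvec m F (Sum.inr j) with hb2def
  have hb1 : b1 ∈ WS F S := bvec_mem_WS S _ hj
  have hb2 : b2 ∈ WS F S := bvec_mem_WS S _ hj
  have hb12 : Cfsg.sympForm m F b1 b2 = -1 := sympForm_bvec_inl_inr j
  have hnot : ∀ x y : Fin m ⊕ Fin m → F, y ∈ WS F S → Cfsg.sympForm m F x y = -1 → x ∉ X₀ := by
    intro x y hy hxy hx
    rw [hX₀' x hx y hy] at hxy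
    exact one_ne_zero (neg_eq_zero.1 hxy.symm)
  obtain ⟨t1, ht1, fix1, ht1b⟩ := Helper13.alt_step (sympBil m F) sympBil_nondegenerate
    sympBil_isAlt X₀ b1 v (hnot b1 b2 hb2 hb12) (hnot v w hw hvw)
    (fun z hz => by
      simp only [sympBil_apply]
      rw [hX₀' z hz v hv, hX₀' z hz b1 hb1, hX₀ z hz v hv, hX₀ z hz b1 hb1]
      exact ⟨rfl, rfl⟩)
    (by rw [sympBil_isAlt.self_eq_zero, sympBil_isAlt.self_eq_zero])
  have iso1 : ∀ x x', Cfsg.sympForm m F (t1 x) (t1 x') = Cfsg.sympForm m F x x' :=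
    Helper13.TG_isometry (sympBil m F) sympBil_isAlt t1 ht1
  have hv1 : Cfsg.sympForm m F v (t1 b2) = -1 := by
    rw [← ht1b, iso1, hb12]
  have hX₁ : ∀ z ∈ X₀ ⊔ Submodule.span F {v}, ∃ z0 ∈ X₀, ∃ s : F, z = z0 + s • v := by
    intro z hz
    rw [Submodule.mem_sup] at hz
    obtain ⟨z0, hz0, z1, hz1, rfl⟩ := hz
    rw [Submodule.mem_span_singleton] at hz1
    obtain ⟨s, rfl⟩ := hz1
    exact ⟨z0, hz0, s, rfl⟩
  have hnot1 : ∀ x : Fin m ⊕ Fin m → F, Cfsg.sympForm m F v x = -1 →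
      x ∉ X₀ ⊔ Submodule.span F {v} := by
    intro x hx hmem
    obtain ⟨z0, hz0, s, rfl⟩ := hX₁ x hmem
    rw [Helper13.sympForm_add_right, Helper13.sympForm_smul_right, Helper13.sympForm_self,
      hX₀ z0 hz0 v hv, mul_zero, add_zero] at hx
    exact one_ne_zero (neg_eq_zero.1 hx.symm)
  have hz0b : ∀ z0 ∈ X₀, Cfsg.sympForm m F z0 (t1 b2) = 0 := by
    intro z0 hz0
    rw [← fix1 z0 hz0, iso1, hX₀' z0 hz0 b2 hb2]
  obtain ⟨t2, ht2, fix2, ht2b⟩ := Helper13.alt_step (sympBil m F) sympBil_nondegenerate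
    sympBil_isAlt (X₀ ⊔ Submodule.span F {v}) (t1 b2) w (hnot1 _ hv1) (hnot1 w hvw)
    (fun z hz => by
      obtain ⟨z0, hz0, s, rfl⟩ := hX₁ z hz
      simp only [sympBil_apply]
      have e1 : Cfsg.sympForm m F (z0 + s • v) w = Cfsg.sympForm m F (z0 + s • v) (t1 b2) := by
        rw [Helper13.sympForm_add_left, Helper13.sympForm_add_left, Helper13.sympForm_smul_left,
          Helper13.sympForm_smul_left, hX₀' z0 hz0 w hw, hz0b z0 hz0, hvw, hv1]
      refine ⟨e1, ?_⟩
      rw [Helper13.sympForm_swap w, Helper13.sympForm_swap (t1 b2), e1])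
    (by rw [sympBil_isAlt.self_eq_zero, sympBil_isAlt.self_eq_zero])
  obtain ⟨g, -, hg⟩ := exists_spT_of_TG (t2 * t1) (Subgroup.mul_mem _ ht2 ht1)
  have hle : X₀ ≤ X₀ ⊔ Submodule.span F {v} := le_sup_left
  have hvmem : v ∈ X₀ ⊔ Submodule.span F {v} :=
    (le_sup_right : Submodule.span F {v} ≤ _) (Submodule.mem_span_singleton_self v)
  refine ⟨g, ?_, ?_, ?_⟩
  · intro a ha
    have hmem : bvec m F a ∈ X₀ := Submodule.subset_span ⟨a, ha, rfl⟩
    rw [← hg, LinearEquiv.mul_apply, fix1 _ hmem, fix2 _ (hle hmem)]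
  · rw [← hg, LinearEquiv.mul_apply, ht1b, fix2 _ hvmem]
  · rw [← hg, LinearEquiv.mul_apply, ht2b]

theorem spFix_smul_pair (S : Finset (Fin m)) (g : spFix F S)
    (p : (Fin m ⊕ Fin m → F) × (Fin m ⊕ Fin m → F)) :
    g • p = (((g : Matrix.symplecticGroup (Fin m) F) : Matrix (Fin m ⊕ Fin m) (Fin m ⊕ Fin m) F) *ᵥ p.1,
      ((g : Matrix.symplecticGroup (Fin m) F) : Matrix (Fin m ⊕ Fin m) (Fin m ⊕ Fin m) F) *ᵥ p.2) := rfl

theorem orbit_spFix (S : Finset (Fin m)) (j : Fin m) (hj : j ∉ S) :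
    MulAction.orbit (spFix F S) ((bvec m F (Sum.inl j), bvec m F (Sum.inr j)) :
      (Fin m ⊕ Fin m → F) × (Fin m ⊕ Fin m → F)) = pairSet F S := by
  ext p
  constructor
  · rintro ⟨g, rfl⟩
    change g • _ ∈ _
    rw [spFix_smul_pair]
    have h1 := spFix_mem_WS S g.1 g.2 _ (bvec_mem_WS (F := F) S (Sum.inl j) hj)
    have h2 := spFix_mem_WS S g.1 g.2 _ (bvec_mem_WS (F := F) S (Sum.inr j) hj)
    have h3 : Cfsg.sympForm m F
        (((g : Matrix.symplecticGroup (Fin m) F) : Matrix (Fin m ⊕ Fin m) (Fin m ⊕ Fin m) F) *ᵥ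
          bvec m F (Sum.inl j))
        (((g : Matrix.symplecticGroup (Fin m) F) : Matrix (Fin m ⊕ Fin m) (Fin m ⊕ Fin m) F) *ᵥ
          bvec m F (Sum.inr j)) = -1 := by
      rw [sp_sympForm, sympForm_bvec_inl_inr]
    exact ⟨h1, h2, h3⟩
  · rintro ⟨hv, hw, hvw⟩
    obtain ⟨g, hg, h1, h2⟩ := exists_spFix_map S j hj p.1 p.2 hv hw hvw
    refine ⟨⟨g, hg⟩, ?_⟩
    change (⟨g, hg⟩ : spFix F S) • _ = p
    rw [spFix_smul_pair]
    exact Prod.ext h1 h2

theorem stabilizer_spFix (S : Finset (Fin m)) (j : Fin m) :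
    MulAction.stabilizer (spFix F S) ((bvec m F (Sum.inl j), bvec m F (Sum.inr j)) :
      (Fin m ⊕ Fin m → F) × (Fin m ⊕ Fin m → F)) = (spFix F (insert j S)).subgroupOf (spFix F S) := by
  ext g
  rw [MulAction.mem_stabilizer_iff, spFix_smul_pair, Subgroup.mem_subgroupOf, mem_spFix]
  constructor
  · intro h a ha
    rw [Prod.mk.injEq] at h
    rw [Finset.mem_insert] at ha
    rcases ha with ha | ha
    · rcases a with a | a
      · have : a = j := ha
        subst this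
        exact h.1
      · have : a = j := ha
        subst this
        exact h.2
    · exact g.2 a ha
  · intro h
    exact Prod.ext (h (Sum.inl j) (Finset.mem_insert_self j S)) (h (Sum.inr j) (Finset.mem_insert_self j S))

/-- The orbit-stabiliser step. -/
theorem card_spFix_step (S : Finset (Fin m)) (j : Fin m) (hj : j ∉ S) :
    Nat.card (spFix F S) = Nat.card (pairSet F S) * Nat.card (spFix F (insert j S)) := by
  have e := MulAction.orbitProdStabilizerEquivGroup (spFix F S)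
    ((bvec m F (Sum.inl j), bvec m F (Sum.inr j)) : (Fin m ⊕ Fin m → F) × (Fin m ⊕ Fin m → F))
  rw [← Nat.card_congr e, Nat.card_prod, orbit_spFix S j hj, stabilizer_spFix S j,
    Nat.card_congr (Subgroup.subgroupOfEquivOfLe
      (spFix_mono S (insert j S) (Finset.subset_insert j S))).toEquiv]

end symp

section count
variable {F : Type*} [Field F] {m : ℕ}

/-- Restriction to the coordinates not over `S`. -/
def resK (S : Finset (Fin m)) (v : Fin m ⊕ Fin m → F) :
    {a : Fin m ⊕ Fin m // sidx a ∉ S} → F := fun i => v i.1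

/-- Extension by zero. -/
def extK (S : Finset (Fin m)) (x : {a : Fin m ⊕ Fin m // sidx a ∉ S} → F) :
    Fin m ⊕ Fin m → F := fun a => if h : sidx a ∉ S then x ⟨a, h⟩ else 0

theorem resK_extK (S : Finset (Fin m)) (x : {a : Fin m ⊕ Fin m // sidx a ∉ S} → F) :
    resK S (extK S x) = x := by
  funext i
  unfold resK extK
  rw [dif_pos i.2]

theorem extK_mem (S : Finset (Fin m)) (x : {a : Fin m ⊕ Fin m // sidx a ∉ S} → F) :
    extK S x ∈ WS F S := by
  intro a ha
  unfold extK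
  rw [dif_neg (not_not.2 ha)]

theorem extK_resK (S : Finset (Fin m)) (v : Fin m ⊕ Fin m → F) (hv : v ∈ WS F S) :
    extK S (resK S v) = v := by
  funext a
  unfold resK extK
  by_cases h : sidx a ∉ S
  · rw [dif_pos h]
  · rw [dif_neg h, hv a (not_not.1 h)]

theorem J_mem_WS (S : Finset (Fin m)) (w : Fin m ⊕ Fin m → F) (hw : w ∈ WS F S) :
    Matrix.J (Fin m) F *ᵥ w ∈ WS F S := by
  intro a ha
  rw [J_mulVec_apply]
  rcases a with a | a
  · simp only [Sum.elim_inl]
    rw [hw (Sum.inr a) ha, neg_zero]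
  · simp only [Sum.elim_inr]
    exact hw (Sum.inl a) ha

theorem negJ_mem_WS (S : Finset (Fin m)) (w : Fin m ⊕ Fin m → F) (hw : w ∈ WS F S) :
    (-Matrix.J (Fin m) F) *ᵥ w ∈ WS F S := by
  intro a ha
  rw [Matrix.neg_mulVec, Pi.neg_apply, J_mem_WS S w hw a ha, neg_zero]

theorem J_negJ (z : Fin m ⊕ Fin m → F) :
    Matrix.J (Fin m) F *ᵥ ((-Matrix.J (Fin m) F) *ᵥ z) = z := by
  rw [Matrix.mulVec_mulVec, Matrix.mul_neg, Matrix.J_squared, neg_neg, Matrix.one_mulVec]

theorem negJ_J (z : Fin m ⊕ Fin m → F) :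
    (-Matrix.J (Fin m) F) *ᵥ (Matrix.J (Fin m) F *ᵥ z) = z := by
  rw [Matrix.mulVec_mulVec, Matrix.neg_mul, Matrix.J_squared, neg_neg, Matrix.one_mulVec]

theorem sympForm_eq_sum (S : Finset (Fin m)) (v w : Fin m ⊕ Fin m → F) (hv : v ∈ WS F S) :
    Cfsg.sympForm m F v w = ∑ i, resK S v i * resK S (Matrix.J (Fin m) F *ᵥ w) i := by
  unfold Cfsg.sympForm
  rw [dotProduct, ← Fintype.sum_subtype_add_sum_subtype (fun a : Fin m ⊕ Fin m => sidx a ∉ S)]
  have : ∑ a : {a : Fin m ⊕ Fin m // ¬ sidx a ∉ S}, v a.1 * (Matrix.J (Fin m) F *ᵥ w) a.1 = 0 := by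
    apply Finset.sum_eq_zero
    intro a _
    rw [hv a.1 (not_not.1 a.2), zero_mul]
  rw [this, add_zero]
  rfl

/-- The pairs of `W_S` of form value `-1` correspond to pairs of vectors of dot product `-1`. -/
def pairSetEquiv (S : Finset (Fin m)) :
    pairSet F S ≃ {p : ({a : Fin m ⊕ Fin m // sidx a ∉ S} → F) ×
      ({a : Fin m ⊕ Fin m // sidx a ∉ S} → F) // ∑ i, p.1 i * p.2 i = -1} where
  toFun p := ⟨(resK S p.1.1, resK S (Matrix.J (Fin m) F *ᵥ p.1.2)), by
    have h := p.2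
    rw [← sympForm_eq_sum S _ _ h.1]
    exact h.2.2⟩
  invFun p := ⟨(extK S p.1.1, (-Matrix.J (Fin m) F) *ᵥ extK S p.1.2), by
    refine ⟨extK_mem S _, negJ_mem_WS S _ (extK_mem S _), ?_⟩
    change Cfsg.sympForm m F (extK S p.1.1) ((-Matrix.J (Fin m) F) *ᵥ extK S p.1.2) = -1
    rw [sympForm_eq_sum S _ _ (extK_mem S _), J_negJ, resK_extK, resK_extK]
    exact p.2⟩
  left_inv p := by
    apply Subtype.ext
    have h := p.2
    apply Prod.ext
    · exact extK_resK S _ h.1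
    · change (-Matrix.J (Fin m) F) *ᵥ extK S (resK S (Matrix.J (Fin m) F *ᵥ p.1.2)) = p.1.2
      rw [extK_resK S _ (J_mem_WS S _ h.2.1), negJ_J]
  right_inv p := by
    apply Subtype.ext
    apply Prod.ext
    · exact resK_extK S _
    · change resK S (Matrix.J (Fin m) F *ᵥ ((-Matrix.J (Fin m) F) *ᵥ extK S p.1.2)) = p.1.2
      rw [J_negJ, resK_extK]

theorem card_kappa (S : Finset (Fin m)) :
    Fintype.card {a : Fin m ⊕ Fin m // sidx a ∉ S} = 2 * (m - S.card) := by
  classical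
  have e : {a : Fin m ⊕ Fin m // sidx a ∉ S} ≃ {i : Fin m // i ∉ S} ⊕ {i : Fin m // i ∉ S} :=
    Equiv.subtypeSum
  rw [Fintype.card_congr e, Fintype.card_sum, Fintype.card_subtype_compl, Fintype.card_fin,
    Fintype.card_coe]
  ring

variable [Fintype F]

theorem card_pairSet (S : Finset (Fin m)) :
    Nat.card (pairSet F S) = (Fintype.card F ^ (2 * (m - S.card)) - 1) *
      Fintype.card F ^ (2 * (m - S.card) - 1) := by
  rw [Nat.card_congr (pairSetEquiv S), card_dot_pairs, card_kappa,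
    if_neg (neg_ne_zero.2 one_ne_zero), zero_add]

theorem card_spFix : ∀ (r : ℕ) (S : Finset (Fin m)), m - S.card = r →
    Nat.card (spFix F S) = Fintype.card F ^ (r ^ 2) *
      ∏ i ∈ Finset.range r, (Fintype.card F ^ (2 * (i + 1)) - 1) := by
  intro r
  induction r with
  | zero =>
    intro S hS
    have hle : S.card ≤ m := by
      have := Finset.card_le_univ S
      rwa [Fintype.card_fin] at this
    have hSu : S = Finset.univ := by
      apply Finset.eq_univ_of_card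
      rw [Fintype.card_fin]
      omega
    rw [hSu, spFix_univ, Subgroup.card_bot]
    simp
  | succ r ih =>
    intro S hS
    have hne : S ≠ Finset.univ := by
      intro h
      rw [h, Finset.card_univ, Fintype.card_fin] at hS
      omega
    obtain ⟨j, hj⟩ : ∃ j, j ∉ S := by
      by_contra hcon
      push Not at hcon
      exact hne (Finset.eq_univ_iff_forall.2 hcon)
    have hcard : m - (insert j S).card = r := by
      rw [Finset.card_insert_of_notMem hj]
      omega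
    rw [card_spFix_step S j hj, ih (insert j S) hcard, card_pairSet, hS, Finset.prod_range_succ]
    have h1 : (r + 1) ^ 2 = (2 * (r + 1) - 1) + r ^ 2 := by
      have : 2 * (r + 1) - 1 = 2 * r + 1 := by omega
      rw [this]
      ring
    rw [h1, pow_add]
    ring

omit [Fintype F] in
theorem spFix_empty : spFix F (∅ : Finset (Fin m)) = ⊤ := by
  rw [eq_top_iff]
  intro g _ a ha
  exact absurd ha (Finset.notMem_empty _)

/-- The order of `Sp_{2m}(q)`. -/
theorem card_sp : Nat.card (Matrix.symplecticGroup (Fin m) F) = Fintype.card F ^ (m ^ 2) *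
    ∏ i ∈ Finset.range m, (Fintype.card F ^ (2 * (i + 1)) - 1) := by
  rw [← card_spFix (F := F) (m := m) m ∅ (by simp), spFix_empty, Subgroup.card_top]

end count

end Cfsg.Agent.Helper5
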