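import Mathlib

set_option autoImplicit false
set_option linter.unusedSimpArgs false
set_option linter.unusedSectionVars false

/-!
# Redundant Sylow subgroups: transfer to the quotient by the centre
-/

namespace Cfsg.Agent.Helper5

/-- `G` has a redundant Sylow `p`-subgroup. -/
def RedSyl (p : ℕ) (G : Type*) [Group G] : Prop :=
  ∃ Q : Sylow p G, ∀ x : G, (∃ k : ℕ, orderOf x = p ^ k) → ∃ P : Sylow p G, P ≠ Q ∧ x ∈ P

section
variable {G : Type*} [Group G]

theorem pgroup_le_sylow_of_le_normalizer (p : ℕ) [Fact p.Prime] (H : Subgroup G)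
    (hH : IsPGroup p H) (Q : Sylow p G)
    (h : H ≤ Subgroup.normalizer ((Q : Subgroup G) : Set G)) : H ≤ Q := by
  have h1 := hH.inf_normalizer_sylow Q
  have h2 : H ⊓ Subgroup.normalizer (Q : Set G) = H := inf_eq_left.mpr h
  exact inf_eq_left.mp (h1.symm.trans h2)

theorem sup_center_le_normalizer (K : Subgroup G) :
    K ⊔ Subgroup.center G ≤ Subgroup.normalizer (K : Set G) := by
  apply sup_le Subgroup.le_normalizer
  intro z hz
  rw [Subgroup.mem_normalizer_iff]
  intro h
  rw [← (Subgroup.mem_center_iff.1 hz h), mul_inv_cancel_right]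

theorem isPGroup_zpowers_of_orderOf (p : ℕ) [Fact p.Prime] (x : G) (k : ℕ)
    (hx : orderOf x = p ^ k) : IsPGroup p (Subgroup.zpowers x) :=
  IsPGroup.of_card (n := k) (by rw [Nat.card_zpowers, hx])

theorem exists_pelement_lift [Finite G] {G' : Type*} [Group G'] (f : G →* G')
    (hf : Function.Surjective f) (p : ℕ) [Fact p.Prime] (y : G') (k : ℕ)
    (hy : orderOf y = p ^ k) : ∃ x : G, f x = y ∧ ∃ j : ℕ, orderOf x = p ^ j := by
  have hp : p.Prime := Fact.out
  by_cases hk : k = 0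
  · subst hk
    rw [pow_zero, orderOf_eq_one_iff] at hy
    exact ⟨1, by rw [map_one, hy], 0, by simp⟩
  obtain ⟨g, hg⟩ := hf y
  have hn : orderOf g ≠ 0 := (orderOf_pos g).ne'
  obtain ⟨a, m, hm, hnm⟩ := Nat.exists_eq_pow_mul_and_not_dvd hn p hp.ne_one
  have hcop : Nat.Coprime m (p ^ k) :=
    Nat.Coprime.pow_right k ((Nat.Prime.coprime_iff_not_dvd hp).2 hm).symm
  have h1 : 1 < p ^ k := Nat.one_lt_pow hk hp.one_lt
  obtain ⟨m', -, hm'⟩ := Nat.exists_mul_mod_eq_one_of_coprime hcop h1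
  refine ⟨g ^ (m * m'), ?_, ?_⟩
  · rw [map_pow, hg]
    have : y ^ (m * m') = y ^ 1 := by
      rw [pow_eq_pow_iff_modEq, hy]
      show m * m' % p ^ k = 1 % p ^ k
      rw [hm', Nat.mod_eq_of_lt h1]
    rw [this, pow_one]
  · have h2 : (g ^ (m * m')) ^ (p ^ a) = 1 := by
      rw [← pow_mul]
      have : m * m' * p ^ a = orderOf g * m' := by rw [hnm]; ring
      rw [this, pow_mul, pow_orderOf_eq_one, one_pow]
    obtain ⟨j, -, hj⟩ := (Nat.dvd_prime_pow hp).1 (orderOf_dvd_of_pow_eq_one h2)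
    exact ⟨j, hj⟩

theorem redSyl_quot_center_iff [Finite G] (p : ℕ) [Fact p.Prime] :
    RedSyl p (G ⧸ Subgroup.center G) ↔ RedSyl p G := by
  have hp : p.Prime := Fact.out
  have hπ : Function.Surjective (QuotientGroup.mk' (Subgroup.center G)) :=
    QuotientGroup.mk'_surjective _
  have hcomap : ∀ K : Subgroup G, (K.map (QuotientGroup.mk' (Subgroup.center G))).comap
      (QuotientGroup.mk' (Subgroup.center G)) = K ⊔ Subgroup.center G := by
    intro K
    rw [Subgroup.comap_map_eq, QuotientGroup.ker_mk']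
  constructor
  · rintro ⟨Qb, hQb⟩
    obtain ⟨Q, rfl⟩ := Sylow.mapSurjective_surjective hπ p Qb
    refine ⟨Q, ?_⟩
    rintro x ⟨k, hk⟩
    have hdvd : orderOf (QuotientGroup.mk' (Subgroup.center G) x) ∣ p ^ k := by
      rw [← hk]; exact orderOf_map_dvd _ x
    obtain ⟨j, -, hj⟩ := (Nat.dvd_prime_pow hp).1 hdvd
    obtain ⟨Pb, hPb, hxPb⟩ := hQb _ ⟨j, hj⟩
    obtain ⟨P, rfl⟩ := Sylow.mapSurjective_surjective hπ p Pb
    refine ⟨P, ?_, ?_⟩
    · rintro rfl
      exact hPb rfl
    · have h1 : x ∈ ((P : Subgroup G).map (QuotientGroup.mk' (Subgroup.center G))).comap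
          (QuotientGroup.mk' (Subgroup.center G)) := hxPb
      rw [hcomap] at h1
      have h2 : Subgroup.zpowers x ≤ Subgroup.normalizer ((P : Subgroup G) : Set G) := by
        rw [Subgroup.zpowers_le]
        exact sup_center_le_normalizer _ h1
      exact pgroup_le_sylow_of_le_normalizer p _ (isPGroup_zpowers_of_orderOf p x k hk) P h2
        (Subgroup.mem_zpowers x)
  · rintro ⟨Q, hQ⟩
    refine ⟨Q.mapSurjective hπ, ?_⟩
    rintro xb ⟨k, hk⟩
    obtain ⟨x, rfl, j, hj⟩ := exists_pelement_lift _ hπ p xb k hk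
    obtain ⟨P, hPQ, hxP⟩ := hQ x ⟨j, hj⟩
    refine ⟨P.mapSurjective hπ, ?_, ?_⟩
    · intro h
      apply hPQ
      have h1 : (P : Subgroup G).map (QuotientGroup.mk' (Subgroup.center G)) =
          (Q : Subgroup G).map (QuotientGroup.mk' (Subgroup.center G)) := by
        have := congrArg (fun S : Sylow p (G ⧸ Subgroup.center G) =>
          (S : Subgroup (G ⧸ Subgroup.center G))) h
        simpa using this
      have h2 : (P : Subgroup G) ≤ (Q : Subgroup G) ⊔ Subgroup.center G := by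
        rw [← hcomap, ← h1]
        exact Subgroup.le_comap_map _ _
      have h3 : (P : Subgroup G) ≤ Q :=
        pgroup_le_sylow_of_le_normalizer p _ P.2 Q (h2.trans (sup_center_le_normalizer _))
      exact Sylow.ext (P.3 Q.2 h3).symm
    · exact Subgroup.mem_map_of_mem _ hxP

end

end Cfsg.Agent.Helper5
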