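import Mathlib

set_option autoImplicit false

namespace Cfsg.Agent.Helper5

/-- A group `G` with an injective hom into `Perm α`, `|α| = n`, and `2 |G| = n!`, is
isomorphic to the alternating group of degree `n`. -/
theorem equiv_alternatingGroup_of_injective {G α : Type*} [Group G] [Finite α]
    (φ : G →* Equiv.Perm α) (hφ : Function.Injective φ) (n : ℕ) (hα : Nat.card α = n)
    (hG : 2 * Nat.card G = n.factorial) : Nonempty (G ≃* alternatingGroup (Fin n)) := by
  classical
  have : Fintype α := Fintype.ofFinite α
  have hr : Nat.card φ.range = Nat.card G :=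
    (Nat.card_congr (MonoidHom.ofInjective hφ).toEquiv).symm
  have hidx : φ.range.index = 2 := by
    have h1 := Subgroup.card_mul_index φ.range
    rw [hr, Nat.card_perm, hα, ← hG] at h1
    have hpos : 0 < Nat.card G := by
      rcases Nat.eq_zero_or_pos (Nat.card G) with h | h
      · rw [h] at hG
        exact absurd hG.symm (Nat.factorial_ne_zero n)
      · exact h
    have : Nat.card G * φ.range.index = Nat.card G * 2 := by rw [h1]; ring
    exact Nat.eq_of_mul_eq_mul_left hpos this
  have hrange : φ.range = alternatingGroup α := Equiv.Perm.eq_alternatingGroup_of_index_eq_two hidx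
  have e : α ≃ Fin n := Finite.equivFinOfCardEq hα
  exact ⟨(MonoidHom.ofInjective hφ).trans
    ((MulEquiv.subgroupCongr hrange).trans (Equiv.altCongrHom e))⟩

end Cfsg.Agent.Helper5
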