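import Mathlib
import Cfsg.Agent.S0016

set_option autoImplicit false
set_option linter.unusedSimpArgs false
set_option linter.unusedSectionVars false

namespace Cfsg.Agent.Helper5

/-- A non-commutative finite 2-group with at most one involution is generalised quaternion. -/
theorem quat_of_unique_involution {P : Type*} [Group P] [Finite P] (hP : IsPGroup 2 P)
    (hinv : ∀ s t : P, s ^ 2 = 1 → t ^ 2 = 1 → s ≠ 1 → t ≠ 1 → s = t)
    (hnc : ¬ ∀ u v : P, u * v = v * u) :
    ∃ k : ℕ, 1 ≤ k ∧ Nonempty (P ≃* QuaternionGroup (2 ^ k)) := by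
  classical
  have hle : ∀ H K : Subgroup P, Nat.card H = 2 → Nat.card K = 2 → H ≤ K := by
    intro H K hH hK x hx
    by_cases hx1 : x = 1
    · rw [hx1]
      exact one_mem K
    · have h1 : (⟨x, hx⟩ : H) ^ Nat.card H = 1 := pow_card_eq_one'
      rw [hH] at h1
      have hx2 : x ^ 2 = 1 := congrArg Subtype.val h1
      have hKne : K ≠ ⊥ := by
        intro hb
        rw [hb, Subgroup.card_bot] at hK
        omega
      obtain ⟨y, hy⟩ := (Subgroup.ne_bot_iff_exists_ne_one).1 hKne
      have h2 : y ^ Nat.card K = 1 := pow_card_eq_one'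
      rw [hK] at h2
      have hy2 : (y : P) ^ 2 = 1 := congrArg Subtype.val h2
      have hy1 : (y : P) ≠ 1 := fun h => hy (Subtype.ext h)
      rw [hinv x y hx2 hy2 hx1 hy1]
      exact y.2
  have huniq : ∀ H K : Subgroup P, Nat.card H = 2 → Nat.card K = 2 → H = K :=
    fun H K hH hK => le_antisymm (hle H K hH hK) (hle K H hK hH)
  rcases Cfsg.Agent.S0016.result (G := P) 2 hP huniq with hcyc | ⟨-, n, ⟨e⟩⟩
  · exfalso
    apply hnc
    intro u v
    obtain ⟨c, hc⟩ := hcyc.exists_generator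
    obtain ⟨i, rfl⟩ := Subgroup.mem_zpowers_iff.1 (hc u)
    obtain ⟨j, rfl⟩ := Subgroup.mem_zpowers_iff.1 (hc v)
    rw [← zpow_add, ← zpow_add, add_comm]
  · refine ⟨n, ?_, ⟨e⟩⟩
    by_contra hn
    have hn0 : n = 0 := by omega
    subst hn0
    apply hnc
    have hcomm : ∀ s t : QuaternionGroup (2 ^ 0), s * t = t * s :=
      (IsPGroup.isMulCommutative_of_card_eq_prime_sq (p := 2) (by
        rw [Nat.card_eq_fintype_card, QuaternionGroup.card]; norm_num)).is_comm.comm
    intro u v
    apply e.injective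
    rw [map_mul, map_mul, hcomm]

/-- A generalised quaternion group of order at least eight is not commutative. -/
theorem quaternion_not_comm (k : ℕ) (hk : 1 ≤ k) :
    QuaternionGroup.a (1 : ZMod (2 * 2 ^ k)) * QuaternionGroup.xa 0 ≠
      QuaternionGroup.xa 0 * QuaternionGroup.a (1 : ZMod (2 * 2 ^ k)) := by
  rw [QuaternionGroup.a_mul_xa, QuaternionGroup.xa_mul_a]
  intro h
  have h1 : (0 : ZMod (2 * 2 ^ k)) - 1 = 0 + 1 := by
    injection h
  have h2 : ((2 : ℕ) : ZMod (2 * 2 ^ k)) = 0 := by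
    push_cast
    linear_combination -h1
  rw [ZMod.natCast_eq_zero_iff] at h2
  have h3 : 2 * 2 ^ k ≤ 2 := Nat.le_of_dvd (by norm_num) h2
  have h4 : 2 ^ 1 ≤ 2 ^ k := Nat.pow_le_pow_right (by norm_num) hk
  omega

end Cfsg.Agent.Helper5
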