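import Mathlib
import Cfsg.Prelude.Def_OddOrderLocal
import Cfsg.Prelude.Def_CaseTheorems

/-!
CALL S1357 (helper2), piece E3 (pure).
-/

set_option autoImplicit false

namespace Cfsg.Agent.Helper5

open Cfsg Subgroup

universe u

variable {G : Type u} [Group G] [Finite G]

/-- E3 (pure). `q ∈ α(M)`: an elementary abelian `q`-subgroup of `M` of order `> q²`. -/
theorem bg15c_E3_of_alpha {M : Subgroup G} {q : ℕ} (hα : q ∈ alpha M) :
    ∃ B : Subgroup G, B ≤ M ∧ IsMulCommutative B ∧ (∀ b ∈ B, b ^ q = 1) ∧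
      q ^ 2 < Nat.card B := by
  obtain ⟨-, hrk⟩ := hα
  unfold PRankLE at hrk
  push Not at hrk
  obtain ⟨A, hAc, hAe, hAcard⟩ := hrk
  refine ⟨A.map M.subtype, Subgroup.map_subtype_le A, inferInstance,
    ?_, ?_⟩
  · rintro b ⟨a, ha, rfl⟩
    have h := hAe a ha
    rw [← map_pow, h, map_one]
  · rw [Subgroup.card_map_of_injective M.subtype_injective]
    exact hAcard

end Cfsg.Agent.Helper5
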