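import Mathlib
import Cfsg.Prelude.Def_OddOrderLocal
import Cfsg.Prelude.Def_CaseTheorems

/-!
CALL S1357 (helper2), piece RC (pure).
-/

set_option autoImplicit false

namespace Cfsg.Agent.Helper5

open Cfsg Subgroup

universe u

variable {G : Type u} [Group G] [Finite G]

/-- RC (pure). An elementary abelian `q`-subgroup of order `> q²` inside `N` contradicts
`PRankLE q 2 ↥N`. -/
theorem bg15c_rank_contra {N B : Subgroup G} {q : ℕ} (hrk : PRankLE q 2 ↥N) (hBN : B ≤ N)
    (hBc : IsMulCommutative B) (hBe : ∀ b ∈ B, b ^ q = 1) (hB : q ^ 2 < Nat.card B) : False := by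
  have hc : IsMulCommutative (B.subgroupOf N) := inferInstance
  have h := hrk (B.subgroupOf N) hc (by
    intro a ha
    apply Subtype.ext
    rw [Subgroup.coe_pow, Subgroup.coe_one]
    exact hBe a.1 (Subgroup.mem_subgroupOf.mp ha))
  rw [Nat.card_congr (Subgroup.subgroupOfEquivOfLe hBN).toEquiv] at h
  omega

end Cfsg.Agent.Helper5
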