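import Mathlib

set_option autoImplicit false
set_option linter.unusedSimpArgs false
set_option linter.unusedSectionVars false

/-!
# Group laws separating the Dickson classes of subgroups of `PSL₂(q)`
-/

namespace Cfsg.Agent.Helper5

/-- Commutators commute. -/
def MetabLaw (G : Type*) [Group G] : Prop :=
  ∀ a b c d : G, (a * b * a⁻¹ * b⁻¹) * (c * d * c⁻¹ * d⁻¹) =
    (c * d * c⁻¹ * d⁻¹) * (a * b * a⁻¹ * b⁻¹)

/-- Commutators have order dividing `p`. -/
def CommPowLaw (p : ℕ) (G : Type*) [Group G] : Prop :=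
  ∀ a b : G, (a * b * a⁻¹ * b⁻¹) ^ p = 1

/-- Squares commute. -/
def SqCommLaw (G : Type*) [Group G] : Prop :=
  ∀ a b : G, a ^ 2 * b ^ 2 = b ^ 2 * a ^ 2

section transfer
variable {G H : Type*} [Group G] [Group H]

theorem MetabLaw.of_injective (f : H →* G) (hf : Function.Injective f) (h : MetabLaw G) :
    MetabLaw H := by
  intro a b c d
  apply hf
  simp only [map_mul, map_inv]
  exact h _ _ _ _

theorem MetabLaw.of_surjective (f : G →* H) (hf : Function.Surjective f) (h : MetabLaw G) :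
    MetabLaw H := by
  intro a b c d
  obtain ⟨a, rfl⟩ := hf a
  obtain ⟨b, rfl⟩ := hf b
  obtain ⟨c, rfl⟩ := hf c
  obtain ⟨d, rfl⟩ := hf d
  have := congrArg f (h a b c d)
  simpa only [map_mul, map_inv] using this

theorem CommPowLaw.of_injective (p : ℕ) (f : H →* G) (hf : Function.Injective f)
    (h : CommPowLaw p G) : CommPowLaw p H := by
  intro a b
  apply hf
  simp only [map_mul, map_inv, map_pow, map_one]
  exact h _ _

theorem CommPowLaw.of_surjective (p : ℕ) (f : G →* H) (hf : Function.Surjective f)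
    (h : CommPowLaw p G) : CommPowLaw p H := by
  intro a b
  obtain ⟨a, rfl⟩ := hf a
  obtain ⟨b, rfl⟩ := hf b
  have := congrArg f (h a b)
  simpa only [map_mul, map_inv, map_pow, map_one] using this

theorem SqCommLaw.of_injective (f : H →* G) (hf : Function.Injective f) (h : SqCommLaw G) :
    SqCommLaw H := by
  intro a b
  apply hf
  simp only [map_mul, map_pow]
  exact h _ _

theorem SqCommLaw.of_surjective (f : G →* H) (hf : Function.Surjective f) (h : SqCommLaw G) :
    SqCommLaw H := by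
  intro a b
  obtain ⟨a, rfl⟩ := hf a
  obtain ⟨b, rfl⟩ := hf b
  have := congrArg f (h a b)
  simpa only [map_mul, map_pow] using this

theorem MetabLaw.of_comm (hc : ∀ a b : G, a * b = b * a) : MetabLaw G :=
  fun _ _ _ _ => hc _ _

theorem SqCommLaw.of_comm (hc : ∀ a b : G, a * b = b * a) : SqCommLaw G :=
  fun _ _ => hc _ _

theorem MetabLaw.of_isCyclic [IsCyclic G] : MetabLaw G := by
  apply MetabLaw.of_comm
  intro a b
  obtain ⟨c, hc⟩ := IsCyclic.exists_generator (α := G)
  obtain ⟨i, rfl⟩ := Subgroup.mem_zpowers_iff.1 (hc a)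
  obtain ⟨j, rfl⟩ := Subgroup.mem_zpowers_iff.1 (hc b)
  rw [← zpow_add, ← zpow_add, add_comm]

theorem SqCommLaw.of_isCyclic [IsCyclic G] : SqCommLaw G := by
  apply SqCommLaw.of_comm
  intro a b
  obtain ⟨c, hc⟩ := IsCyclic.exists_generator (α := G)
  obtain ⟨i, rfl⟩ := Subgroup.mem_zpowers_iff.1 (hc a)
  obtain ⟨j, rfl⟩ := Subgroup.mem_zpowers_iff.1 (hc b)
  rw [← zpow_add, ← zpow_add, add_comm]

end transfer

section dihedral

theorem dihedral_comm_rot (k : ℕ) (a b : DihedralGroup k) :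
    ∃ j, a * b * a⁻¹ * b⁻¹ = DihedralGroup.r j := by
  rcases a with i | i <;> rcases b with j | j
  · exact ⟨_, rfl⟩
  · exact ⟨_, rfl⟩
  · exact ⟨_, rfl⟩
  · exact ⟨_, rfl⟩

theorem dihedral_sq_rot (k : ℕ) (a : DihedralGroup k) : ∃ j, a ^ 2 = DihedralGroup.r j := by
  rw [pow_two]
  rcases a with i | i
  · exact ⟨_, rfl⟩
  · exact ⟨_, rfl⟩

theorem dihedral_metab (k : ℕ) : MetabLaw (DihedralGroup k) := by
  intro a b c d
  obtain ⟨i, hi⟩ := dihedral_comm_rot k a b
  obtain ⟨j, hj⟩ := dihedral_comm_rot k c d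
  rw [hi, hj, DihedralGroup.r_mul_r, DihedralGroup.r_mul_r, add_comm]

theorem dihedral_sqComm (k : ℕ) : SqCommLaw (DihedralGroup k) := by
  intro a b
  obtain ⟨i, hi⟩ := dihedral_sq_rot k a
  obtain ⟨j, hj⟩ := dihedral_sq_rot k b
  rw [hi, hj, DihedralGroup.r_mul_r, DihedralGroup.r_mul_r, add_comm]

end dihedral

section perm

theorem not_metab_S4 : ¬ MetabLaw (Equiv.Perm (Fin 4)) := by
  intro h
  exact absurd (h (Equiv.swap 0 1) c[0, 1, 2] (Equiv.swap 0 1) c[0, 1, 3]) (by decide)

/-- An even permutation as an element of the alternating group. -/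
def altMk {n : ℕ} (σ : Equiv.Perm (Fin n)) (h : Equiv.Perm.sign σ = 1) :
    alternatingGroup (Fin n) := ⟨σ, Equiv.Perm.mem_alternatingGroup.2 h⟩

theorem not_metab_A5 : ¬ MetabLaw (alternatingGroup (Fin 5)) := by
  intro h
  have := h (altMk (n := 5) c[0, 1, 2] (by decide)) (altMk (n := 5) c[0, 1, 3] (by decide)) (altMk (n := 5) c[0, 1, 2] (by decide))
    (altMk (n := 5) c[0, 3, 4] (by decide))
  have h2 := congrArg Subtype.val this
  exact absurd h2 (by decide)

theorem not_sqComm_A4 : ¬ SqCommLaw (alternatingGroup (Fin 4)) := by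
  intro h
  have := h (altMk (n := 4) c[0, 1, 2] (by decide)) (altMk (n := 4) c[0, 1, 3] (by decide))
  have h2 := congrArg Subtype.val this
  exact absurd h2 (by decide)

theorem not_commPow_A4 (p : ℕ) (hp : Odd p) : ¬ CommPowLaw p (alternatingGroup (Fin 4)) := by
  intro h
  have h1 := h (altMk (n := 4) c[0, 1, 2] (by decide)) (altMk (n := 4) c[0, 1, 3] (by decide))
  obtain ⟨x, hx⟩ : ∃ x : alternatingGroup (Fin 4), x =
      altMk (n := 4) c[0, 1, 2] (by decide) * altMk (n := 4) c[0, 1, 3] (by decide) *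
        (altMk (n := 4) c[0, 1, 2] (by decide))⁻¹ * (altMk (n := 4) c[0, 1, 3] (by decide))⁻¹ := ⟨_, rfl⟩
  rw [← hx] at h1
  have h2 : x ^ 2 = 1 := by
    rw [hx]
    apply Subtype.ext
    decide
  have h3 : x ≠ 1 := by
    rw [hx]
    intro h4
    exact absurd (congrArg Subtype.val h4) (by decide)
  obtain ⟨m, rfl⟩ := hp
  rw [pow_succ, pow_mul, h2, one_pow, one_mul] at h1
  exact h3 h1

end perm

end Cfsg.Agent.Helper5
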