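import Cfsg.Agent.Helper41.DkPSL
import Cfsg.Agent.Helper5.DkLaws
import Cfsg.Agent.Helper5.SLCard
import Cfsg.Agent.Helper5.OrthOdd
import Cfsg.Agent.S0265

set_option autoImplicit false
set_option linter.unusedSimpArgs false
set_option linter.unusedSectionVars false

/-!
# Dickson's theorem in a form suited to maximality proofs
-/

namespace Cfsg.Agent.Helper5

open Matrix Cfsg.Agent.Helper41 Cfsg.Agent.Helper41.Dk

section mat
variable {F : Type*} [Field F]

theorem mat_tr_of_fix (A : Matrix (Fin 2) (Fin 2) F) (hdet : A.det = 1) (v : Fin 2 → F)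
    (hv : v ≠ 0) (hA : A *ᵥ v = v) : A 1 1 - 1 = -(A 0 0 - 1) := by
  have e1 := congrFun hA 0
  have e2 := congrFun hA 1
  simp only [Matrix.mulVec, dotProduct, Fin.sum_univ_two] at e1 e2
  rw [Matrix.det_fin_two] at hdet
  have hv' : v 0 ≠ 0 ∨ v 1 ≠ 0 := by
    by_contra h
    push Not at h
    apply hv
    funext i
    fin_cases i
    · exact h.1
    · exact h.2
  have key : (A 0 0 - 1) * (A 1 1 - 1) - A 0 1 * A 1 0 = 0 := by
    rcases hv' with h | h
    · apply mul_left_cancel₀ h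
      linear_combination (A 1 1 - 1) * e1 - A 0 1 * e2
    · apply mul_left_cancel₀ h
      linear_combination (A 0 0 - 1) * e2 - A 1 0 * e1
  linear_combination -key + hdet

theorem mat_nil_mul (N N' : Matrix (Fin 2) (Fin 2) F) (v : Fin 2 → F) (hv : v ≠ 0)
    (h1 : N *ᵥ v = 0) (h2 : N' *ᵥ v = 0) (ht : N 1 1 = -N 0 0) (ht' : N' 1 1 = -N' 0 0) :
    N * N' = 0 := by
  have r1 := congrFun h1 0
  have r2 := congrFun h1 1
  have r1' := congrFun h2 0
  have r2' := congrFun h2 1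
  simp only [Matrix.mulVec, dotProduct, Fin.sum_univ_two, Pi.zero_apply] at r1 r2 r1' r2'
  rw [ht] at r2
  rw [ht'] at r2'
  have hv' : v 0 ≠ 0 ∨ v 1 ≠ 0 := by
    by_contra h
    push Not at h
    apply hv
    funext i
    fin_cases i
    · exact h.1
    · exact h.2
  ext i j
  fin_cases i <;> fin_cases j
  · simp only [Matrix.mul_apply, Fin.sum_univ_two, Fin.zero_eta, Fin.mk_one, Matrix.zero_apply]
    rcases hv' with h | h
    · apply mul_left_cancel₀ h
      linear_combination N' 0 0 * r1 + N 0 1 * r2'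
    · apply mul_left_cancel₀ h
      linear_combination N' 1 0 * r1 - N 0 0 * r2'
  · simp only [Matrix.mul_apply, Fin.sum_univ_two, Fin.zero_eta, Fin.mk_one, Matrix.zero_apply,
      ht']
    rcases hv' with h | h
    · apply mul_left_cancel₀ h
      linear_combination N' 0 1 * r1 - N 0 1 * r1'
    · apply mul_left_cancel₀ h
      linear_combination -N' 0 0 * r1 + N 0 0 * r1'
  · simp only [Matrix.mul_apply, Fin.sum_univ_two, Fin.zero_eta, Fin.mk_one, Matrix.zero_apply,
      ht]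
    rcases hv' with h | h
    · apply mul_left_cancel₀ h
      linear_combination N' 0 0 * r2 - N 0 0 * r2'
    · apply mul_left_cancel₀ h
      linear_combination N' 1 0 * r2 - N 1 0 * r2'
  · simp only [Matrix.mul_apply, Fin.sum_univ_two, Fin.zero_eta, Fin.mk_one, Matrix.zero_apply,
      ht, ht']
    rcases hv' with h | h
    · apply mul_left_cancel₀ h
      linear_combination N' 0 1 * r2 + N 0 0 * r1'
    · apply mul_left_cancel₀ h
      linear_combination -N' 0 0 * r2 + N 1 0 * r1'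

theorem mat_sub_one_fix (A : Matrix (Fin 2) (Fin 2) F) (v : Fin 2 → F) (hA : A *ᵥ v = v) :
    (A - 1) *ᵥ v = 0 := by
  rw [Matrix.sub_mulVec, hA, Matrix.one_mulVec, sub_self]

theorem mat_fix_comm (A B : Matrix (Fin 2) (Fin 2) F) (hA : A.det = 1) (hB : B.det = 1)
    (v : Fin 2 → F) (hv : v ≠ 0) (hAv : A *ᵥ v = v) (hBv : B *ᵥ v = v) : A * B = B * A := by
  have tA := mat_tr_of_fix A hA v hv hAv
  have tB := mat_tr_of_fix B hB v hv hBv
  have hN : (A - 1) * (B - 1) = 0 :=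
    mat_nil_mul _ _ v hv (mat_sub_one_fix A v hAv) (mat_sub_one_fix B v hBv)
      (by simpa using tA) (by simpa using tB)
  have hN' : (B - 1) * (A - 1) = 0 :=
    mat_nil_mul _ _ v hv (mat_sub_one_fix B v hBv) (mat_sub_one_fix A v hAv)
      (by simpa using tB) (by simpa using tA)
  have e1 : A * B = (A - 1) * (B - 1) + A + B - 1 := by
    simp only [sub_mul, mul_sub, mul_one, one_mul]
    abel
  have e2 : B * A = (B - 1) * (A - 1) + B + A - 1 := by
    simp only [sub_mul, mul_sub, mul_one, one_mul]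
    abel
  rw [e1, e2, hN, hN']
  abel

theorem mat_fix_pow (p : ℕ) [Fact p.Prime] [CharP F p] (A : Matrix (Fin 2) (Fin 2) F)
    (hA : A.det = 1) (v : Fin 2 → F) (hv : v ≠ 0) (hAv : A *ᵥ v = v) : A ^ p = 1 := by
  have tA := mat_tr_of_fix A hA v hv hAv
  have hN : (A - 1) * (A - 1) = 0 :=
    mat_nil_mul _ _ v hv (mat_sub_one_fix A v hAv) (mat_sub_one_fix A v hAv)
      (by simpa using tA) (by simpa using tA)
  have hp2 : 2 ≤ p := (Fact.out : p.Prime).two_le
  have h1 : (A - 1) ^ p = 0 := by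
    obtain ⟨k, rfl⟩ : ∃ k, p = 2 + k := ⟨p - 2, by omega⟩
    rw [pow_add, pow_two, hN, zero_mul]
  have h2 : A = (A - 1) + 1 := by abel
  rw [h2, add_pow_char_of_commute p (Commute.one_right _), h1, one_pow, zero_add]

theorem sl_inv_eigen (g : Matrix.SpecialLinearGroup (Fin 2) F) (v : Fin 2 → F) (hv : v ≠ 0)
    (c : F) (h : g.1 *ᵥ v = c • v) : c ≠ 0 ∧ (g⁻¹).1 *ᵥ v = c⁻¹ • v := by
  have h1 : (g⁻¹).1 *ᵥ (g.1 *ᵥ v) = v := by
    rw [Matrix.mulVec_mulVec]
    have h0 : (g⁻¹).1 * g.1 = 1 := by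
      have h00 := congrArg Subtype.val (inv_mul_cancel g)
      exact h00
    rw [h0, Matrix.one_mulVec]
  rw [h, Matrix.mulVec_smul] at h1
  have hc : c ≠ 0 := by
    rintro rfl
    rw [zero_smul] at h1
    exact hv h1.symm
  refine ⟨hc, ?_⟩
  have h3 := congrArg (fun w => c⁻¹ • w) h1
  simp only [smul_smul, inv_mul_cancel₀ hc, one_smul] at h3
  exact h3

theorem sl_comm_fix (g h : Matrix.SpecialLinearGroup (Fin 2) F) (v : Fin 2 → F) (hv : v ≠ 0)
    (hg : ∃ c : F, g.1 *ᵥ v = c • v) (hh : ∃ c : F, h.1 *ᵥ v = c • v) :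
    (g * h * g⁻¹ * h⁻¹).1 *ᵥ v = v := by
  obtain ⟨c, hc⟩ := hg
  obtain ⟨d, hd⟩ := hh
  obtain ⟨hc0, hci⟩ := sl_inv_eigen g v hv c hc
  obtain ⟨hd0, hdi⟩ := sl_inv_eigen h v hv d hd
  have e : (g * h * g⁻¹ * h⁻¹).1 = g.1 * h.1 * (g⁻¹).1 * (h⁻¹).1 := rfl
  have s2 : (g⁻¹).1 *ᵥ ((h⁻¹).1 *ᵥ v) = (d⁻¹ * c⁻¹) • v := by
    rw [hdi, Matrix.mulVec_smul, hci, smul_smul]
  have s3 : h.1 *ᵥ ((g⁻¹).1 *ᵥ ((h⁻¹).1 *ᵥ v)) = (d⁻¹ * c⁻¹ * d) • v := by
    rw [s2, Matrix.mulVec_smul, hd, smul_smul]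
  have s4 : g.1 *ᵥ (h.1 *ᵥ ((g⁻¹).1 *ᵥ ((h⁻¹).1 *ᵥ v))) = (d⁻¹ * c⁻¹ * d * c) • v := by
    rw [s3, Matrix.mulVec_smul, hc, smul_smul]
  rw [e, ← Matrix.mulVec_mulVec, ← Matrix.mulVec_mulVec, ← Matrix.mulVec_mulVec, s4]
  have h5 : d⁻¹ * c⁻¹ * d * c = 1 := by
    field_simp
  rw [h5, one_smul]

end mat

section borel
variable {F : Type*} [Field F]

/-- A subgroup of `SL₂(F)` fixing a line is metabelian. -/
theorem borel_metab (Ht : Subgroup (Matrix.SpecialLinearGroup (Fin 2) F)) (v : Fin 2 → F)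
    (hv : v ≠ 0) (hfix : ∀ g : Ht, ∃ c : F, (Ht.subtype g).1 *ᵥ v = c • v) : MetabLaw Ht := by
  intro a b c d
  apply Subtype.ext
  apply Subtype.ext
  have h1 := sl_comm_fix a.1 b.1 v hv (hfix a) (hfix b)
  have h2 := sl_comm_fix c.1 d.1 v hv (hfix c) (hfix d)
  exact mat_fix_comm _ _ (a.1 * b.1 * a.1⁻¹ * b.1⁻¹).2 (c.1 * d.1 * c.1⁻¹ * d.1⁻¹).2 v hv h1 h2

/-- Commutators in a subgroup of `SL₂(F)` fixing a line have order dividing `p`. -/
theorem borel_commPow (p : ℕ) [Fact p.Prime] [CharP F p]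
    (Ht : Subgroup (Matrix.SpecialLinearGroup (Fin 2) F)) (v : Fin 2 → F)
    (hv : v ≠ 0) (hfix : ∀ g : Ht, ∃ c : F, (Ht.subtype g).1 *ᵥ v = c • v) :
    CommPowLaw p Ht := by
  intro a b
  apply Subtype.ext
  apply Subtype.ext
  have h1 := sl_comm_fix a.1 b.1 v hv (hfix a) (hfix b)
  have h2 := mat_fix_pow p _ (a.1 * b.1 * a.1⁻¹ * b.1⁻¹).2 v hv h1
  simpa using h2

end borel

section main
variable {F : Type*} [Field F] [Fintype F]

/-- Dickson's theorem, with the first two classes described by group laws. -/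
theorem dickson_laws (p : ℕ) [Fact p.Prime] [CharP F p]
    (H : Subgroup (Matrix.ProjectiveSpecialLinearGroup (Fin 2) F)) :
    (MetabLaw H ∧ CommPowLaw p H) ∨ (MetabLaw H ∧ SqCommLaw H) ∨
    Nonempty (H ≃* alternatingGroup (Fin 4)) ∨ Nonempty (H ≃* Equiv.Perm (Fin 4)) ∨
    Nonempty (H ≃* alternatingGroup (Fin 5)) ∨
    (∃ (K : Type) (_ : Field K) (_ : Fintype K) (m : ℕ),
      Fintype.card K ^ m = Fintype.card F ∧
      (Nonempty (H ≃* Matrix.ProjectiveSpecialLinearGroup (Fin 2) K) ∨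
        Nonempty (H ≃* Matrix.ProjGenLinGroup (Fin 2) K))) := by
  classical
  obtain ⟨Ht, hHt⟩ : ∃ Ht : Subgroup (Matrix.SpecialLinearGroup (Fin 2) F), Ht =
      H.comap (QuotientGroup.mk' (Subgroup.center (Matrix.SpecialLinearGroup (Fin 2) F))) :=
    ⟨_, rfl⟩
  have hle : Subgroup.center (Matrix.SpecialLinearGroup (Fin 2) F) ≤ Ht := by
    intro z hz
    rw [hHt, Subgroup.mem_comap, QuotientGroup.mk'_apply, (QuotientGroup.eq_one_iff z).mpr hz]
    exact H.one_mem
  obtain ⟨br⟩ : Nonempty ((↥Ht ⧸ (Subgroup.center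
      (Matrix.SpecialLinearGroup (Fin 2) F)).subgroupOf Ht) ≃* ↥H) := by
    subst hHt
    exact psl_bridge H
  have hsurj : Function.Surjective (br.toMonoidHom.comp (QuotientGroup.mk'
      ((Subgroup.center (Matrix.SpecialLinearGroup (Fin 2) F)).subgroupOf Ht))) :=
    br.surjective.comp (QuotientGroup.mk'_surjective _)
  have hD := dickson_subgroup p Ht hle
  have hZ : ∀ g : Ht, g ∈ (Subgroup.center (Matrix.SpecialLinearGroup (Fin 2) F)).subgroupOf Ht ↔
      Ht.subtype g ∈ Subgroup.center (Matrix.SpecialLinearGroup (Fin 2) F) :=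
    fun g => Subgroup.mem_subgroupOf
  rcases hD with hB | hT | ⟨-, ⟨e⟩⟩ | ⟨-, ⟨e⟩⟩ | ⟨-, ⟨e⟩⟩ | ⟨Q, hQ, K0, hS⟩
  · left
    obtain ⟨v, hv, hfix⟩ := hB
    exact ⟨(borel_metab Ht v hv hfix).of_surjective _ hsurj,
      (borel_commPow p Ht v hv hfix).of_surjective p _ hsurj⟩
  · right; left
    obtain ⟨x, hxZ, ht, hx⟩ := hT
    obtain ⟨k, -, hk2⟩ := torus_concl Ht.subtype p Subtype.val_injective _ hZ x hxZ ht hx
    rcases hk2 with ⟨hc, -⟩ | ⟨⟨e⟩⟩
    · have := hc
      have : IsCyclic H := isCyclic_of_surjective br br.surjective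
      exact ⟨MetabLaw.of_isCyclic, SqCommLaw.of_isCyclic⟩
    · exact ⟨(dihedral_metab k).of_injective (br.symm.trans e).toMonoidHom
          (br.symm.trans e).injective,
        (dihedral_sqComm k).of_injective (br.symm.trans e).toMonoidHom
          (br.symm.trans e).injective⟩
  · right; right; left; exact ⟨br.symm.trans e⟩
  · right; right; right; left; exact ⟨br.symm.trans e⟩
  · right; right; right; right; left; exact ⟨br.symm.trans e⟩
  · right; right; right; right; right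
    obtain ⟨K, hKf, hKfin, m, φ, hcard, hφ⟩ := exists_small_field p K0
    have hZ2 : ∀ g : Ht, g ∈ (Subgroup.center
        (Matrix.SpecialLinearGroup (Fin 2) F)).subgroupOf Ht ↔
        ((conjGL Q hQ).comp Ht.subtype) g ∈
          Subgroup.center (Matrix.SpecialLinearGroup (Fin 2) F) := by
      intro g
      rw [MonoidHom.comp_apply, conjGL_mem_center]; exact Subgroup.mem_subgroupOf
    refine ⟨K, hKf, hKfin, m, hcard, ?_⟩
    rcases hS with h1 | ⟨lam, hlam, hlam2, h2⟩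
    · left
      obtain ⟨e⟩ := sl2K_case φ K0 ((conjGL Q hQ).comp Ht.subtype) _ hφ hZ2 h1
      exact ⟨br.symm.trans e⟩
    · right
      obtain ⟨e⟩ := pgl2K_case φ K0 ((conjGL Q hQ).comp Ht.subtype) _ hφ hZ2 lam hlam hlam2 h2
      exact ⟨br.symm.trans e⟩

/-- `2 |PSL₂(q)| = q (q² - 1)` for odd `q`. -/
theorem two_mul_card_PSL2 (h2 : (2 : F) ≠ 0) :
    2 * Nat.card (Matrix.ProjectiveSpecialLinearGroup (Fin 2) F) =
      Fintype.card F * (Fintype.card F ^ 2 - 1) := by
  rw [← card_PSL2_mul, card_center_SL2 h2, mul_comm]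

/-- `|PGL₂(q)| = q (q² - 1)`. -/
theorem card_PGL2_eq : Nat.card (Matrix.ProjGenLinGroup (Fin 2) F) =
    Fintype.card F * (Fintype.card F ^ 2 - 1) := by
  rw [Cfsg.Agent.S0265.result, card_SL2]

end main

section aux

theorem card_lt_of_subgroup_lt {G : Type*} [Group G] [Finite G] {H M : Subgroup G} (h : H < M) :
    Nat.card H < Nat.card M := by
  by_contra hc
  push Not at hc
  exact h.ne (Subgroup.eq_of_le_of_card_ge h.le hc)

theorem MetabLaw.of_le {G : Type*} [Group G] {H M : Subgroup G} (h : H ≤ M) (hM : MetabLaw M) :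
    MetabLaw H :=
  hM.of_injective (Subgroup.inclusion h) (Subgroup.inclusion_injective h)

theorem CommPowLaw.of_le {G : Type*} [Group G] (p : ℕ) {H M : Subgroup G} (h : H ≤ M)
    (hM : CommPowLaw p M) : CommPowLaw p H :=
  hM.of_injective p (Subgroup.inclusion h) (Subgroup.inclusion_injective h)

theorem SqCommLaw.of_le {G : Type*} [Group G] {H M : Subgroup G} (h : H ≤ M) (hM : SqCommLaw M) :
    SqCommLaw H :=
  hM.of_injective (Subgroup.inclusion h) (Subgroup.inclusion_injective h)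

theorem card_perm_fin_four : Nat.card (Equiv.Perm (Fin 4)) = 24 := by
  rw [Nat.card_eq_fintype_card, Fintype.card_perm, Fintype.card_fin]
  rfl

theorem card_alt_fin_four : Nat.card (alternatingGroup (Fin 4)) = 12 := by
  have h := two_mul_card_alternatingGroup (α := Fin 4)
  rw [Fintype.card_perm, Fintype.card_fin] at h
  rw [Nat.card_eq_fintype_card]
  have : Nat.factorial 4 = 24 := rfl
  omega

theorem card_alt_fin_five : Nat.card (alternatingGroup (Fin 5)) = 60 := by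
  have h := two_mul_card_alternatingGroup (α := Fin 5)
  rw [Fintype.card_perm, Fintype.card_fin] at h
  rw [Nat.card_eq_fintype_card]
  have : Nat.factorial 5 = 120 := rfl
  omega

/-- A field of prime cardinality `p` has characteristic `p`. -/
theorem charP_of_card_prime {F : Type*} [Field F] [Fintype F] (p : ℕ) [Fact p.Prime]
    (hF : Fintype.card F = p) : CharP F p := by
  obtain ⟨r, hr⟩ := CharP.exists F
  have hrp : r.Prime := CharP.char_is_prime F r
  have : Fact r.Prime := ⟨hrp⟩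
  obtain ⟨n, -, hn⟩ := FiniteField.card F r
  rw [hF] at hn
  have h1 := ((Nat.Prime.pow_eq_iff (Fact.out : p.Prime)).1 hn.symm).1
  rw [← h1]
  exact hr

/-- A subgroup of `PSL₂(F)` isomorphic to `PSL₂(K)` or `PGL₂(K)` with `|K| = |F|` odd is
everything. -/
theorem top_of_equiv_same_card {F K : Type*} [Field F] [Fintype F] [Field K] [Fintype K]
    (hodd : Odd (Fintype.card F)) (hK : Fintype.card K = Fintype.card F)
    (M : Subgroup (Matrix.ProjectiveSpecialLinearGroup (Fin 2) F))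
    (h : Nonempty (M ≃* Matrix.ProjectiveSpecialLinearGroup (Fin 2) K) ∨
      Nonempty (M ≃* Matrix.ProjGenLinGroup (Fin 2) K)) : M = ⊤ := by
  have h2 : (2 : F) ≠ 0 := two_ne_zero_of_odd hodd
  have h2K : (2 : K) ≠ 0 := two_ne_zero_of_odd (by rw [hK]; exact hodd)
  have hF := two_mul_card_PSL2 h2
  have hKc := two_mul_card_PSL2 h2K
  rw [hK] at hKc
  rcases h with ⟨⟨e⟩⟩ | ⟨⟨e⟩⟩
  · apply Subgroup.eq_top_of_card_eq
    rw [Nat.card_congr e.toEquiv]
    omega
  · exfalso
    have h1 : Nat.card M = Fintype.card F * (Fintype.card F ^ 2 - 1) := by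
      rw [Nat.card_congr e.toEquiv, card_PGL2_eq, hK]
    have h3 := Subgroup.card_le_card_group M
    have h4 : 0 < Nat.card (Matrix.ProjectiveSpecialLinearGroup (Fin 2) F) := Nat.card_pos
    omega

end aux

end Cfsg.Agent.Helper5
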