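import Cfsg.Agent.Helper5.DkMax

set_option autoImplicit false

namespace Cfsg.Agent.Helper5

theorem sq_mod_five (p : ℕ) : p ^ 2 % 5 = (p % 5) ^ 2 % 5 := Nat.pow_mod p 2 5

/-- If `5` divides `p (p² - 1)` for a prime `p`, then `p = 5` or `p ≡ ±1 (mod 5)`. -/
theorem five_dvd_cases (p : ℕ) (hpp : p.Prime) (h : 5 ∣ p * (p ^ 2 - 1)) :
    p = 5 ∨ p % 5 = 1 ∨ p % 5 = 4 := by
  rcases (Nat.Prime.dvd_mul Nat.prime_five).1 h with h1 | h1
  · left
    exact ((Nat.prime_dvd_prime_iff_eq Nat.prime_five hpp).1 h1).symm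
  · right
    have hp2 : 1 ≤ p ^ 2 := Nat.one_le_pow _ _ hpp.pos
    have h2 : p ^ 2 % 5 = 1 := by omega
    rw [sq_mod_five] at h2
    have h3 : p % 5 < 5 := Nat.mod_lt _ (by norm_num)
    interval_cases h4 : p % 5 <;> simp at h2 <;> simp

/-- The converse direction. -/
theorem five_dvd_of_mod (p : ℕ) (hp : 1 ≤ p) (h : p % 5 = 1 ∨ p % 5 = 4) :
    5 ∣ p * (p ^ 2 - 1) := by
  apply Dvd.dvd.mul_left
  have hp2 : 1 ≤ p ^ 2 := Nat.one_le_pow _ _ hp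
  have h2 : p ^ 2 % 5 = 1 := by
    rw [sq_mod_five]
    rcases h with h | h <;> rw [h] <;> rfl
  omega

end Cfsg.Agent.Helper5
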