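import Cfsg.Agent.Helper5.DkMax2

set_option autoImplicit false

namespace Cfsg.Agent.Helper5

open Matrix

section pgl
variable {K : Type*} [Field K]

/-- `diag(-1, 1)` as an element of `GL₂`. -/
def glNegOne : GL (Fin 2) K :=
  ⟨!![-1, 0; 0, 1], !![-1, 0; 0, 1], by
    ext i j
    fin_cases i <;> fin_cases j <;> simp [Matrix.mul_apply, Fin.sum_univ_two], by
    ext i j
    fin_cases i <;> fin_cases j <;> simp [Matrix.mul_apply, Fin.sum_univ_two]⟩

/-- The upper unipotent matrix as an element of `GL₂`. -/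
def glUp : GL (Fin 2) K :=
  ⟨!![1, 1; 0, 1], !![1, -1; 0, 1], by
    ext i j
    fin_cases i <;> fin_cases j <;> simp [Matrix.mul_apply, Fin.sum_univ_two], by
    ext i j
    fin_cases i <;> fin_cases j <;> simp [Matrix.mul_apply, Fin.sum_univ_two]⟩

/-- The lower unipotent matrix as an element of `GL₂`. -/
def glLow : GL (Fin 2) K :=
  ⟨!![1, 0; 1, 1], !![1, 0; -1, 1], by
    ext i j
    fin_cases i <;> fin_cases j <;> simp [Matrix.mul_apply, Fin.sum_univ_two], by
    ext i j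
    fin_cases i <;> fin_cases j <;> simp [Matrix.mul_apply, Fin.sum_univ_two]⟩

theorem not_metab_PGL2 (h2 : (2 : K) ≠ 0) : ¬ MetabLaw (Matrix.ProjGenLinGroup (Fin 2) K) := by
  intro h
  have h1 := h (Matrix.ProjGenLinGroup.mk glNegOne) (Matrix.ProjGenLinGroup.mk glUp)
    (Matrix.ProjGenLinGroup.mk glNegOne) (Matrix.ProjGenLinGroup.mk glLow)
  simp only [← map_mul, ← map_inv] at h1
  rw [Matrix.ProjGenLinGroup.mk_eq_mk_iff] at h1
  obtain ⟨u, hu⟩ := h1
  have h3 := congrArg (fun g : GL (Fin 2) K => (g : Matrix (Fin 2) (Fin 2) K)) hu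
  have hA : ((glNegOne⁻¹ : GL (Fin 2) K) : Matrix (Fin 2) (Fin 2) K) = !![-1, 0; 0, 1] := rfl
  have hB : ((glUp⁻¹ : GL (Fin 2) K) : Matrix (Fin 2) (Fin 2) K) = !![1, -1; 0, 1] := rfl
  have hD : ((glLow⁻¹ : GL (Fin 2) K) : Matrix (Fin 2) (Fin 2) K) = !![1, 0; -1, 1] := rfl
  have hA' : ((glNegOne : GL (Fin 2) K) : Matrix (Fin 2) (Fin 2) K) = !![-1, 0; 0, 1] := rfl
  have hB' : ((glUp : GL (Fin 2) K) : Matrix (Fin 2) (Fin 2) K) = !![1, 1; 0, 1] := rfl
  have hD' : ((glLow : GL (Fin 2) K) : Matrix (Fin 2) (Fin 2) K) = !![1, 0; 1, 1] := rfl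
  simp only [Units.val_mul, hA, hB, hD, hA', hB', hD'] at h3
  have e01 := congrFun (congrFun h3 0) 1
  have e00 := congrFun (congrFun h3 0) 0
  simp [Matrix.mul_apply, Fin.sum_univ_two] at e01 e00
  have hu1 : (u : K) = 1 := by
    have h4 : (2 : K) * ((u : K) - 1) = 0 := by linear_combination -e01
    rcases mul_eq_zero.1 h4 with h5 | h5
    · exact absurd h5 h2
    · exact sub_eq_zero.1 h5
  rw [hu1] at e00
  have h6 : (2 : K) * 2 = 0 := by linear_combination e00
  rcases mul_eq_zero.1 h6 with h7 | h7 <;> exact h2 h7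

end pgl

end Cfsg.Agent.Helper5
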