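import Mathlib

set_option autoImplicit false
set_option linter.unusedSimpArgs false
set_option linter.unusedSectionVars false

namespace Cfsg.Agent.Helper5

section normone
variable {F : Type*} [Field F] (a b : F)

theorem fact_of_aniso
    (hab : ∀ z₁ z₂ : F, z₁ ^ 2 + a * z₁ * z₂ + b * z₂ ^ 2 = 0 → z₁ = 0 ∧ z₂ = 0) :
    Fact (∀ r : F, r ^ 2 ≠ -b + a * r) :=
  ⟨fun r hr => one_ne_zero (hab (-r) 1 (by linear_combination hr)).2⟩

theorem aniso_disc_ne_zero [Finite F]
    (hab : ∀ z₁ z₂ : F, z₁ ^ 2 + a * z₁ * z₂ + b * z₂ ^ 2 = 0 → z₁ = 0 ∧ z₂ = 0) :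
    4 * b - a ^ 2 ≠ 0 := by
  intro h
  by_cases h2 : (2 : F) = 0
  · have h4 : (4 : F) = 0 := by
      have : (4 : F) = 2 * 2 := by norm_num
      rw [this, h2, mul_zero]
    rw [h4, zero_mul, zero_sub, neg_eq_zero] at h
    have ha : a = 0 := pow_eq_zero_iff two_ne_zero |>.1 h
    have : CharP F 2 := CharTwo.of_one_ne_zero_of_two_eq_zero one_ne_zero h2
    have hc : ringChar F = 2 := ringChar.eq F 2
    obtain ⟨c, hc⟩ := FiniteField.isSquare_of_char_two hc b
    have := (hab c 1 (by rw [ha, hc]; linear_combination (c * c) * h2)).2
    exact one_ne_zero this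
  · have := (hab a (-2) (by linear_combination h)).2
    exact h2 (neg_eq_zero.1 this)

theorem aniso_not_both [Finite F]
    (hab : ∀ z₁ z₂ : F, z₁ ^ 2 + a * z₁ * z₂ + b * z₂ ^ 2 = 0 → z₁ = 0 ∧ z₂ = 0) :
    ¬ (a = 0 ∧ (2 : F) = 0) := by
  rintro ⟨ha, h2⟩
  apply aniso_disc_ne_zero a b hab
  rw [ha]
  linear_combination (2 * b) * h2

variable [Fintype F]

open QuadraticAlgebra in
/-- The number of elements of norm one in the quadratic extension. -/
theorem card_norm_one_quadAlg
    (hab : ∀ z₁ z₂ : F, z₁ ^ 2 + a * z₁ * z₂ + b * z₂ ^ 2 = 0 → z₁ = 0 ∧ z₂ = 0) :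
    Nat.card {z : QuadraticAlgebra F (-b) a // QuadraticAlgebra.norm z = 1} =
      Fintype.card F + 1 := by
  classical
  have := fact_of_aniso a b hab
  have : Fintype (QuadraticAlgebra F (-b) a) := Fintype.ofEquiv _ (equivProd (-b) a).symm
  have hK : Fintype.card (QuadraticAlgebra F (-b) a) = Fintype.card F * Fintype.card F := by
    rw [Fintype.card_congr (equivProd (-b) a), Fintype.card_prod]
  set φ : (QuadraticAlgebra F (-b) a)ˣ →* (QuadraticAlgebra F (-b) a)ˣ :=
    { toFun := fun z => z * (star z)⁻¹
      map_one' := by simp
      map_mul' := fun x y => by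
        simp only [star_mul', mul_inv]
        exact mul_mul_mul_comm _ _ _ _ } with hφ
  have hφ_apply : ∀ z, φ z = z * (star z)⁻¹ := fun z => rfl
  -- norm one units are the range of φ
  have h1 : ∀ u : (QuadraticAlgebra F (-b) a)ˣ,
      QuadraticAlgebra.norm (u : QuadraticAlgebra F (-b) a) = 1 ↔ u ∈ φ.range := by
    intro u
    constructor
    · intro hu
      have hus : (u : QuadraticAlgebra F (-b) a) * star (u : QuadraticAlgebra F (-b) a) = 1 := by
        rw [← algebraMap_norm_eq_mul_star, hu, map_one]
      by_cases h : (1 + u : QuadraticAlgebra F (-b) a) = 0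
      · by_cases h2 : (2 : F) = 0
        · refine ⟨1, ?_⟩
          rw [map_one]
          apply Units.ext
          have h2K : (2 : QuadraticAlgebra F (-b) a) = 0 := by
            have := congrArg (algebraMap F (QuadraticAlgebra F (-b) a)) h2
            rw [map_ofNat, map_zero] at this
            exact this
          rw [Units.val_one]
          linear_combination h2K - h
        · have hz : (⟨a, -2⟩ : QuadraticAlgebra F (-b) a) ≠ 0 := by
            intro hz
            have := congrArg QuadraticAlgebra.im hz
            simp only [im_zero] at this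
            exact h2 (neg_eq_zero.1 this)
          refine ⟨Units.mk0 _ hz, ?_⟩
          rw [hφ_apply, mul_inv_eq_iff_eq_mul]
          apply Units.ext
          rw [Units.val_mul, Units.coe_star, Units.val_mk0]
          have hu' : (u : QuadraticAlgebra F (-b) a) = -1 := by linear_combination h
          rw [hu']
          ext <;> simp <;> ring
      · refine ⟨Units.mk0 _ h, ?_⟩
        rw [hφ_apply, mul_inv_eq_iff_eq_mul]
        apply Units.ext
        rw [Units.val_mul, Units.coe_star, Units.val_mk0, star_add, star_one, mul_add, hus]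
        ring
    · rintro ⟨z, rfl⟩
      rw [hφ_apply, Units.val_mul, map_mul]
      have : QuadraticAlgebra.norm (((star z)⁻¹ : (QuadraticAlgebra F (-b) a)ˣ) :
          QuadraticAlgebra F (-b) a) * QuadraticAlgebra.norm (z : QuadraticAlgebra F (-b) a) = 1 := by
        rw [← norm_star (z : QuadraticAlgebra F (-b) a), ← map_mul, ← Units.coe_star,
          ← Units.val_mul, inv_mul_cancel, Units.val_one, map_one]
      rw [mul_comm]
      exact this
  -- the kernel of φ is the image of Fˣ
  have h2 : φ.ker = (Units.map (algebraMap F (QuadraticAlgebra F (-b) a) : F →* _)).range := by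
    ext z
    rw [MonoidHom.mem_ker, hφ_apply, mul_inv_eq_one, MonoidHom.mem_range]
    constructor
    · intro hz
      have hz' : (z : QuadraticAlgebra F (-b) a) = star (z : QuadraticAlgebra F (-b) a) := by
        rw [← Units.coe_star, ← hz]
      have him : (z : QuadraticAlgebra F (-b) a).im = 0 := by
        have e1 := congrArg QuadraticAlgebra.re hz'
        have e2 := congrArg QuadraticAlgebra.im hz'
        simp only [re_star, im_star] at e1 e2
        by_contra hne
        apply aniso_not_both a b hab
        constructor
        · have : a * (z : QuadraticAlgebra F (-b) a).im = 0 := by linear_combination -e1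
          rcases mul_eq_zero.1 this with h | h
          · exact h
          · exact absurd h hne
        · have : 2 * (z : QuadraticAlgebra F (-b) a).im = 0 := by linear_combination e2
          rcases mul_eq_zero.1 this with h | h
          · exact h
          · exact absurd h hne
      have hre : (z : QuadraticAlgebra F (-b) a).re ≠ 0 := by
        intro hre
        apply z.ne_zero
        ext
        · exact hre
        · exact him
      refine ⟨Units.mk0 _ hre, ?_⟩
      apply Units.ext
      rw [Units.coe_map, Units.val_mk0]
      ext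
      · simp
      · simp [him]
    · rintro ⟨c, rfl⟩
      apply Units.ext
      rw [Units.coe_star, Units.coe_map]
      ext <;> simp
  have hker : Nat.card φ.ker = Fintype.card F - 1 := by
    have hinj : Function.Injective
        (Units.map (algebraMap F (QuadraticAlgebra F (-b) a) : F →* QuadraticAlgebra F (-b) a)) :=
      Units.map_injective (by
        intro x y h
        exact QuadraticAlgebra.algebraMap_injective h)
    have hr : Nat.card (Units.map
        (algebraMap F (QuadraticAlgebra F (-b) a) : F →* QuadraticAlgebra F (-b) a)).range =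
        Nat.card Fˣ := Nat.card_congr (MonoidHom.ofInjective hinj).toEquiv.symm
    rw [h2, hr, Nat.card_units, Nat.card_eq_fintype_card]
  have hmul : Nat.card φ.ker * Nat.card φ.range = Fintype.card F * Fintype.card F - 1 := by
    rw [← Subgroup.index_ker, Subgroup.card_mul_index, Nat.card_units, Nat.card_eq_fintype_card, hK]
  have e : {z : QuadraticAlgebra F (-b) a // QuadraticAlgebra.norm z = 1} ≃ φ.range :=
    { toFun := fun z => ⟨Units.mk0 z.1 (by
          intro h0
          have := z.2
          rw [h0, QuadraticAlgebra.norm_zero] at this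
          exact zero_ne_one this), (h1 _).1 (by rw [Units.val_mk0]; exact z.2)⟩
      invFun := fun u => ⟨u.1.1, (h1 _).2 u.2⟩
      left_inv := fun z => rfl
      right_inv := fun u => Subtype.ext (Units.ext rfl) }
  rw [Nat.card_congr e]
  rw [hker] at hmul
  have hq : 2 ≤ Fintype.card F := Fintype.one_lt_card
  have h3 : Fintype.card F * Fintype.card F - 1 = (Fintype.card F - 1) * (Fintype.card F + 1) := by
    obtain ⟨k, hk⟩ : ∃ k, Fintype.card F = k + 1 := ⟨Fintype.card F - 1, by omega⟩
    rw [hk]
    simp only [Nat.add_sub_cancel]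
    have : (k + 1) * (k + 1) = k * (k + 1 + 1) + 1 := by ring
    rw [this, Nat.add_sub_cancel]
  rw [h3] at hmul
  exact Nat.eq_of_mul_eq_mul_left (by omega) hmul

end normone

end Cfsg.Agent.Helper5
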