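import Mathlib
import Cfsg.Agent.Helper5.OrthChain

set_option autoImplicit false
set_option linter.unusedSimpArgs false
set_option linter.unusedSectionVars false

namespace Cfsg.Agent.Helper5

open Matrix

section endiso
variable {F : Type*} [Field F] {ι : Type} [Fintype ι] [DecidableEq ι]

/-- Units of the endomorphism ring as invertible matrices. -/
noncomputable def endGL (F : Type*) [Field F] (ι : Type) [Fintype ι] [DecidableEq ι] :
    (Module.End F (ι → F))ˣ →* Matrix.GeneralLinearGroup ι F :=
  Units.map (MonoidHomClass.toMonoidHom (LinearMap.toMatrixAlgEquiv' (R := F) (n := ι)))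

theorem endGL_coe (u : (Module.End F (ι → F))ˣ) :
    ((endGL F ι u : Matrix.GeneralLinearGroup ι F) : Matrix ι ι F) =
      LinearMap.toMatrix' (u : Module.End F (ι → F)) := rfl

theorem endGL_injective : Function.Injective (endGL F ι) := by
  intro u v h
  apply Units.ext
  have h1 : LinearMap.toMatrix' (u : Module.End F (ι → F)) =
      LinearMap.toMatrix' (v : Module.End F (ι → F)) := congrArg Units.val h
  exact (LinearMap.toMatrix' (R := F) (n := ι) (m := ι)).injective h1

/-- The isometries of `Q` among the units of the endomorphism ring. -/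
def isoU (F : Type*) [Field F] {ι : Type} [Fintype ι] [DecidableEq ι] (Q : (ι → F) → F) :
    Subgroup (Module.End F (ι → F))ˣ where
  carrier := {u | ∀ v, Q ((u : Module.End F (ι → F)) v) = Q v}
  mul_mem' {a b} ha hb := by
    intro v
    rw [Units.val_mul, Module.End.mul_apply, ha, hb]
  one_mem' := fun v => rfl
  inv_mem' {a} ha := by
    intro v
    have h := ha ((a⁻¹ : (Module.End F (ι → F))ˣ).1 v)
    rw [← Module.End.mul_apply, ← Units.val_mul, mul_inv_cancel] at h
    exact h.symm

theorem mem_isoU (Q : (ι → F) → F) (u : (Module.End F (ι → F))ˣ) :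
    u ∈ isoU F Q ↔ ∀ v, Q ((u : Module.End F (ι → F)) v) = Q v := Iff.rfl

/-- From isometric units of the endomorphism ring to the isometry group. -/
noncomputable def toIso (F : Type*) [Field F] {ι : Type} [Fintype ι] [DecidableEq ι]
    (Q : (ι → F) → F) : isoU F Q →* Cfsg.isometryGroup F Q :=
  ((endGL F ι).comp (isoU F Q).subtype).codRestrict _ (fun u => by
    rw [mem_isometryGroup_iff]
    intro v
    change Q (LinearMap.toMatrix' ((u : (Module.End F (ι → F))ˣ) : Module.End F (ι → F)) *ᵥ v) = Q v
    rw [LinearMap.toMatrix'_mulVec]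
    exact u.2 v)

theorem toIso_injective (Q : (ι → F) → F) : Function.Injective (toIso F Q) := by
  intro u v h
  apply Subtype.ext
  exact endGL_injective (congrArg Subtype.val h)

/-- An isometric action by endomorphisms gives a homomorphism to the isometry group. -/
noncomputable def isoUHom (Q : (ι → F) → F) {G : Type*} [Group G]
    (φ : G →* Module.End F (ι → F)) (h : ∀ g v, Q (φ g v) = Q v) : G →* isoU F Q :=
  φ.toHomUnits.codRestrict _ (fun g => h g)

theorem isoUHom_coe (Q : (ι → F) → F) {G : Type*} [Group G]
    (φ : G →* Module.End F (ι → F)) (h : ∀ g v, Q (φ g v) = Q v) (g : G) :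
    (((isoUHom Q φ h g : isoU F Q) : (Module.End F (ι → F))ˣ) : Module.End F (ι → F)) = φ g := rfl

theorem isoU_ext (Q : (ι → F) → F) (u v : isoU F Q)
    (h : ((u : (Module.End F (ι → F))ˣ) : Module.End F (ι → F)) =
      ((v : (Module.End F (ι → F))ˣ) : Module.End F (ι → F))) : u = v :=
  Subtype.ext (Units.ext h)

end endiso

end Cfsg.Agent.Helper5
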