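import Mathlib
import Cfsg.Agent.Helper5.EndIso

set_option autoImplicit false
set_option linter.unusedSimpArgs false
set_option linter.unusedSectionVars false

namespace Cfsg.Agent.Helper5

open Matrix

section oplus4
variable {F : Type*} [Field F]

/-- The four-dimensional hyperbolic space as `2 × 2` matrices. -/
def m2C (F : Type*) [Field F] : (Fin 2 ⊕ Fin 2 → F) →ₗ[F] Matrix (Fin 2) (Fin 2) F where
  toFun v := !![v (Sum.inl 0), v (Sum.inl 1); - v (Sum.inr 1), v (Sum.inr 0)]
  map_add' u v := by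
    ext i j
    fin_cases i <;> fin_cases j <;> simp
    ring
  map_smul' c v := by
    ext i j
    fin_cases i <;> fin_cases j <;> simp

/-- The coordinates of a `2 × 2` matrix. -/
def m2K (F : Type*) [Field F] : Matrix (Fin 2) (Fin 2) F →ₗ[F] (Fin 2 ⊕ Fin 2 → F) where
  toFun X := Sum.elim ![X 0 0, X 0 1] ![X 1 1, - X 1 0]
  map_add' M N := by
    funext c
    rcases c with c | c <;> fin_cases c <;> simp
    ring
  map_smul' a M := by
    funext c
    rcases c with c | c <;> fin_cases c <;> simp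

theorem m2K_C (v : Fin 2 ⊕ Fin 2 → F) : m2K F (m2C F v) = v := by
  funext c
  rcases c with c | c <;> fin_cases c <;> simp [m2K, m2C]

theorem m2C_K (X : Matrix (Fin 2) (Fin 2) F) : m2C F (m2K F X) = X := by
  ext i j
  fin_cases i <;> fin_cases j <;> simp [m2K, m2C]

theorem m2_quad (X : Matrix (Fin 2) (Fin 2) F) : Cfsg.quadFormPlus 2 F (m2K F X) = X.det := by
  rw [Matrix.det_fin_two]
  unfold Cfsg.quadFormPlus
  simp [m2K, Fin.sum_univ_two]
  ring

/-- Left multiplication. -/
def m2L (a : Matrix (Fin 2) (Fin 2) F) : Module.End F (Fin 2 ⊕ Fin 2 → F) where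
  toFun v := m2K F (a * m2C F v)
  map_add' u v := by rw [map_add, mul_add, map_add]
  map_smul' c v := by
    rw [map_smul, Matrix.mul_smul, map_smul]
    rfl

/-- Right multiplication by the transpose. -/
def m2R (b : Matrix (Fin 2) (Fin 2) F) : Module.End F (Fin 2 ⊕ Fin 2 → F) where
  toFun v := m2K F (m2C F v * bᵀ)
  map_add' u v := by rw [map_add, add_mul, map_add]
  map_smul' c v := by
    rw [map_smul, Matrix.smul_mul, map_smul]
    rfl

/-- Transposition. -/
def m2T (F : Type*) [Field F] : Module.End F (Fin 2 ⊕ Fin 2 → F) where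
  toFun v := m2K F (m2C F v)ᵀ
  map_add' u v := by rw [map_add, Matrix.transpose_add, map_add]
  map_smul' c v := by
    rw [map_smul, Matrix.transpose_smul, map_smul]
    rfl

theorem m2L_apply (a : Matrix (Fin 2) (Fin 2) F) (v : Fin 2 ⊕ Fin 2 → F) :
    m2L a v = m2K F (a * m2C F v) := rfl

theorem m2R_apply (b : Matrix (Fin 2) (Fin 2) F) (v : Fin 2 ⊕ Fin 2 → F) :
    m2R b v = m2K F (m2C F v * bᵀ) := rfl

theorem m2T_apply (v : Fin 2 ⊕ Fin 2 → F) : m2T F v = m2K F (m2C F v)ᵀ := rfl

/-- Left multiplication as a homomorphism. -/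
def m2LHom (F : Type*) [Field F] :
    Matrix (Fin 2) (Fin 2) F →* Module.End F (Fin 2 ⊕ Fin 2 → F) where
  toFun := m2L
  map_one' := by
    apply LinearMap.ext
    intro v
    rw [m2L_apply, one_mul, m2K_C]
    rfl
  map_mul' a b := by
    apply LinearMap.ext
    intro v
    rw [Module.End.mul_apply, m2L_apply, m2L_apply, m2L_apply, m2C_K, mul_assoc]

/-- Right multiplication as a homomorphism. -/
def m2RHom (F : Type*) [Field F] :
    Matrix (Fin 2) (Fin 2) F →* Module.End F (Fin 2 ⊕ Fin 2 → F) where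
  toFun := m2R
  map_one' := by
    apply LinearMap.ext
    intro v
    rw [m2R_apply, Matrix.transpose_one, mul_one, m2K_C]
    rfl
  map_mul' a b := by
    apply LinearMap.ext
    intro v
    rw [Module.End.mul_apply, m2R_apply, m2R_apply, m2R_apply, m2C_K, Matrix.transpose_mul,
      mul_assoc]

/-- The coercion of the special linear group to matrices, as a homomorphism. -/
def slCoe (F : Type*) [Field F] (n : Type*) [Fintype n] [DecidableEq n] :
    Matrix.SpecialLinearGroup n F →* Matrix n n F :=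
  (Units.coeHom _).comp Matrix.SpecialLinearGroup.toGL

theorem slCoe_apply {n : Type*} [Fintype n] [DecidableEq n] (a : Matrix.SpecialLinearGroup n F) :
    slCoe F n a = (a : Matrix n n F) := rfl

/-- `SL₂` acting on the left. -/
noncomputable def o4L (F : Type*) [Field F] :
    Matrix.SpecialLinearGroup (Fin 2) F →* isoU F (Cfsg.quadFormPlus 2 F) :=
  isoUHom _ ((m2LHom F).comp (slCoe F (Fin 2))) (fun a v => by
    change Cfsg.quadFormPlus 2 F (m2K F ((a : Matrix (Fin 2) (Fin 2) F) * m2C F v)) = _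
    rw [m2_quad, Matrix.det_mul, a.2, one_mul, ← m2_quad, m2K_C])

/-- `SL₂` acting on the right. -/
noncomputable def o4R (F : Type*) [Field F] :
    Matrix.SpecialLinearGroup (Fin 2) F →* isoU F (Cfsg.quadFormPlus 2 F) :=
  isoUHom _ ((m2RHom F).comp (slCoe F (Fin 2))) (fun a v => by
    change Cfsg.quadFormPlus 2 F (m2K F (m2C F v * (a : Matrix (Fin 2) (Fin 2) F)ᵀ)) = _
    rw [m2_quad, Matrix.det_mul, Matrix.det_transpose, a.2, mul_one, ← m2_quad, m2K_C])

theorem o4L_coe (a : Matrix.SpecialLinearGroup (Fin 2) F) :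
    (((o4L F a : isoU F (Cfsg.quadFormPlus 2 F)) : (Module.End F (Fin 2 ⊕ Fin 2 → F))ˣ) :
      Module.End F (Fin 2 ⊕ Fin 2 → F)) = m2L (a : Matrix (Fin 2) (Fin 2) F) := rfl

theorem o4R_coe (a : Matrix.SpecialLinearGroup (Fin 2) F) :
    (((o4R F a : isoU F (Cfsg.quadFormPlus 2 F)) : (Module.End F (Fin 2 ⊕ Fin 2 → F))ˣ) :
      Module.End F (Fin 2 ⊕ Fin 2 → F)) = m2R (a : Matrix (Fin 2) (Fin 2) F) := rfl

theorem m2T_sq : m2T F * m2T F = 1 := by
  apply LinearMap.ext
  intro v
  rw [Module.End.mul_apply, m2T_apply, m2T_apply, m2C_K, Matrix.transpose_transpose, m2K_C]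
  rfl

/-- The transposition as an isometry. -/
noncomputable def o4T (F : Type*) [Field F] : isoU F (Cfsg.quadFormPlus 2 F) :=
  ⟨⟨m2T F, m2T F, m2T_sq, m2T_sq⟩, fun v => by
    change Cfsg.quadFormPlus 2 F (m2K F (m2C F v)ᵀ) = _
    rw [m2_quad, Matrix.det_transpose, ← m2_quad, m2K_C]⟩

theorem o4L_injective : Function.Injective (o4L F) := by
  intro a b h
  have h1 : m2L (a : Matrix (Fin 2) (Fin 2) F) = m2L (b : Matrix (Fin 2) (Fin 2) F) := by
    rw [← o4L_coe, ← o4L_coe, h]
  have h2 := congrArg (m2C F) (LinearMap.congr_fun h1 (m2K F 1))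
  simp only [m2L_apply, m2C_K, mul_one] at h2
  exact Subtype.ext h2

theorem o4R_injective : Function.Injective (o4R F) := by
  intro a b h
  have h1 : m2R (a : Matrix (Fin 2) (Fin 2) F) = m2R (b : Matrix (Fin 2) (Fin 2) F) := by
    rw [← o4R_coe, ← o4R_coe, h]
  have h2 := congrArg (m2C F) (LinearMap.congr_fun h1 (m2K F 1))
  simp only [m2R_apply, m2C_K, one_mul] at h2
  exact Subtype.ext (Matrix.transpose_injective h2)

theorem o4_commute (a b : Matrix.SpecialLinearGroup (Fin 2) F) :
    Commute (o4L F a) (o4R F b) := by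
  apply isoU_ext
  change m2L (a : Matrix (Fin 2) (Fin 2) F) * m2R (b : Matrix (Fin 2) (Fin 2) F) =
    m2R (b : Matrix (Fin 2) (Fin 2) F) * m2L (a : Matrix (Fin 2) (Fin 2) F)
  apply LinearMap.ext
  intro v
  rw [Module.End.mul_apply, Module.End.mul_apply, m2L_apply, m2R_apply, m2L_apply, m2R_apply,
    m2C_K, m2C_K, mul_assoc]

theorem o4_conj (a : Matrix.SpecialLinearGroup (Fin 2) F) :
    o4T F * o4L F a = o4R F a * o4T F := by
  apply isoU_ext
  change m2T F * m2L (a : Matrix (Fin 2) (Fin 2) F) =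
    m2R (a : Matrix (Fin 2) (Fin 2) F) * m2T F
  apply LinearMap.ext
  intro v
  rw [Module.End.mul_apply, Module.End.mul_apply, m2L_apply, m2R_apply, m2T_apply, m2T_apply,
    m2C_K, m2C_K, Matrix.transpose_mul]

/-- In characteristic two the two copies of `SL₂` meet trivially. -/
theorem o4_disjoint (h2 : (2 : F) = 0) (a b : Matrix.SpecialLinearGroup (Fin 2) F)
    (h : o4L F a = o4R F b) : a = 1 := by
  have h1 : m2L (a : Matrix (Fin 2) (Fin 2) F) = m2R (b : Matrix (Fin 2) (Fin 2) F) := by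
    rw [← o4L_coe, ← o4R_coe, h]
  have key : ∀ X : Matrix (Fin 2) (Fin 2) F,
      (a : Matrix (Fin 2) (Fin 2) F) * X = X * (b : Matrix (Fin 2) (Fin 2) F)ᵀ := by
    intro X
    have h3 := congrArg (m2C F) (LinearMap.congr_fun h1 (m2K F X))
    rw [m2L_apply, m2R_apply, m2C_K, m2C_K, m2C_K] at h3
    exact h3
  have hb : (b : Matrix (Fin 2) (Fin 2) F)ᵀ = (a : Matrix (Fin 2) (Fin 2) F) := by
    have := key 1
    rw [mul_one, one_mul] at this
    exact this.symm
  rw [hb] at key
  have k1 := key !![0, 1; 0, 0]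
  have k2 := key !![0, 0; 1, 0]
  have e10 : (a : Matrix (Fin 2) (Fin 2) F) 1 0 = 0 := by
    have := congrFun (congrFun k1 1) 1
    simpa [Matrix.mul_apply, Fin.sum_univ_two] using this
  have e01 : (a : Matrix (Fin 2) (Fin 2) F) 0 1 = 0 := by
    have := congrFun (congrFun k2 0) 0
    simpa [Matrix.mul_apply, Fin.sum_univ_two] using this
  have e00 : (a : Matrix (Fin 2) (Fin 2) F) 0 0 = (a : Matrix (Fin 2) (Fin 2) F) 1 1 := by
    have := congrFun (congrFun k1 0) 1
    simpa [Matrix.mul_apply, Fin.sum_univ_two] using this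
  have hdet := a.2
  rw [Matrix.det_fin_two, e10, e01, ← e00] at hdet
  have h00 : (a : Matrix (Fin 2) (Fin 2) F) 0 0 = 1 := by
    have : ((a : Matrix (Fin 2) (Fin 2) F) 0 0 - 1) ^ 2 = 0 := by
      linear_combination hdet + (1 - (a : Matrix (Fin 2) (Fin 2) F) 0 0) * h2
    have := (pow_eq_zero_iff (by norm_num : (2 : ℕ) ≠ 0)).1 this
    linear_combination this
  apply Subtype.ext
  ext i j
  fin_cases i <;> fin_cases j
  · simpa using h00
  · simpa using e01
  · simpa using e10
  · simpa using (e00.symm.trans h00)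

end oplus4

end Cfsg.Agent.Helper5
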