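import Mathlib

set_option autoImplicit false

namespace Cfsg.Agent.Helper5

section omegaiso

/-- A group of order at most four is commutative. -/
theorem isMulCommutative_of_card_le_four {A : Type*} [Group A] [Finite A]
    (h : Nat.card A ≤ 4) : IsMulCommutative A := by
  have hpos : 0 < Nat.card A := Nat.card_pos
  have h' : Nat.card A = 1 ∨ Nat.card A = 2 ∨ Nat.card A = 3 ∨ Nat.card A = 4 := by omega
  rcases h' with h1 | h2 | h3 | h4
  · have : Subsingleton A := (Nat.card_eq_one_iff_unique.1 h1).1
    exact ⟨⟨fun a b => Subsingleton.elim _ _⟩⟩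
  · haveI : Fact (Nat.Prime 2) := ⟨Nat.prime_two⟩
    haveI := isCyclic_of_prime_card (p := 2) h2
    exact IsCyclic.isMulCommutative
  · haveI : Fact (Nat.Prime 3) := ⟨Nat.prime_three⟩
    haveI := isCyclic_of_prime_card (p := 3) h3
    exact IsCyclic.isMulCommutative
  · haveI : Fact (Nat.Prime 2) := ⟨Nat.prime_two⟩
    exact IsPGroup.isMulCommutative_of_card_eq_prime_sq (p := 2) (by rw [h4]; norm_num)

variable {G : Type*} [Group G] [Finite G]

/-- A normal subgroup of index at most four contains the commutator subgroup. -/
theorem commutator_le_of_normal_index_le_four (H : Subgroup G) [H.Normal] (h : H.index ≤ 4) :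
    commutator G ≤ H := by
  rw [← Subgroup.Normal.quotient_commutative_iff_commutator_le]
  apply isMulCommutative_of_card_le_four
  rw [← Subgroup.index_eq_card]
  exact h

/-- The core argument: the image of a homomorphism from a group all of whose proper normal
subgroups are central is normal, when its index is at most four and the group is large. -/
theorem range_normal_of_index_le_four {S : Type*} [Group S] (φ : S →* G)
    (h1 : ∀ N : Subgroup S, N.Normal → N ≤ Subgroup.center S ∨ N = ⊤)
    (h2 : φ.range.index ≤ 4) [Finite (Subgroup.center S)]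
    (h3 : 24 * Nat.card (Subgroup.center S) < Nat.card G) : φ.range.Normal := by
  classical
  set K := φ.range.normalCore with hK
  have hKn : K.Normal := Subgroup.normalCore_normal _
  have hKle : K ≤ φ.range := Subgroup.normalCore_le _
  rcases h1 (K.comap φ) (hKn.comap φ) with h | h
  · exfalso
    -- `K` is small
    have hKmap : (K.comap φ).map φ = K := by
      rw [Subgroup.map_comap_eq, inf_eq_right.2 hKle]
    have hc1 : Nat.card K ≤ Nat.card (Subgroup.center S) := by
      haveI : Finite (K.comap φ) := Finite.of_injective _ (Subgroup.inclusion_injective h)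
      rw [← hKmap]
      exact (Nat.le_of_dvd Nat.card_pos (Subgroup.card_map_dvd (K.comap φ) φ)).trans
        (Subgroup.card_le_of_le h)
    have hidx : K.index ∣ Nat.factorial φ.range.index := by
      have hne : φ.range.index ≠ 0 := Subgroup.index_ne_zero_of_finite
      haveI : Finite (G ⧸ φ.range) := Subgroup.finite_quotient_of_finiteIndex
      rw [hK, Subgroup.normalCore_eq_ker, Subgroup.index_ker, Subgroup.index_eq_card,
        ← Nat.card_perm]
      exact Subgroup.card_subgroup_dvd_card _
    have hidx' : K.index ≤ 24 := by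
      have h4 : Nat.factorial φ.range.index ≤ Nat.factorial 4 := Nat.factorial_le h2
      exact (Nat.le_of_dvd (Nat.factorial_pos _) hidx).trans h4
    have hcard := Subgroup.card_mul_index K
    have : Nat.card G ≤ 24 * Nat.card (Subgroup.center S) := by
      rw [← hcard, mul_comm]
      exact Nat.mul_le_mul hidx' hc1
    omega
  · have : φ.range ≤ K := by
      rintro _ ⟨s, rfl⟩
      have hs : s ∈ K.comap φ := by
        rw [h]
        exact Subgroup.mem_top s
      exact hs
    have hEq : φ.range = K := le_antisymm this hKle
    rw [hEq]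
    exact hKn

theorem comm_hom_aux {S : Type*} [Group S] (s a b c : S) (hc : c = s * b * s⁻¹ * b⁻¹)
    (h1 : a⁻¹ * c = c * a⁻¹) :
    s * (a * b) * s⁻¹ * (a * b)⁻¹ = (s * a * s⁻¹ * a⁻¹) * c := by
  have e1 : s * (a * b) * s⁻¹ * (a * b)⁻¹ = s * a * s⁻¹ * (c * a⁻¹) := by
    rw [hc]
    group
  rw [e1, ← h1]
  group

/-- In a perfect group, an element which is central modulo a central subgroup is central. -/
theorem mem_center_of_perfect {S : Type*} [Group S] (hS : commutator S = ⊤)
    {H : Type*} [Group H] (φ : S →* H) (hker : φ.ker ≤ Subgroup.center S) (s : S)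
    (hs : ∀ t : S, φ (s * t) = φ (t * s)) : s ∈ Subgroup.center S := by
  -- the map `t ↦ [s, t]` is a homomorphism into the centre
  have hc : ∀ t : S, s * t * s⁻¹ * t⁻¹ ∈ Subgroup.center S := by
    intro t
    apply hker
    rw [MonoidHom.mem_ker]
    have := hs t
    rw [map_mul, map_mul] at this
    rw [map_mul, map_mul, map_mul, map_inv, map_inv, this]
    group
  let f : S →* Subgroup.center S := MonoidHom.mk' (fun t => ⟨s * t * s⁻¹ * t⁻¹, hc t⟩) (by
    intro a b
    apply Subtype.ext
    rw [Subgroup.coe_mul]
    exact comm_hom_aux s a b _ rfl ((Subgroup.mem_center_iff.1 (hc b)) (a⁻¹)))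
  have hf : f.ker = ⊤ := by
    rw [eq_top_iff, ← hS, commutator_def, Subgroup.commutator_le]
    intro g₁ _ g₂ _
    rw [MonoidHom.mem_ker, map_commutatorElement, commutatorElement_eq_one_iff_commute]
    apply Subtype.ext
    rw [Subgroup.coe_mul, Subgroup.coe_mul]
    exact ((Subgroup.mem_center_iff.1 (f g₁).2) (f g₂ : S)).symm
  rw [Subgroup.mem_center_iff]
  intro t
  have ht : t ∈ f.ker := by
    rw [hf]
    exact Subgroup.mem_top t
  have h1 : s * t * s⁻¹ * t⁻¹ = 1 := congrArg Subtype.val (MonoidHom.mem_ker.1 ht)
  calc t * s = (s * t * s⁻¹ * t⁻¹) * (t * s) := by rw [h1, one_mul]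
    _ = s * t := by group

/-- The final step of the exceptional isomorphisms: if the image of `φ` is the commutator subgroup
and `π` is onto with kernel the preimage of the centre of the image, then the central quotient of
the commutator subgroup is isomorphic to the image of `π`. -/
theorem nonempty_commutator_quot_center {S T : Type*} [Group S] [Group T] {G : Type*} [Group G]
    (φ : S →* G) (hφ : φ.range = commutator G) (π : S →* T) (hπ : Function.Surjective π)
    (hker : ∀ s : S, π s = 1 ↔ ∀ t : S, φ (s * t) = φ (t * s)) :
    Nonempty ((commutator G) ⧸ Subgroup.center (commutator G) ≃* T) := by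
  let ψ : S →* commutator G := φ.codRestrict _ (fun s => by
    rw [← hφ]
    exact ⟨s, rfl⟩)
  have hψ : Function.Surjective ψ := by
    rintro ⟨g, hg⟩
    rw [← hφ] at hg
    obtain ⟨s, rfl⟩ := hg
    exact ⟨s, rfl⟩
  let χ : S →* (commutator G) ⧸ Subgroup.center (commutator G) :=
    (QuotientGroup.mk' _).comp ψ
  have hχ : Function.Surjective χ := (QuotientGroup.mk'_surjective _).comp hψ
  have hk : χ.ker = π.ker := by
    ext s
    rw [MonoidHom.mem_ker, MonoidHom.mem_ker, hker]
    change ((ψ s : commutator G) : (commutator G) ⧸ Subgroup.center (commutator G)) = 1 ↔ _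
    rw [QuotientGroup.eq_one_iff, Subgroup.mem_center_iff]
    constructor
    · intro h t
      have := h (ψ t)
      have h2 := congrArg Subtype.val this
      change φ t * φ s = φ s * φ t at h2
      rw [map_mul, map_mul, h2]
    · intro h x
      obtain ⟨t, rfl⟩ := hψ x
      apply Subtype.ext
      change φ t * φ s = φ s * φ t
      rw [← map_mul, ← map_mul, h t]
  exact ⟨(QuotientGroup.quotientKerEquivOfSurjective χ hχ).symm.trans
    ((QuotientGroup.quotientMulEquivOfEq hk).trans
      (QuotientGroup.quotientKerEquivOfSurjective π hπ))⟩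

end omegaiso

end Cfsg.Agent.Helper5
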