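import Mathlib
import Cfsg.Agent.Helper5.OmegaIso

set_option autoImplicit false

namespace Cfsg.Agent.Helper5

section omegaiso2

/-- A homomorphism maps the commutator subgroup into the commutator subgroup. -/
theorem map_mem_commutator {A B : Type*} [Group A] [Group B] (f : A →* B) {x : A}
    (hx : x ∈ commutator A) : f x ∈ commutator B := by
  have h1 : f x ∈ (commutator A).map f := Subgroup.mem_map_of_mem f hx
  rw [commutator_def, Subgroup.map_commutator] at h1
  rw [commutator_def]
  exact Subgroup.commutator_mono le_top le_top h1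

/-- The index of the image of a homomorphism, from the orders. -/
theorem index_range_eq_mul {S G : Type*} [Group S] [Group G] [Finite S] [Finite G] (φ : S →* G)
    (c : ℕ) (h : Nat.card G = c * Nat.card S) : φ.range.index = c * Nat.card φ.ker := by
  have h1 := Subgroup.card_mul_index φ.range
  have h2 := Subgroup.card_eq_card_quotient_mul_card_subgroup φ.ker
  rw [Nat.card_congr (QuotientGroup.quotientKerEquivRange φ).toEquiv] at h2
  rw [h, h2] at h1
  have hpos : 0 < Nat.card φ.range := Nat.card_pos
  apply Nat.eq_of_mul_eq_mul_left hpos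
  rw [h1]
  ring

/-- A subgroup of index at most four, contained in a proper normal subgroup, and normalised by an
element outside that normal subgroup, is normal. -/
theorem normal_of_index_le_four_of_conj {G : Type*} [Group G] [Finite G] (H N : Subgroup G)
    [N.Normal] (hHN : H ≤ N) (hidx : H.index ≤ 4) (τ : G) (hτ : τ ∉ N)
    (h1 : ∀ h ∈ H, τ⁻¹ * h * τ ∈ H) : H.Normal := by
  have hrel := Subgroup.relIndex_mul_index hHN
  have hN1 : N.index ≠ 1 := fun h => hτ (by
    rw [Subgroup.index_eq_one.1 h]
    exact Subgroup.mem_top τ)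
  have hN0 : N.index ≠ 0 := Subgroup.index_ne_zero_of_finite
  have hH0 : H.index ≠ 0 := Subgroup.index_ne_zero_of_finite
  have hr0 : H.relIndex N ≠ 0 := by
    intro h0
    rw [h0, zero_mul] at hrel
    exact hH0 hrel.symm
  by_cases hr1 : H.relIndex N = 1
  · have h2 : N ≤ H := Subgroup.relIndex_eq_one.1 hr1
    have h3 : H = N := le_antisymm hHN h2
    rw [h3]
    infer_instance
  · have hb : H.relIndex N * N.index ≤ 4 := by
      rw [hrel]
      exact hidx
    have hr2 : H.relIndex N = 2 := by
      have h2 : 2 ≤ H.relIndex N := by omega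
      have h3 : 2 ≤ N.index := by omega
      nlinarith
    have hN2 : N.index = 2 := by
      have h3 : 2 ≤ N.index := by omega
      rw [hr2] at hb
      omega
    have hnorm : (H.subgroupOf N).Normal := Subgroup.normal_of_index_eq_two hr2
    have key : ∀ n ∈ N, ∀ h ∈ H, n * h * n⁻¹ ∈ H := by
      intro n hn h hh
      have := hnorm.conj_mem ⟨h, hHN hh⟩ (Subgroup.mem_subgroupOf.2 hh) ⟨n, hn⟩
      exact Subgroup.mem_subgroupOf.1 this
    constructor
    intro h hh g
    by_cases hg : g ∈ N
    · exact key g hg h hh
    · have hgτ : g * τ ∈ N := (Subgroup.mul_mem_iff_of_index_two hN2).2 (iff_of_false hg hτ)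
      have := key (g * τ) hgτ (τ⁻¹ * h * τ) (h1 h hh)
      have e : g * τ * (τ⁻¹ * h * τ) * (g * τ)⁻¹ = g * h * g⁻¹ := by group
      rw [e] at this
      exact this

/-- The determinant as a homomorphism on a subgroup of the general linear group. -/
noncomputable def detHom {ι : Type*} [Fintype ι] [DecidableEq ι] {F : Type*} [Field F]
    (G : Subgroup (Matrix.GeneralLinearGroup ι F)) : G →* Fˣ :=
  Matrix.GeneralLinearGroup.det.comp G.subtype

theorem detHom_coe {ι : Type*} [Fintype ι] [DecidableEq ι] {F : Type*} [Field F]
    (G : Subgroup (Matrix.GeneralLinearGroup ι F)) (g : G) :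
    ((detHom G g : Fˣ) : F) = Matrix.det ((g : Matrix.GeneralLinearGroup ι F) : Matrix ι ι F) :=
  rfl

theorem commutator_le_detHom_ker {ι : Type*} [Fintype ι] [DecidableEq ι] {F : Type*} [Field F]
    (G : Subgroup (Matrix.GeneralLinearGroup ι F)) : commutator G ≤ (detHom G).ker :=
  Abelianization.commutator_subset_ker _

end omegaiso2

end Cfsg.Agent.Helper5
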