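import Mathlib
import Cfsg.Agent.Helper5.EndIso
import Cfsg.Agent.Helper5.OmegaIso2
import Cfsg.Agent.Helper5.OPlus4

set_option autoImplicit false
set_option linter.unusedSimpArgs false
set_option linter.unusedSectionVars false

namespace Cfsg.Agent.Helper5

open Matrix

section o4minus
variable {F : Type*} [Field F] (a b : F)

/-- The four-dimensional space as Hermitian `2 × 2` matrices over the quadratic extension. -/
def hmC : ((Fin 1 ⊕ Fin 1) ⊕ Fin 2 → F) →ₗ[F]
    Matrix (Fin 2) (Fin 2) (QuadraticAlgebra F (-b) a) where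
  toFun v := !![⟨-v (Sum.inl (Sum.inl 0)), 0⟩, ⟨v (Sum.inr 0), v (Sum.inr 1)⟩;
    star (⟨v (Sum.inr 0), v (Sum.inr 1)⟩ : QuadraticAlgebra F (-b) a),
    ⟨v (Sum.inl (Sum.inr 0)), 0⟩]
  map_add' u v := by
    ext i j <;> fin_cases i <;> fin_cases j <;> simp <;> ring
  map_smul' c v := by
    ext i j <;> fin_cases i <;> fin_cases j <;> simp <;> ring

/-- The coordinates of a Hermitian matrix. -/
def hmK : Matrix (Fin 2) (Fin 2) (QuadraticAlgebra F (-b) a) →ₗ[F]
    ((Fin 1 ⊕ Fin 1) ⊕ Fin 2 → F) where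
  toFun X := Sum.elim (Sum.elim (fun _ => -(X 0 0).re) (fun _ => (X 1 1).re))
    ![(X 0 1).re, (X 0 1).im]
  map_add' M N := by
    funext c
    rcases c with (c | c) | c
    · simp
      ring
    · simp
    · fin_cases c <;> simp
  map_smul' r M := by
    funext c
    rcases c with (c | c) | c
    · simp
    · simp
    · fin_cases c <;> simp

theorem hmK_C (v : (Fin 1 ⊕ Fin 1) ⊕ Fin 2 → F) : hmK a b (hmC a b v) = v := by
  funext c
  rcases c with (c | c) | c
  · have : c = 0 := Subsingleton.elim _ _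
    simp [hmK, hmC, this]
  · have : c = 0 := Subsingleton.elim _ _
    simp [hmK, hmC, this]
  · fin_cases c <;> simp [hmK, hmC]

theorem hmC_isHermitian (v : (Fin 1 ⊕ Fin 1) ⊕ Fin 2 → F) : (hmC a b v).IsHermitian := by
  ext i j <;> fin_cases i <;> fin_cases j <;> simp [hmC, Matrix.conjTranspose_apply]

theorem star_fixed_im (h : ¬ (a = 0 ∧ (2 : F) = 0)) (z : QuadraticAlgebra F (-b) a)
    (hz : star z = z) : z.im = 0 := by
  have h1 := congrArg QuadraticAlgebra.re hz
  have h2 := congrArg QuadraticAlgebra.im hz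
  simp at h1 h2
  by_cases ha : a = 0
  · have h2' : (2 : F) ≠ 0 := fun h' => h ⟨ha, h'⟩
    have : (2 : F) * z.im = 0 := by linear_combination -h2
    rcases mul_eq_zero.1 this with h' | h'
    · exact absurd h' h2'
    · exact h'
  · rcases h1 with h' | h'
    · exact absurd h' ha
    · exact h'

theorem hmC_K (h : ¬ (a = 0 ∧ (2 : F) = 0)) (X : Matrix (Fin 2) (Fin 2) (QuadraticAlgebra F (-b) a))
    (hX : X.IsHermitian) : hmC a b (hmK a b X) = X := by
  have h00 := star_fixed_im a b h _ (hX.apply 0 0)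
  have h11 := star_fixed_im a b h _ (hX.apply 1 1)
  have h10 := hX.apply 1 0
  ext i j <;> fin_cases i <;> fin_cases j <;> simp [hmC, hmK, h00, h11, ← h10]

theorem hmC_det (v : (Fin 1 ⊕ Fin 1) ⊕ Fin 2 → F) :
    (hmC a b v).det = algebraMap F (QuadraticAlgebra F (-b) a) (-Cfsg.quadFormMinus 1 F a b v) := by
  rw [Matrix.det_fin_two, QuadraticAlgebra.algebraMap_eq]
  unfold Cfsg.quadFormMinus
  ext <;> simp [hmC] <;> ring

/-- The action `X ↦ g X gᴴ` on Hermitian matrices. -/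
def hmAct (g : Matrix (Fin 2) (Fin 2) (QuadraticAlgebra F (-b) a)) :
    Module.End F ((Fin 1 ⊕ Fin 1) ⊕ Fin 2 → F) where
  toFun v := hmK a b (g * hmC a b v * gᴴ)
  map_add' u v := by rw [map_add, mul_add, add_mul, map_add]
  map_smul' c v := by
    rw [map_smul, Matrix.mul_smul, Matrix.smul_mul, map_smul]
    rfl

theorem hmAct_apply (g : Matrix (Fin 2) (Fin 2) (QuadraticAlgebra F (-b) a))
    (v : (Fin 1 ⊕ Fin 1) ⊕ Fin 2 → F) : hmAct a b g v = hmK a b (g * hmC a b v * gᴴ) := rfl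

theorem hmC_Act (h : ¬ (a = 0 ∧ (2 : F) = 0))
    (g : Matrix (Fin 2) (Fin 2) (QuadraticAlgebra F (-b) a))
    (v : (Fin 1 ⊕ Fin 1) ⊕ Fin 2 → F) : hmC a b (hmAct a b g v) = g * hmC a b v * gᴴ := by
  rw [hmAct_apply, hmC_K a b h _ (Matrix.isHermitian_mul_mul_conjTranspose g (hmC_isHermitian a b v))]

theorem hmAct_one : hmAct a b (1 : Matrix (Fin 2) (Fin 2) (QuadraticAlgebra F (-b) a)) = 1 := by
  apply LinearMap.ext
  intro v
  rw [hmAct_apply, Matrix.conjTranspose_one, one_mul, mul_one, hmK_C]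
  rfl

theorem hmAct_mul (h : ¬ (a = 0 ∧ (2 : F) = 0))
    (g k : Matrix (Fin 2) (Fin 2) (QuadraticAlgebra F (-b) a)) :
    hmAct a b (g * k) = hmAct a b g * hmAct a b k := by
  apply LinearMap.ext
  intro v
  rw [Module.End.mul_apply, hmAct_apply, hmAct_apply, hmC_Act a b h, Matrix.conjTranspose_mul]
  simp only [mul_assoc]

theorem hmAct_quad (h : ¬ (a = 0 ∧ (2 : F) = 0))
    (g : Matrix (Fin 2) (Fin 2) (QuadraticAlgebra F (-b) a)) (hg : g.det = 1)
    (v : (Fin 1 ⊕ Fin 1) ⊕ Fin 2 → F) :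
    Cfsg.quadFormMinus 1 F a b (hmAct a b g v) = Cfsg.quadFormMinus 1 F a b v := by
  have h1 := hmC_det a b (hmAct a b g v)
  rw [hmC_Act a b h, Matrix.det_mul, Matrix.det_mul, Matrix.det_conjTranspose, hg, star_one,
    one_mul, mul_one, hmC_det] at h1
  have h2 := QuadraticAlgebra.algebraMap_injective h1
  exact (neg_injective h2).symm

/-- The representation of `SL₂` of the quadratic extension on Hermitian matrices. -/
def hmHom (h : ¬ (a = 0 ∧ (2 : F) = 0)) :
    Matrix.SpecialLinearGroup (Fin 2) (QuadraticAlgebra F (-b) a) →*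
      Module.End F ((Fin 1 ⊕ Fin 1) ⊕ Fin 2 → F) where
  toFun g := hmAct a b (g : Matrix (Fin 2) (Fin 2) (QuadraticAlgebra F (-b) a))
  map_one' := by
    rw [Matrix.SpecialLinearGroup.coe_one, hmAct_one]
  map_mul' g k := by
    rw [Matrix.SpecialLinearGroup.coe_mul, hmAct_mul a b h]

/-- The homomorphism `SL₂(q²) → O⁻₄(q)`. -/
noncomputable def o4mIso (h : ¬ (a = 0 ∧ (2 : F) = 0)) :
    Matrix.SpecialLinearGroup (Fin 2) (QuadraticAlgebra F (-b) a) →*
      isoU F (Cfsg.quadFormMinus 1 F a b) :=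
  isoUHom _ (hmHom a b h) (fun g v => hmAct_quad a b h _ g.2 v)

theorem o4mIso_coe (h : ¬ (a = 0 ∧ (2 : F) = 0))
    (g : Matrix.SpecialLinearGroup (Fin 2) (QuadraticAlgebra F (-b) a)) :
    (((o4mIso a b h g : isoU F (Cfsg.quadFormMinus 1 F a b)) :
      (Module.End F ((Fin 1 ⊕ Fin 1) ⊕ Fin 2 → F))ˣ) :
      Module.End F ((Fin 1 ⊕ Fin 1) ⊕ Fin 2 → F)) =
    hmAct a b (g : Matrix (Fin 2) (Fin 2) (QuadraticAlgebra F (-b) a)) := rfl

/-- A transvection acts non-trivially. -/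
theorem o4mIso_ker_ne_top (h : ¬ (a = 0 ∧ (2 : F) = 0)) : (o4mIso a b h).ker ≠ ⊤ := by
  intro htop
  have hT : Matrix.SpecialLinearGroup.transvection (i := (0 : Fin 2)) (j := 1) (by decide)
      (1 : QuadraticAlgebra F (-b) a) ∈ (o4mIso a b h).ker := by
    rw [htop]
    exact Subgroup.mem_top _
  rw [MonoidHom.mem_ker] at hT
  have h1 : hmAct a b ((Matrix.SpecialLinearGroup.transvection (i := (0 : Fin 2)) (j := 1)
      (by decide) (1 : QuadraticAlgebra F (-b) a) :
      Matrix.SpecialLinearGroup (Fin 2) (QuadraticAlgebra F (-b) a)) :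
      Matrix (Fin 2) (Fin 2) (QuadraticAlgebra F (-b) a)) = 1 := by
    rw [← o4mIso_coe a b h, hT]
    rfl
  have h2 := congrFun (LinearMap.congr_fun h1 (Pi.single (Sum.inl (Sum.inr 0)) 1))
    (Sum.inl (Sum.inl 0))
  rw [hmAct_apply, Matrix.SpecialLinearGroup.transvection_coe] at h2
  simp [hmK, hmC, Matrix.mul_apply, Fin.sum_univ_two, Matrix.single_apply, Matrix.one_apply,
    Matrix.add_apply, Matrix.conjTranspose_apply] at h2

end o4minus

end Cfsg.Agent.Helper5
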