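import Mathlib
import Cfsg.Agent.Helper5.OrthForms
import Cfsg.Agent.Helper5.NormOne

set_option autoImplicit false
set_option linter.unusedSimpArgs false
set_option linter.unusedSectionVars false

namespace Cfsg.Agent.Helper5

open Matrix

section minus
variable {F : Type*} [Field F] {m : ℕ} (a b : F)

/-- The minus type form as a quadratic form. -/
noncomputable def minusQF (m : ℕ) (F : Type*) [Field F] (a b : F) :
    QuadraticForm F ((Fin m ⊕ Fin m) ⊕ Fin 2 → F) :=
  (∑ i : Fin m, QuadraticMap.linMulLin (LinearMap.proj (Sum.inl (Sum.inl i)))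
    (LinearMap.proj (Sum.inl (Sum.inr i)))) +
  (QuadraticMap.linMulLin (LinearMap.proj (Sum.inr 0)) (LinearMap.proj (Sum.inr 0)) +
   a • QuadraticMap.linMulLin (LinearMap.proj (Sum.inr 0)) (LinearMap.proj (Sum.inr 1)) +
   b • QuadraticMap.linMulLin (LinearMap.proj (Sum.inr 1)) (LinearMap.proj (Sum.inr 1)))

theorem minusQF_apply (v : (Fin m ⊕ Fin m) ⊕ Fin 2 → F) :
    minusQF m F a b v = Cfsg.quadFormMinus m F a b v := by
  unfold minusQF Cfsg.quadFormMinus
  simp only [_root_.add_apply, _root_.sum_apply, _root_.smul_apply,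
    QuadraticMap.linMulLin_apply, LinearMap.proj_apply, smul_eq_mul]
  ring

theorem minus_Q_e (v : (Fin m ⊕ Fin m) ⊕ Fin 2 → F) (t : F) (i : Fin m) :
    Cfsg.quadFormMinus m F a b (v + t • Pi.single (Sum.inl (Sum.inl i)) 1) =
      Cfsg.quadFormMinus m F a b v + t * v (Sum.inl (Sum.inr i)) := by
  unfold Cfsg.quadFormMinus
  simp only [Pi.add_apply, Pi.smul_apply, Pi.single_apply, smul_eq_mul, Sum.inr.injEq, Sum.inl.injEq,
    reduceCtorEq, if_false, mul_zero, add_zero, add_mul, Finset.sum_add_distrib, mul_ite, mul_one,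
    ite_mul, zero_mul, Finset.sum_ite_eq', Finset.mem_univ, if_true]
  ring_nf

theorem minus_Q_f (v : (Fin m ⊕ Fin m) ⊕ Fin 2 → F) (t : F) (i : Fin m) :
    Cfsg.quadFormMinus m F a b (v + t • Pi.single (Sum.inl (Sum.inr i)) 1) =
      Cfsg.quadFormMinus m F a b v + t * v (Sum.inl (Sum.inl i)) := by
  unfold Cfsg.quadFormMinus
  simp only [Pi.add_apply, Pi.smul_apply, Pi.single_apply, smul_eq_mul, Sum.inr.injEq, Sum.inl.injEq,
    reduceCtorEq, if_false, mul_zero, add_zero, mul_add, Finset.sum_add_distrib, mul_ite, mul_one,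
    Finset.sum_ite_eq', Finset.mem_univ, if_true]
  ring_nf

theorem minus_Q_ker (x : (Fin m ⊕ Fin m) ⊕ Fin 2 → F)
    (hx : ∀ i : Fin m, x (Sum.inl (Sum.inl i)) = 0 ∧ x (Sum.inl (Sum.inr i)) = 0) :
    Cfsg.quadFormMinus m F a b x =
      x (Sum.inr 0) ^ 2 + a * x (Sum.inr 0) * x (Sum.inr 1) + b * x (Sum.inr 1) ^ 2 := by
  unfold Cfsg.quadFormMinus
  rw [Finset.sum_eq_zero (fun i _ => by rw [(hx i).1, zero_mul]), zero_add]

theorem minus_ker_ext (x y : (Fin m ⊕ Fin m) ⊕ Fin 2 → F)
    (hx : ∀ i : Fin m, x (Sum.inl (Sum.inl i)) = 0 ∧ x (Sum.inl (Sum.inr i)) = 0)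
    (hy : ∀ i : Fin m, y (Sum.inl (Sum.inl i)) = 0 ∧ y (Sum.inl (Sum.inr i)) = 0)
    (h0 : x (Sum.inr 0) = y (Sum.inr 0)) (h1 : x (Sum.inr 1) = y (Sum.inr 1)) : x = y := by
  funext c
  rcases c with (c | c) | c
  · rw [(hx c).1, (hy c).1]
  · rw [(hx c).2, (hy c).2]
  · fin_cases c
    · exact h0
    · exact h1

theorem minus_polar_z0 (v : (Fin m ⊕ Fin m) ⊕ Fin 2 → F) :
    Helper13.PB (minusQF m F a b) (Pi.single (Sum.inr 0) 1) v =
      2 * v (Sum.inr 0) + a * v (Sum.inr 1) := by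
  rw [Helper13.PB_apply, QuadraticMap.polar, minusQF_apply, minusQF_apply, minusQF_apply]
  unfold Cfsg.quadFormMinus
  simp [Pi.single_apply]
  ring

theorem minus_polar_z1 (v : (Fin m ⊕ Fin m) ⊕ Fin 2 → F) :
    Helper13.PB (minusQF m F a b) (Pi.single (Sum.inr 1) 1) v =
      a * v (Sum.inr 0) + 2 * b * v (Sum.inr 1) := by
  rw [Helper13.PB_apply, QuadraticMap.polar, minusQF_apply, minusQF_apply, minusQF_apply]
  unfold Cfsg.quadFormMinus
  simp [Pi.single_apply]
  ring

variable [Finite F]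
variable (hab : ∀ z₁ z₂ : F, z₁ ^ 2 + a * z₁ * z₂ + b * z₂ ^ 2 = 0 → z₁ = 0 ∧ z₂ = 0)

/-- The hyperbolic system of the minus type form. -/
noncomputable def minusSys (m : ℕ)
    (hab : ∀ z₁ z₂ : F, z₁ ^ 2 + a * z₁ * z₂ + b * z₂ ^ 2 = 0 → z₁ = 0 ∧ z₂ = 0) :
    HypSys F ((Fin m ⊕ Fin m) ⊕ Fin 2) m (Cfsg.quadFormMinus m F a b) where
  QF := minusQF m F a b
  hQF := minusQF_apply a b
  nondeg := nondeg_of (minusQF m F a b) (minusQF_apply a b) (fun i => Sum.inl (Sum.inl i))
    (fun i => Sum.inl (Sum.inr i)) (minus_Q_e a b) (minus_Q_f a b) (by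
    intro x hx hxy
    have h0 := hxy (Pi.single (Sum.inr 0) 1)
    have h1 := hxy (Pi.single (Sum.inr 1) 1)
    rw [Helper13.wq_comm, minus_polar_z0] at h0
    rw [Helper13.wq_comm, minus_polar_z1] at h1
    have hd := aniso_disc_ne_zero a b hab
    have e0 : (4 * b - a ^ 2) * x (Sum.inr 0) = 0 := by linear_combination (2 * b) * h0 - a * h1
    have e1 : (4 * b - a ^ 2) * x (Sum.inr 1) = 0 := by linear_combination 2 * h1 - a * h0
    exact minus_ker_ext x 0 hx (fun _ => ⟨rfl, rfl⟩) ((mul_eq_zero.1 e0).resolve_left hd)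
      ((mul_eq_zero.1 e1).resolve_left hd))
  e := fun i => Sum.inl (Sum.inl i)
  f := fun i => Sum.inl (Sum.inr i)
  e_inj := fun a b h => by simpa using h
  f_inj := fun a b h => by simpa using h
  e_ne_f := fun _ _ h => by simp at h
  Q_e := minus_Q_e a b
  Q_f := minus_Q_f a b

theorem minus_mem_W_univ (v : (Fin m ⊕ Fin m) ⊕ Fin 2 → F) :
    v ∈ (minusSys a b m hab).W Finset.univ ↔
      ∀ i : Fin m, v (Sum.inl (Sum.inl i)) = 0 ∧ v (Sum.inl (Sum.inr i)) = 0 :=
  ⟨fun h i => h i (Finset.mem_univ i), fun h i _ => h i⟩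

theorem minus_pair_mem (c : F × F) :
    (Pi.single (Sum.inr 0) c.1 + Pi.single (Sum.inr 1) c.2 : (Fin m ⊕ Fin m) ⊕ Fin 2 → F) ∈
      (minusSys a b m hab).W Finset.univ := by
  rw [minus_mem_W_univ]
  intro i
  simp

/-- The anisotropic kernel of the minus type form is a plane. -/
def minusWEquiv : (minusSys a b m hab).W Finset.univ ≃ F × F where
  toFun v := (v.1 (Sum.inr 0), v.1 (Sum.inr 1))
  invFun c := ⟨Pi.single (Sum.inr 0) c.1 + Pi.single (Sum.inr 1) c.2, minus_pair_mem a b hab c⟩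
  left_inv v := by
    apply Subtype.ext
    refine minus_ker_ext _ _ ((minus_mem_W_univ a b hab _).1 (minus_pair_mem a b hab _))
      ((minus_mem_W_univ a b hab _).1 v.2) ?_ ?_
    · simp
    · simp
  right_inv c := by
    apply Prod.ext
    · simp
    · simp

theorem minus_inl_mem_T (c : Fin m ⊕ Fin m) :
    (Sum.inl c : (Fin m ⊕ Fin m) ⊕ Fin 2) ∈ (minusSys a b m hab).T Finset.univ := by
  rw [HypSys.mem_T]
  rcases c with c | c
  · exact ⟨c, Finset.mem_univ c, Or.inl rfl⟩
  · exact ⟨c, Finset.mem_univ c, Or.inr rfl⟩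

theorem minus_inr_notMem_T (c : Fin 2) :
    (Sum.inr c : (Fin m ⊕ Fin m) ⊕ Fin 2) ∉ (minusSys a b m hab).T Finset.univ := by
  rw [HypSys.mem_T]
  rintro ⟨i, -, h | h⟩
  · exact Sum.inr_ne_inl h
  · exact Sum.inr_ne_inl h

/-- The vectors of norm one in the anisotropic kernel. -/
def minusNormSet : Set ((Fin m ⊕ Fin m) ⊕ Fin 2 → F) :=
  {y | y ∈ (minusSys a b m hab).W Finset.univ ∧ Cfsg.quadFormMinus m F a b y = 1}

theorem minus_Q_single0 :
    Cfsg.quadFormMinus m F a b (Pi.single (Sum.inr 0) 1) = 1 := by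
  rw [minus_Q_ker a b _ (by intro i; simp)]
  simp

theorem minus_Q_single1 :
    Cfsg.quadFormMinus m F a b (Pi.single (Sum.inr 1) 1) = b := by
  rw [minus_Q_ker a b _ (by intro i; simp)]
  simp

theorem minus_single_mem_W (c : Fin 2) :
    (Pi.single (Sum.inr c) 1 : (Fin m ⊕ Fin m) ⊕ Fin 2 → F) ∈
      (minusSys a b m hab).W Finset.univ := by
  rw [minus_mem_W_univ]
  intro i
  simp

theorem minus_orbit :
    MulAction.orbit (oFixI F (Cfsg.quadFormMinus m F a b) ((minusSys a b m hab).T Finset.univ))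
      (Pi.single (Sum.inr 0) 1 : (Fin m ⊕ Fin m) ⊕ Fin 2 → F) = minusNormSet a b hab (m := m) := by
  ext v
  constructor
  · rintro ⟨g, rfl⟩
    change g • _ ∈ _
    rw [oFixI_smul]
    refine ⟨(minusSys a b m hab).fix_mem_W Finset.univ g.1 g.2 _ (minus_single_mem_W a b hab 0), ?_⟩
    rw [(mem_isometryGroup_iff _ _).1 g.2.1, minus_Q_single0]
  · rintro ⟨hv, hQv⟩
    have hv' := (minus_mem_W_univ a b hab v).1 hv
    have hex : ∃ c, c ∉ (minusSys a b m hab).T Finset.univ ∧ v c ≠ 0 := by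
      by_contra hcon
      push Not at hcon
      have h0 := hcon _ (minus_inr_notMem_T a b hab (m := m) 0)
      have h1 := hcon _ (minus_inr_notMem_T a b hab (m := m) 1)
      rw [minus_Q_ker a b v hv', h0, h1] at hQv
      simp at hQv
    obtain ⟨g, hg, h1⟩ := exists_oFixI_map (Cfsg.quadFormMinus m F a b) (minusSys a b m hab).QF
      (minusSys a b m hab).hQF (minusSys a b m hab).nondeg ((minusSys a b m hab).T Finset.univ)
      (Pi.single (Sum.inr 0) 1) v
      ⟨Sum.inr 0, minus_inr_notMem_T a b hab 0, by rw [Pi.single_eq_same]; exact one_ne_zero⟩ hex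
      (by rw [hQv, minus_Q_single0])
      (fun c hc => by
        obtain ⟨i, hi, rfl | rfl⟩ := ((minusSys a b m hab).mem_T _ c).1 hc
        · rw [(minusSys a b m hab).polar_e, (minusSys a b m hab).polar_e, (hv i hi).2,
            (minus_single_mem_W a b hab 0 i hi).2]
        · rw [(minusSys a b m hab).polar_f, (minusSys a b m hab).polar_f, (hv i hi).1,
            (minus_single_mem_W a b hab 0 i hi).1])
    refine ⟨⟨g, hg⟩, ?_⟩
    change (⟨g, hg⟩ : oFixI F (Cfsg.quadFormMinus m F a b) ((minusSys a b m hab).T Finset.univ)) • _ = v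
    rw [oFixI_smul]
    exact h1

end minus

section minusCount
variable {F : Type*} [Field F] [Fintype F] {m : ℕ} (a b : F)
variable (hab : ∀ z₁ z₂ : F, z₁ ^ 2 + a * z₁ * z₂ + b * z₂ ^ 2 = 0 → z₁ = 0 ∧ z₂ = 0)

open QuadraticAlgebra in
/-- The norm one vectors of the anisotropic plane are the norm one elements of the quadratic
extension. -/
def minusNormEquiv : minusNormSet a b hab (m := m) ≃
    {z : QuadraticAlgebra F (-b) a // QuadraticAlgebra.norm z = 1} where
  toFun y := ⟨⟨y.1 (Sum.inr 0), y.1 (Sum.inr 1)⟩, by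
    have h := y.2.2
    rw [minus_Q_ker a b _ ((minus_mem_W_univ a b hab _).1 y.2.1)] at h
    rw [QuadraticAlgebra.norm_def]
    linear_combination h⟩
  invFun z := ⟨Pi.single (Sum.inr 0) z.1.re + Pi.single (Sum.inr 1) z.1.im,
    minus_pair_mem a b hab (z.1.re, z.1.im), by
      have h := z.2
      rw [QuadraticAlgebra.norm_def] at h
      rw [minus_Q_ker a b _
        ((minus_mem_W_univ a b hab _).1 (minus_pair_mem a b hab (z.1.re, z.1.im)))]
      simp
      linear_combination h⟩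
  left_inv y := by
    apply Subtype.ext
    refine minus_ker_ext _ _ ((minus_mem_W_univ a b hab _).1
      (minus_pair_mem a b hab (y.1 (Sum.inr 0), y.1 (Sum.inr 1))))
      ((minus_mem_W_univ a b hab _).1 y.2.1) ?_ ?_
    · simp
    · simp
  right_inv z := by
    apply Subtype.ext
    ext <;> simp

/-- The reflection fixing the first basis vector of the anisotropic plane. -/
def minusSigma (m : ℕ) {F : Type*} [Field F] (a : F) :
    ((Fin m ⊕ Fin m) ⊕ Fin 2 → F) →ₗ[F] ((Fin m ⊕ Fin m) ⊕ Fin 2 → F) where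
  toFun v c := if c = Sum.inr 0 then v (Sum.inr 0) + a * v (Sum.inr 1)
    else if c = Sum.inr 1 then -v (Sum.inr 1) else v c
  map_add' v w := by
    funext c
    simp only [Pi.add_apply]
    split_ifs <;> ring
  map_smul' t v := by
    funext c
    simp only [Pi.smul_apply, smul_eq_mul, RingHom.id_apply]
    split_ifs <;> ring

omit [Fintype F] in
theorem minusSigma_apply (v : (Fin m ⊕ Fin m) ⊕ Fin 2 → F) (c : (Fin m ⊕ Fin m) ⊕ Fin 2) :
    minusSigma m a v c = if c = Sum.inr 0 then v (Sum.inr 0) + a * v (Sum.inr 1)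
      else if c = Sum.inr 1 then -v (Sum.inr 1) else v c := rfl

omit [Fintype F] in
theorem minusSigma_invol : Function.Involutive (minusSigma m a) := by
  intro v
  funext c
  simp only [minusSigma_apply]
  by_cases h0 : c = Sum.inr 0
  · subst h0
    simp
  · by_cases h1 : c = Sum.inr 1
    · subst h1
      simp
    · simp [h0, h1]

omit [Fintype F] in
theorem minusSigma_single (c : (Fin m ⊕ Fin m) ⊕ Fin 2) (hc : c ≠ Sum.inr 1) :
    minusSigma m a (Pi.single c 1) = Pi.single c 1 := by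
  funext c'
  rw [minusSigma_apply]
  have h1 : (Pi.single c 1 : (Fin m ⊕ Fin m) ⊕ Fin 2 → F) (Sum.inr 1) = 0 := by
    rw [Pi.single_apply, if_neg (fun h => hc h.symm)]
  by_cases h0 : c' = Sum.inr 0
  · subst h0
    rw [if_pos rfl, h1, mul_zero, add_zero]
  · by_cases h1' : c' = Sum.inr 1
    · subst h1'
      rw [if_neg h0, if_pos rfl, h1, neg_zero]
    · rw [if_neg h0, if_neg h1']

/-- The reflection as an element of `GL`. -/
noncomputable def minusS (m : ℕ) {F : Type*} [Field F] (a : F) :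
    Matrix.GeneralLinearGroup ((Fin m ⊕ Fin m) ⊕ Fin 2) F :=
  Classical.choose (exists_GL_of_linearEquiv
    (LinearEquiv.ofInvolutive (minusSigma m a) (minusSigma_invol a)))

omit [Fintype F] in
theorem minusS_mulVec (x : (Fin m ⊕ Fin m) ⊕ Fin 2 → F) :
    ((minusS m a : Matrix.GeneralLinearGroup ((Fin m ⊕ Fin m) ⊕ Fin 2) F) :
      Matrix ((Fin m ⊕ Fin m) ⊕ Fin 2) ((Fin m ⊕ Fin m) ⊕ Fin 2) F) *ᵥ x = minusSigma m a x :=
  Classical.choose_spec (exists_GL_of_linearEquiv
    (LinearEquiv.ofInvolutive (minusSigma m a) (minusSigma_invol a))) x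

theorem minusS_mem :
    minusS m a ∈ oFixI F (Cfsg.quadFormMinus m F a b)
      (insert (Sum.inr 0) ((minusSys a b m hab).T Finset.univ)) := by
  refine ⟨?_, ?_⟩
  · rw [mem_isometryGroup_iff]
    intro u
    rw [minusS_mulVec]
    unfold Cfsg.quadFormMinus
    simp only [minusSigma_apply]
    simp
    ring
  · intro c hc
    rw [minusS_mulVec]
    apply minusSigma_single
    rintro rfl
    rw [Finset.mem_insert] at hc
    rcases hc with hc | hc
    · simp at hc
    · exact minus_inr_notMem_T a b hab 1 hc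

include hab in
theorem minus_two_sol (α β : F) (E1 : 2 * α + a * β = a)
    (E2 : α ^ 2 + a * α * β + b * β ^ 2 = b) : (α = 0 ∧ β = 1) ∨ (α = a ∧ β = -1) := by
  have hd := aniso_disc_ne_zero a b hab
  by_cases h2 : (2 : F) = 0
  · have ha : a ≠ 0 := fun ha => aniso_not_both a b hab ⟨ha, h2⟩
    have hβ : β = 1 := by
      have : a * (β - 1) = 0 := by linear_combination E1 - α * h2
      rcases mul_eq_zero.1 this with h | h
      · exact absurd h ha
      · exact sub_eq_zero.1 h
    subst hβ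
    have : α * (α + a) = 0 := by linear_combination E2
    rcases mul_eq_zero.1 this with h | h
    · exact Or.inl ⟨h, rfl⟩
    · right
      constructor
      · linear_combination h - a * h2
      · linear_combination h2
  · have h4 : (β - 1) * (β + 1) * (4 * b - a ^ 2) = 0 := by
      linear_combination 4 * E2 - (2 * α + a + a * β) * E1
    rcases mul_eq_zero.1 h4 with h | h
    · rcases mul_eq_zero.1 h with h | h
      · have hβ : β = 1 := sub_eq_zero.1 h
        subst hβ
        left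
        refine ⟨?_, rfl⟩
        have : 2 * α = 0 := by linear_combination E1
        exact (mul_eq_zero.1 this).resolve_left h2
      · have hβ : β = -1 := eq_neg_of_add_eq_zero_left h
        subst hβ
        right
        refine ⟨?_, rfl⟩
        have : 2 * (α - a) = 0 := by linear_combination E1
        exact sub_eq_zero.1 ((mul_eq_zero.1 this).resolve_left h2)
    · exact absurd h hd

theorem minus_stab_cases (g : Matrix.GeneralLinearGroup ((Fin m ⊕ Fin m) ⊕ Fin 2) F)
    (hg : g ∈ oFixI F (Cfsg.quadFormMinus m F a b)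
      (insert (Sum.inr 0) ((minusSys a b m hab).T Finset.univ))) :
    g = 1 ∨ g = minusS m a := by
  have hgT : g ∈ oFixI F (Cfsg.quadFormMinus m F a b) ((minusSys a b m hab).T Finset.univ) :=
    oFixI_mono _ _ _ (Finset.subset_insert _ _) hg
  set w := (g : Matrix ((Fin m ⊕ Fin m) ⊕ Fin 2) ((Fin m ⊕ Fin m) ⊕ Fin 2) F) *ᵥ
    Pi.single (Sum.inr 1) 1 with hw
  have hwW : w ∈ (minusSys a b m hab).W Finset.univ :=
    (minusSys a b m hab).fix_mem_W Finset.univ g hgT _ (minus_single_mem_W a b hab 1)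
  have hwW' := (minus_mem_W_univ a b hab w).1 hwW
  have E2 : w (Sum.inr 0) ^ 2 + a * w (Sum.inr 0) * w (Sum.inr 1) + b * w (Sum.inr 1) ^ 2 = b := by
    rw [← minus_Q_ker a b w hwW', hw, (mem_isometryGroup_iff _ _).1 hg.1, minus_Q_single1]
  have E1 : 2 * w (Sum.inr 0) + a * w (Sum.inr 1) = a := by
    have := iso_polar (Cfsg.quadFormMinus m F a b) (minusQF m F a b) (minusQF_apply a b) g hg.1
      (Pi.single (Sum.inr 0) 1) (Pi.single (Sum.inr 1) 1)
    rw [hg.2 (Sum.inr 0) (Finset.mem_insert_self _ _), minus_polar_z0, minus_polar_z0] at this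
    have e0 : (Pi.single (Sum.inr 1) 1 : (Fin m ⊕ Fin m) ⊕ Fin 2 → F) (Sum.inr 0) = 0 := by simp
    have e1 : (Pi.single (Sum.inr 1) 1 : (Fin m ⊕ Fin m) ⊕ Fin 2 → F) (Sum.inr 1) = 1 := by simp
    rw [e0, e1, mul_zero, zero_add, mul_one] at this
    exact this
  have hfix0 : ∀ c : (Fin m ⊕ Fin m) ⊕ Fin 2, c ≠ Sum.inr 1 →
      (g : Matrix ((Fin m ⊕ Fin m) ⊕ Fin 2) ((Fin m ⊕ Fin m) ⊕ Fin 2) F) *ᵥ Pi.single c 1 =
        Pi.single c 1 := by
    intro c hc
    rcases c with c | c
    · exact hg.2 _ (Finset.mem_insert_of_mem (minus_inl_mem_T a b hab c))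
    · fin_cases c
      · exact hg.2 _ (Finset.mem_insert_self _ _)
      · exact absurd rfl hc
  rcases minus_two_sol a b hab _ _ E1 E2 with ⟨h0, h1⟩ | ⟨h0, h1⟩
  · left
    apply Units.ext
    apply Matrix.ext_of_mulVec_single
    intro c
    rw [Units.val_one, Matrix.one_mulVec]
    by_cases hc : c = Sum.inr 1
    · subst hc
      refine minus_ker_ext _ _ hwW' ((minus_mem_W_univ a b hab _).1 (minus_single_mem_W a b hab 1))
        ?_ ?_
      · exact h0.trans (by simp)
      · exact h1.trans (by simp)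
    · exact hfix0 c hc
  · right
    apply Units.ext
    apply Matrix.ext_of_mulVec_single
    intro c
    by_cases hc : c = Sum.inr 1
    · subst hc
      rw [minusS_mulVec]
      refine minus_ker_ext _ _ hwW' ?_ ?_ ?_
      · intro i
        simp [minusSigma_apply]
      · exact h0.trans (by rw [minusSigma_apply]; simp)
      · exact h1.trans (by rw [minusSigma_apply]; simp)
    · rw [hfix0 c hc, minusS_mulVec, minusSigma_single a c hc]

include hab in
theorem minusS_ne_one : minusS m a ≠ 1 := by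
  intro h
  have h1 := congrArg (fun g : Matrix.GeneralLinearGroup ((Fin m ⊕ Fin m) ⊕ Fin 2) F =>
    (g : Matrix ((Fin m ⊕ Fin m) ⊕ Fin 2) ((Fin m ⊕ Fin m) ⊕ Fin 2) F) *ᵥ
      Pi.single (Sum.inr 1) 1) h
  simp only [minusS_mulVec, Units.val_one, Matrix.one_mulVec] at h1
  have e0 := congrFun h1 (Sum.inr 0)
  have e1 := congrFun h1 (Sum.inr 1)
  rw [minusSigma_apply] at e0 e1
  simp at e0 e1
  apply aniso_not_both a b hab
  refine ⟨e0, ?_⟩
  linear_combination -e1

theorem card_minus_stab :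
    Nat.card (oFixI F (Cfsg.quadFormMinus m F a b)
      (insert (Sum.inr 0) ((minusSys a b m hab).T Finset.univ))) = 2 := by
  rw [Nat.card_eq_two_iff]
  refine ⟨1, ⟨minusS m a, minusS_mem a b hab⟩, ?_, ?_⟩
  · intro h
    exact minusS_ne_one a b hab (congrArg Subtype.val h).symm
  · ext g
    simp only [Set.mem_insert_iff, Set.mem_singleton_iff, Set.mem_univ, iff_true]
    rcases minus_stab_cases a b hab g.1 g.2 with h | h
    · exact Or.inl (Subtype.ext h)
    · exact Or.inr (Subtype.ext h)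

/-- The order of the isometry group of the anisotropic plane, inside `GO⁻`. -/
theorem card_minus_fix :
    Nat.card (oFixI F (Cfsg.quadFormMinus m F a b) ((minusSys a b m hab).T Finset.univ)) =
      (Fintype.card F + 1) * 2 := by
  rw [card_oFixI_step _ _ (Sum.inr 0) _ (minus_orbit a b hab),
    Nat.card_congr (minusNormEquiv a b hab), card_norm_one_quadAlg a b hab, card_minus_stab]

omit [Fintype F] in
theorem minus_arith (q n : ℕ) (hq : 1 ≤ q) :
    (∏ k ∈ Finset.range n, ((q ^ (k + 1) - 1) * (q ^ (k + 2) + 1) * q ^ (2 * k + 2))) *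
        ((q + 1) * 2) =
      2 * q ^ ((n + 1) * n) * (q ^ (n + 1) + 1) *
        ∏ i ∈ Finset.range n, (q ^ (2 * (i + 1)) - 1) := by
  induction n with
  | zero => simp; ring
  | succ n ih =>
    rw [Finset.prod_range_succ, Finset.prod_range_succ (fun i => q ^ (2 * (i + 1)) - 1),
      pow_two_mul_sub_one q (n + 1) hq]
    have e : (n + 1 + 1) * (n + 1) = (n + 1) * n + (2 * n + 2) := by ring
    rw [e, pow_add]
    calc _ = (∏ k ∈ Finset.range n, ((q ^ (k + 1) - 1) * (q ^ (k + 2) + 1) * q ^ (2 * k + 2))) *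
          ((q + 1) * 2) * ((q ^ (n + 1) - 1) * (q ^ (n + 2) + 1) * q ^ (2 * n + 2)) := by ring
      _ = _ := by rw [ih]; ring

include hab in
/-- The order of `GO⁻_{2m}(q)`. -/
theorem card_GO_minus (m : ℕ) (hm : 1 ≤ m) :
    Nat.card (Cfsg.isometryGroup F (Cfsg.quadFormMinus (m - 1) F a b)) =
      2 * Fintype.card F ^ (m * (m - 1)) * (Fintype.card F ^ m + 1) *
        ∏ i ∈ Finset.range (m - 1), (Fintype.card F ^ (2 * (i + 1)) - 1) := by
  obtain ⟨n, rfl⟩ : ∃ n, m = n + 1 := ⟨m - 1, by omega⟩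
  change Nat.card (Cfsg.isometryGroup F (Cfsg.quadFormMinus n F a b)) = _
  rw [(minusSys a b n hab).card_isometryGroup 2
    (by rw [Nat.card_congr (minusWEquiv a b hab), Nat.card_prod, Nat.card_eq_fintype_card, pow_two])
    (fun v hv hQ => by
      rw [minus_mem_W_univ] at hv
      rw [minus_Q_ker a b v hv] at hQ
      obtain ⟨h0, h1⟩ := hab _ _ hQ
      exact minus_ker_ext v 0 hv (fun _ => ⟨rfl, rfl⟩) h0 h1),
    card_minus_fix a b hab, minus_arith _ _ Fintype.card_pos]
  rfl

end minusCount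

end Cfsg.Agent.Helper5
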