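import Cfsg.Agent.Helper5.DkMax3
import Cfsg.Agent.Helper3.Burnside2
import Cfsg.Agent.S0300
import Cfsg.Agent.S0805

set_option autoImplicit false
set_option linter.unusedSimpArgs false
set_option linter.unusedSectionVars false

/-!
# Solvability tools for subgroups of `PSL₂(q)`
-/

namespace Cfsg.Agent.Helper5

open Matrix

/-- A group in which commutators commute is solvable. -/
theorem MetabLaw.isSolvable {G : Type*} [Group G] (h : MetabLaw G) : Group.IsSolvable G := by
  have hS : ∀ x ∈ commutatorSet G, ∀ y ∈ commutatorSet G, x * y = y * x := by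
    rintro x ⟨a, b, rfl⟩ y ⟨c, d, rfl⟩
    rw [commutatorElement_def, commutatorElement_def]
    exact h a b c d
  have hc : ∀ a b : commutator G, a * b = b * a := by
    rw [commutator_eq_closure]
    intro a b
    exact (Subgroup.isMulCommutative_closure hS).is_comm.comm a b
  have h1 : Group.IsSolvable (commutator G) := Group.isSolvable_of_comm hc
  have h2 : Group.IsSolvable (G ⧸ commutator G) :=
    Group.isSolvable_of_comm (fun a b => mul_comm (G := Abelianization G) a b)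
  exact Group.isSolvable_of_ker_le_range (commutator G).subtype
    (QuotientGroup.mk' (commutator G)) (by simp)

/-- Burnside for `2^a 3^b`. -/
theorem isSolvable_of_card_two_three {G : Type*} [Group G] [Finite G] (a b : ℕ)
    (h : Nat.card G = 2 ^ a * 3 ^ b) : Group.IsSolvable G :=
  Cfsg.Agent.Helper3.isSolvable_of_card_eq 2 3 a b Nat.prime_two Nat.prime_three h

theorem isSolvable_of_mulEquiv {G H : Type*} [Group G] [Group H] (e : G ≃* H)
    (h : Group.IsSolvable H) : Group.IsSolvable G :=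
  Group.isSolvable_of_isSolvable_injective (f := e.toMonoidHom) e.injective

/-- `PSL₂(K)` is not solvable when `K` has at least four elements. -/
theorem psl2_not_solvable {K : Type*} [Field K] [Fintype K] (hK : 4 ≤ Fintype.card K) :
    ¬ Group.IsSolvable (Matrix.ProjectiveSpecialLinearGroup (Fin 2) K) := by
  intro h
  obtain ⟨x, hx0, hx⟩ := Cfsg.Agent.S0300.exists_sq_ne_one (L := K) hK
  have h1 := SL2Simple.PSL_commutator_eq_top (F := K) ⟨x, hx0, hx⟩
  have h2 := Group.IsSolvable.commutator_lt_top_of_nontrivial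
    (G := Matrix.ProjectiveSpecialLinearGroup (Fin 2) K)
  rw [h1] at h2
  exact lt_irrefl _ h2

/-- `A₅` is not solvable. -/
theorem alt5_not_solvable : ¬ Group.IsSolvable (alternatingGroup (Fin 5)) := by
  intro h
  exact not_metab_A5 (MetabLaw.of_comm (IsSimpleGroup.comm_iff_isSolvable.2 h))

section cards
variable {F : Type*} [Field F] [Fintype F]

theorem card_PSL2_mul_gcd : Nat.card (Matrix.ProjectiveSpecialLinearGroup (Fin 2) F) *
    Nat.gcd 2 (Fintype.card F - 1) = Fintype.card F * (Fintype.card F ^ 2 - 1) := by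
  obtain ⟨p, hp⟩ := CharP.exists F
  have : Fact p.Prime := ⟨CharP.char_is_prime F p⟩
  rw [← card_PSL2_mul, Cfsg.Agent.Helper41.Dk.card_center_gcd p]

theorem card_PSL2_le : Nat.card (Matrix.ProjectiveSpecialLinearGroup (Fin 2) F) ≤
    Fintype.card F * (Fintype.card F ^ 2 - 1) := by
  rw [← card_PSL2_mul]
  exact Nat.le_mul_of_pos_right _ Nat.card_pos

theorem card_PSL2_ge : Fintype.card F * (Fintype.card F ^ 2 - 1) ≤
    2 * Nat.card (Matrix.ProjectiveSpecialLinearGroup (Fin 2) F) := by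
  rw [← card_PSL2_mul_gcd, mul_comm 2]
  apply Nat.mul_le_mul_left
  exact Nat.le_of_dvd (by norm_num) (Nat.gcd_dvd_left 2 _)

/-- A subgroup of `PSL₂(F)` isomorphic to `PSL₂(K)` or `PGL₂(K)` with `|K| = |F|` is
everything. -/
theorem top_of_equiv_same_card' {K : Type*} [Field K] [Fintype K]
    (hK : Fintype.card K = Fintype.card F)
    (M : Subgroup (Matrix.ProjectiveSpecialLinearGroup (Fin 2) F))
    (h : Nonempty (M ≃* Matrix.ProjectiveSpecialLinearGroup (Fin 2) K) ∨
      Nonempty (M ≃* Matrix.ProjGenLinGroup (Fin 2) K)) : M = ⊤ := by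
  have hF := card_PSL2_mul_gcd (F := F)
  have hKc := card_PSL2_mul_gcd (F := K)
  rw [hK] at hKc
  have hg : 0 < Nat.gcd 2 (Fintype.card F - 1) := Nat.gcd_pos_of_pos_left _ (by norm_num)
  apply Subgroup.eq_top_of_card_eq
  rcases h with ⟨⟨e⟩⟩ | ⟨⟨e⟩⟩
  · rw [Nat.card_congr e.toEquiv]
    exact Nat.eq_of_mul_eq_mul_right hg (hKc.trans hF.symm)
  · have h1 : Nat.card M = Fintype.card F * (Fintype.card F ^ 2 - 1) := by
      rw [Nat.card_congr e.toEquiv, card_PGL2_eq, hK]
    have h3 := Subgroup.card_le_card_group M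
    have h4 : 0 < Nat.card (Matrix.ProjectiveSpecialLinearGroup (Fin 2) F) := Nat.card_pos
    rw [← hF] at h1
    have h5 : Nat.card (Matrix.ProjectiveSpecialLinearGroup (Fin 2) F) * 1 ≤
        Nat.card (Matrix.ProjectiveSpecialLinearGroup (Fin 2) F) *
          Nat.gcd 2 (Fintype.card F - 1) := Nat.mul_le_mul_left _ hg
    omega

/-- Subfield subgroups, in every characteristic. -/
theorem exists_psl_sub {K : Type*} [Field K] [Fintype K] (m : ℕ)
    (hK : Fintype.card K ^ m = Fintype.card F) :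
    ∃ H : Subgroup (Matrix.ProjectiveSpecialLinearGroup (Fin 2) F),
      Nonempty (H ≃* Matrix.ProjectiveSpecialLinearGroup (Fin 2) K) := by
  obtain ⟨φ⟩ := Cfsg.Agent.Helper44.exists_ringHom_of_card_pow (F := K) (K := F) rfl hK.symm
  exact Cfsg.Agent.S0805.exists_subgroup_equiv _
    (Matrix.ProjectiveSpecialLinearGroup.toPGL_injective (n := Fin 2) (R := F))
    ((Cfsg.Agent.S0805.pglMap φ).comp Matrix.ProjectiveSpecialLinearGroup.toPGL)
    ((Cfsg.Agent.S0805.pglMap_injective φ).comp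
      (Matrix.ProjectiveSpecialLinearGroup.toPGL_injective (n := Fin 2) (R := K)))
    (Cfsg.Agent.S0805.range_psl_le φ)

end cards

section arith

theorem two_mul_lt_of_sq_le (k q : ℕ) (hk : 2 ≤ k) (hq : k ^ 2 ≤ q) :
    2 * (k * (k ^ 2 - 1)) < q * (q ^ 2 - 1) := by
  have h1 : 2 * k ≤ q := by nlinarith
  have h2 : k ^ 2 ≤ q ^ 2 - 1 := by
    have : (k + 1) ^ 2 ≤ q ^ 2 := Nat.pow_le_pow_left (by nlinarith) 2
    have : (k + 1) ^ 2 = k ^ 2 + 2 * k + 1 := by ring
    omega
  have h3 : k * (k ^ 2 - 1) < k * k ^ 2 := by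
    apply Nat.mul_lt_mul_of_pos_left _ (by omega)
    have : 1 ≤ k ^ 2 := Nat.one_le_pow _ _ (by omega)
    omega
  calc 2 * (k * (k ^ 2 - 1)) < 2 * (k * k ^ 2) := by omega
    _ = 2 * k * k ^ 2 := by ring
    _ ≤ q * (q ^ 2 - 1) := Nat.mul_le_mul h1 h2

theorem pow_sixteen_mod (j : ℕ) : 16 ^ j % 5 = 1 := by
  rw [Nat.pow_mod]
  simp

theorem pow_eightyone_mod (j : ℕ) : 81 ^ j % 5 = 1 := by
  rw [Nat.pow_mod]
  simp

/-- `(2^r)² ≡ 4 (mod 5)` for odd `r`. -/
theorem two_pow_sq_mod (r : ℕ) (hr : Odd r) : (2 ^ r) ^ 2 % 5 = 4 := by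
  obtain ⟨j, rfl⟩ := hr
  have : (2 ^ (2 * j + 1)) ^ 2 = 16 ^ j * 4 := by
    rw [← pow_mul, show (2 * j + 1) * 2 = 4 * j + 2 by ring, pow_add, pow_mul]
    norm_num
  rw [this, Nat.mul_mod, pow_sixteen_mod]

/-- `(3^r)² ≡ 4 (mod 5)` for odd `r`. -/
theorem three_pow_sq_mod (r : ℕ) (hr : Odd r) : (3 ^ r) ^ 2 % 5 = 4 := by
  obtain ⟨j, rfl⟩ := hr
  have : (3 ^ (2 * j + 1)) ^ 2 = 81 ^ j * 9 := by
    rw [← pow_mul, show (2 * j + 1) * 2 = 4 * j + 2 by ring, pow_add, pow_mul]
    norm_num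
  rw [this, Nat.mul_mod, pow_eightyone_mod]

/-- If `q² ≡ 4 (mod 5)` and `5 ∤ q` then `5 ∤ q (q² - 1)`. -/
theorem not_five_dvd (q : ℕ) (h1 : ¬ 5 ∣ q) (h2 : q ^ 2 % 5 = 4) : ¬ 5 ∣ q * (q ^ 2 - 1) := by
  intro h
  rcases (Nat.Prime.dvd_mul Nat.prime_five).1 h with h3 | h3
  · exact h1 h3
  · omega

/-- Subfield orders when `q = ℓ^r` with `r` prime. -/
theorem sub_card_of_prime_pow (l r k m : ℕ) (hl : l.Prime) (hr : r.Prime) (hk : 1 < k)
    (h : k ^ m = l ^ r) : k = l ^ r ∨ k = l := by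
  have hm : m ≠ 0 := by
    rintro rfl
    rw [pow_zero] at h
    have := Nat.one_lt_pow hr.pos.ne' hl.one_lt
    omega
  have hkd : k ∣ l ^ r := by
    rw [← h]
    exact dvd_pow_self _ hm
  obtain ⟨j, hj, rfl⟩ := (Nat.dvd_prime_pow hl).1 hkd
  rw [← pow_mul] at h
  have hjm : j * m = r := Nat.pow_right_injective hl.two_le h
  have hjr : j ∣ r := Dvd.intro _ hjm
  rcases (Nat.dvd_prime hr).1 hjr with h1 | h1
  · right
    rw [h1, pow_one]
  · left
    rw [h1]

end arith

end Cfsg.Agent.Helper5
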