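import Mathlib
import Cfsg.Agent.Helper13.SympBasis
import Cfsg.Agent.Helper5.SympCard

set_option autoImplicit false
set_option linter.unusedSimpArgs false
set_option linter.unusedSectionVars false

namespace Cfsg.Agent.Helper5

open Matrix

section symembed
variable {F : Type*} [Field F] {Ω : Type*} [Fintype Ω] [DecidableEq Ω]

/-- The sum of the coordinates. -/
def sumL (F : Type*) [Field F] (Ω : Type*) [Fintype Ω] : (Ω → F) →ₗ[F] F :=
  ∑ i, LinearMap.proj i

theorem sumL_apply (x : Ω → F) : sumL F Ω x = ∑ i, x i := by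
  simp [sumL, LinearMap.sum_apply]

/-- The vectors of coordinate sum zero vanishing at `ω₀`: a model of the heart of the permutation
module when the number of points is zero in `F`. -/
def heartV (F : Type*) [Field F] (ω₀ : Ω) : Submodule F (Ω → F) :=
  LinearMap.ker ((sumL F Ω).prod (LinearMap.proj ω₀))

theorem mem_heartV (ω₀ : Ω) (x : Ω → F) : x ∈ heartV F ω₀ ↔ (∑ i, x i = 0) ∧ x ω₀ = 0 := by
  rw [heartV, LinearMap.mem_ker]
  change ((sumL F Ω) x, x ω₀) = 0 ↔ _
  rw [Prod.mk_eq_zero, sumL_apply]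

theorem single_sub_mem (ω₀ i j : Ω) (hi : i ≠ ω₀) (hj : j ≠ ω₀) :
    (Pi.single i 1 - Pi.single j 1 : Ω → F) ∈ heartV F ω₀ := by
  rw [mem_heartV]
  constructor
  · simp [Finset.sum_sub_distrib]
  · simp [Pi.single_apply, hi.symm, hj.symm]

/-- The permutation action on the heart. -/
def heartAct (ω₀ : Ω) (hΩ : (Fintype.card Ω : F) = 0) (σ : Equiv.Perm Ω) :
    heartV F ω₀ →ₗ[F] heartV F ω₀ where
  toFun x := ⟨fun i => x.1 (σ.symm i) - x.1 (σ.symm ω₀), by
    have hx := (mem_heartV ω₀ x.1).1 x.2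
    rw [mem_heartV]
    constructor
    · rw [Finset.sum_sub_distrib, Equiv.sum_comp σ.symm (fun i => x.1 i), hx.1, Finset.sum_const,
        Finset.card_univ, nsmul_eq_mul, hΩ, zero_mul, sub_zero]
    · exact sub_self _⟩
  map_add' x y := by
    apply Subtype.ext
    funext i
    simp only [Submodule.coe_add, Pi.add_apply]
    ring
  map_smul' c x := by
    apply Subtype.ext
    funext i
    simp only [Submodule.coe_smul, Pi.smul_apply, smul_eq_mul, RingHom.id_apply]
    ring

theorem heartAct_apply (ω₀ : Ω) (hΩ : (Fintype.card Ω : F) = 0) (σ : Equiv.Perm Ω)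
    (x : heartV F ω₀) (i : Ω) :
    (heartAct ω₀ hΩ σ x : Ω → F) i = x.1 (σ.symm i) - x.1 (σ.symm ω₀) := rfl

/-- The permutation action on the heart as a homomorphism. -/
def heartHom (ω₀ : Ω) (hΩ : (Fintype.card Ω : F) = 0) :
    Equiv.Perm Ω →* Module.End F (heartV F ω₀) where
  toFun σ := heartAct ω₀ hΩ σ
  map_one' := by
    apply LinearMap.ext
    intro x
    apply Subtype.ext
    funext i
    have hx := (mem_heartV ω₀ x.1).1 x.2
    change x.1 i - x.1 ω₀ = x.1 i
    rw [hx.2, sub_zero]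
  map_mul' σ τ := by
    apply LinearMap.ext
    intro x
    apply Subtype.ext
    funext i
    rw [Module.End.mul_apply, heartAct_apply, heartAct_apply, heartAct_apply, heartAct_apply]
    simp only [Equiv.Perm.mul_def, Equiv.symm_trans_apply]
    ring

theorem heartHom_apply (ω₀ : Ω) (hΩ : (Fintype.card Ω : F) = 0) (σ : Equiv.Perm Ω) :
    heartHom ω₀ hΩ σ = heartAct ω₀ hΩ σ := rfl

/-- The dot product on the heart. -/
def heartB (F : Type*) [Field F] (ω₀ : Ω) : LinearMap.BilinForm F (heartV F ω₀) :=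
  LinearMap.mk₂ F (fun x y => x.1 ⬝ᵥ y.1)
    (fun x x' y => by simp [add_dotProduct])
    (fun c x y => by simp [smul_dotProduct])
    (fun x y y' => by simp [dotProduct_add])
    (fun c x y => by simp [dotProduct_smul])

theorem heartB_apply (ω₀ : Ω) (x y : heartV F ω₀) : heartB F ω₀ x y = x.1 ⬝ᵥ y.1 := rfl

theorem heartB_isAlt (h2 : (2 : F) = 0) (ω₀ : Ω) : (heartB F ω₀).IsAlt := by
  intro x
  have : CharP F 2 := CharTwo.of_one_ne_zero_of_two_eq_zero one_ne_zero h2
  have hx := (mem_heartV ω₀ x.1).1 x.2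
  rw [heartB_apply, dotProduct]
  have h := sum_pow_char 2 (Finset.univ : Finset Ω) (fun i => x.1 i)
  rw [hx.1] at h
  simp only [pow_two] at h
  rw [← h, mul_zero]

theorem heartB_act (ω₀ : Ω) (hΩ : (Fintype.card Ω : F) = 0) (σ : Equiv.Perm Ω)
    (x y : heartV F ω₀) :
    heartB F ω₀ (heartAct ω₀ hΩ σ x) (heartAct ω₀ hΩ σ y) = heartB F ω₀ x y := by
  have hx := (mem_heartV ω₀ x.1).1 x.2
  have hy := (mem_heartV ω₀ y.1).1 y.2
  rw [heartB_apply, heartB_apply, dotProduct, dotProduct]
  simp only [heartAct_apply]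
  have e1 : ∀ i : Ω, (x.1 (σ.symm i) - x.1 (σ.symm ω₀)) * (y.1 (σ.symm i) - y.1 (σ.symm ω₀)) =
      x.1 (σ.symm i) * y.1 (σ.symm i) - x.1 (σ.symm i) * y.1 (σ.symm ω₀)
        - x.1 (σ.symm ω₀) * y.1 (σ.symm i) + x.1 (σ.symm ω₀) * y.1 (σ.symm ω₀) := by
    intro i
    ring
  simp only [e1, Finset.sum_add_distrib, Finset.sum_sub_distrib, ← Finset.sum_mul, ← Finset.mul_sum]
  rw [Equiv.sum_comp σ.symm (fun i => x.1 i * y.1 i), Equiv.sum_comp σ.symm (fun i => x.1 i),
    Equiv.sum_comp σ.symm (fun i => y.1 i), hx.1, hy.1, Finset.sum_const, Finset.card_univ,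
    nsmul_eq_mul, hΩ]
  ring

theorem heart_nondeg (ω₀ : Ω) (hΩ : (Fintype.card Ω : F) = 0) (x : heartV F ω₀)
    (hx0 : ∀ y, heartB F ω₀ x y = 0) : x = 0 := by
  have hx := (mem_heartV ω₀ x.1).1 x.2
  have heq : ∀ i j : Ω, i ≠ ω₀ → j ≠ ω₀ → x.1 i = x.1 j := by
    intro i j hi hj
    have := hx0 ⟨_, single_sub_mem ω₀ i j hi hj⟩
    rw [heartB_apply, dotProduct_sub] at this
    simp only [dotProduct_single, mul_one] at this
    exact sub_eq_zero.1 this
  apply Subtype.ext
  by_cases hex : ∃ i₀ : Ω, i₀ ≠ ω₀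
  · obtain ⟨i₀, hi₀⟩ := hex
    have hval : ∀ p, x.1 p = x.1 i₀ - (if p = ω₀ then x.1 i₀ else 0) := by
      intro p
      by_cases hp : p = ω₀
      · rw [if_pos hp, hp, hx.2, sub_self]
      · rw [if_neg hp, sub_zero, heq p i₀ hp hi₀]
    have hsum : ∑ p, x.1 p = -x.1 i₀ := by
      rw [Finset.sum_congr rfl (fun p _ => hval p), Finset.sum_sub_distrib, Finset.sum_const,
        Finset.card_univ, nsmul_eq_mul, hΩ, zero_mul, zero_sub, Finset.sum_ite_eq' Finset.univ ω₀,
        if_pos (Finset.mem_univ _)]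
    rw [hx.1] at hsum
    have hc : x.1 i₀ = 0 := by linear_combination hsum
    funext p
    rw [hval p, hc]
    simp
  · push Not at hex
    funext p
    rw [hex p, hx.2]
    rfl

theorem heart_finrank (ω₀ ω₁ : Ω) (h01 : ω₁ ≠ ω₀) :
    Module.finrank F (heartV F ω₀) + 2 = Fintype.card Ω := by
  have h := LinearMap.finrank_range_add_finrank_ker ((sumL F Ω).prod (LinearMap.proj ω₀))
  have hr : LinearMap.range ((sumL F Ω).prod (LinearMap.proj ω₀)) = ⊤ := by
    rw [LinearMap.range_eq_top]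
    rintro ⟨s, t⟩
    refine ⟨t • Pi.single ω₀ 1 + (s - t) • Pi.single ω₁ 1, ?_⟩
    change ((sumL F Ω) (t • Pi.single ω₀ 1 + (s - t) • Pi.single ω₁ 1),
      (t • Pi.single ω₀ 1 + (s - t) • Pi.single ω₁ 1 : Ω → F) ω₀) = (s, t)
    rw [sumL_apply]
    apply Prod.ext
    · simp [Finset.sum_add_distrib, Pi.single_apply, h01.symm]
    · simp [Finset.sum_add_distrib, Pi.single_apply, h01.symm]
  rw [hr, finrank_top, Module.finrank_prod, Module.finrank_self, Module.finrank_fintype_fun_eq_card]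
    at h
  change 1 + 1 + Module.finrank F (heartV F ω₀) = Fintype.card Ω at h
  omega

theorem exists_notMem_finset (s : Finset Ω) (h : s.card < Fintype.card Ω) : ∃ p, p ∉ s := by
  by_contra hcon
  push Not at hcon
  have : s = Finset.univ := Finset.eq_univ_iff_forall.2 hcon
  rw [this, Finset.card_univ] at h
  exact lt_irrefl _ h

theorem heartHom_injective (ω₀ : Ω) (hΩ : (Fintype.card Ω : F) = 0) (h5 : 5 ≤ Fintype.card Ω) :
    Function.Injective (heartHom (F := F) ω₀ hΩ) := by
  rw [injective_iff_map_eq_one]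
  intro σ hσ
  have key : ∀ (x : heartV F ω₀) (p : Ω), x.1 (σ.symm p) - x.1 (σ.symm ω₀) = x.1 p := by
    intro x p
    have := congrArg (fun f : Module.End F (heartV F ω₀) => (f x : Ω → F) p) hσ
    exact this
  have step : ∀ i j : Ω, i ≠ ω₀ → j ≠ ω₀ → i ≠ j → σ.symm i = i ∨ σ.symm i = j := by
    intro i j hi hj hij
    set x : heartV F ω₀ := ⟨_, single_sub_mem ω₀ i j hi hj⟩ with hx
    have hxv : ∀ p, x.1 p = (Pi.single i 1 - Pi.single j 1 : Ω → F) p := fun p => rfl
    obtain ⟨p, hp⟩ := exists_notMem_finset ({i, j, σ i, σ j} : Finset Ω)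
      (lt_of_le_of_lt Finset.card_le_four (by omega))
    simp only [Finset.mem_insert, Finset.mem_singleton, not_or] at hp
    obtain ⟨hp1, hp2, hp3, hp4⟩ := hp
    have hc : x.1 (σ.symm ω₀) = 0 := by
      have h := key x p
      have e1 : x.1 p = 0 := by
        rw [hxv]
        simp [Pi.single_apply, hp1, hp2]
      have e2 : x.1 (σ.symm p) = 0 := by
        rw [hxv]
        have h3 : σ.symm p ≠ i := fun h => hp3 (by rw [← h, Equiv.apply_symm_apply])
        have h4 : σ.symm p ≠ j := fun h => hp4 (by rw [← h, Equiv.apply_symm_apply])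
        simp [Pi.single_apply, h3, h4]
      rw [e1, e2] at h
      linear_combination -h
    have h := key x i
    rw [hc, sub_zero] at h
    have e3 : x.1 i = 1 := by
      rw [hxv]
      simp [Pi.single_apply, hij]
    rw [e3, hxv] at h
    by_contra hcon
    push Not at hcon
    simp [Pi.single_apply, hcon.1, hcon.2] at h
  have hfix : ∀ i : Ω, i ≠ ω₀ → σ.symm i = i := by
    intro i hi
    obtain ⟨j, hj⟩ := exists_notMem_finset ({i, ω₀} : Finset Ω)
      (lt_of_le_of_lt Finset.card_le_two (by omega))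
    simp only [Finset.mem_insert, Finset.mem_singleton, not_or] at hj
    obtain ⟨j', hj'⟩ := exists_notMem_finset ({i, ω₀, j} : Finset Ω)
      (lt_of_le_of_lt Finset.card_le_three (by omega))
    simp only [Finset.mem_insert, Finset.mem_singleton, not_or] at hj'
    rcases step i j hi hj.2 (Ne.symm hj.1) with h | h
    · exact h
    · rcases step i j' hi hj'.2.1 (Ne.symm hj'.1) with h' | h'
      · exact h'
      · exact absurd (h'.symm.trans h) hj'.2.2
  have hfix0 : σ.symm ω₀ = ω₀ := by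
    by_contra hne
    have := hfix _ hne
    exact hne (σ.symm.injective this)
  apply Equiv.ext
  intro q
  have hq : σ.symm q = q := by
    by_cases h : q = ω₀
    · rw [h, hfix0]
    · exact hfix q h
  rw [Equiv.Perm.one_apply]
  conv_lhs => rw [← hq]
  exact Equiv.apply_symm_apply σ q

omit [Fintype Ω] [DecidableEq Ω] in
theorem sympForm_single_single {m : ℕ} (c d : Fin m ⊕ Fin m) :
    Cfsg.sympForm m F (Pi.single c 1) (Pi.single d 1) = Matrix.J (Fin m) F c d := by
  unfold Cfsg.sympForm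
  simp

/-- The symmetric group on a set of even size `≥ 5` embeds in the symplectic group of its heart,
over any field of characteristic two. -/
theorem exists_heart_embedding (h2 : (2 : F) = 0) (hΩ : (Fintype.card Ω : F) = 0) (ω₀ : Ω)
    (h5 : 5 ≤ Fintype.card Ω) :
    ∃ (m : ℕ) (f : Equiv.Perm Ω →* Matrix.symplecticGroup (Fin m) F),
      2 * m + 2 = Fintype.card Ω ∧ Function.Injective f := by
  classical
  obtain ⟨m, k, b, hb1, hb2, hb3, hb4⟩ :=
    Helper13.exists_symplectic_basis (heartB F ω₀) (heartB_isAlt h2 ω₀)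
  have hk : k = 0 := by
    by_contra hk
    have := heart_nondeg ω₀ hΩ (b (Sum.inr ⟨0, Nat.pos_of_ne_zero hk⟩)) (hb4 _)
    exact b.ne_zero _ this
  subst hk
  obtain ⟨ω₁, h01⟩ : ∃ ω₁ : Ω, ω₁ ≠ ω₀ := by
    obtain ⟨p, hp⟩ := exists_notMem_finset ({ω₀} : Finset Ω) (by rw [Finset.card_singleton]; omega)
    exact ⟨p, fun h => hp (by rw [h]; exact Finset.mem_singleton_self _)⟩
  have hfr := heart_finrank (F := F) ω₀ ω₁ h01
  rw [Module.finrank_eq_card_basis b] at hfr
  simp only [Fintype.card_sum, Fintype.card_fin, add_zero] at hfr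
  set b' := b.reindex (Equiv.sumEmpty (Fin m ⊕ Fin m) (Fin 0)) with hb'
  have hb'_apply : ∀ c, b' c = b (Sum.inl c) := fun c => by
    rw [hb', Module.Basis.reindex_apply]
    rfl
  have hA := heartB_isAlt h2 ω₀
  have hB : (sympBil m F).comp (b'.equivFun : heartV F ω₀ →ₗ[F] (Fin m ⊕ Fin m → F))
      (b'.equivFun : heartV F ω₀ →ₗ[F] (Fin m ⊕ Fin m → F)) = -heartB F ω₀ := by
    have hef : ∀ i, b'.equivFun (b' i) = Pi.single i 1 := by
      intro i
      funext j
      rw [Module.Basis.equivFun_self, Pi.single_apply]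
      simp [eq_comm]
    apply LinearMap.BilinForm.ext_basis b'
    intro i j
    rw [LinearMap.BilinForm.comp_apply, sympBil_apply]
    change Cfsg.sympForm m F (b'.equivFun (b' i)) (b'.equivFun (b' j)) = _
    rw [hef, hef, sympForm_single_single,
      LinearMap.neg_apply, LinearMap.neg_apply, hb'_apply, hb'_apply]
    rcases i with i | i <;> rcases j with j | j
    · rw [hb2]
      simp [Matrix.J]
    · rw [hb1]
      simp [Matrix.J, Matrix.one_apply]
    · rw [← hA.neg_eq, hb1]
      simp [Matrix.J, Matrix.one_apply, eq_comm]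
    · rw [hb3]
      simp [Matrix.J]
  have hform : ∀ x y : heartV F ω₀,
      Cfsg.sympForm m F (b'.equivFun x) (b'.equivFun y) = -heartB F ω₀ x y := by
    intro x y
    have := congrArg (fun B' : LinearMap.BilinForm F (heartV F ω₀) => B' x y) hB
    exact this
  have hmv : ∀ (σ : Equiv.Perm Ω) (x : heartV F ω₀),
      (LinearMap.toMatrixAlgEquiv b' (heartAct ω₀ hΩ σ)) *ᵥ (b'.equivFun x) =
        b'.equivFun (heartAct ω₀ hΩ σ x) :=
    fun σ x => LinearMap.toMatrix_mulVec_repr b' b' _ x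
  have hmem : ∀ σ : Equiv.Perm Ω,
      ((MonoidHomClass.toMonoidHom (LinearMap.toMatrixAlgEquiv b')).comp (heartHom ω₀ hΩ)) σ ∈
        Matrix.symplecticGroup (Fin m) F := by
    intro σ
    rw [Helper13.mem_symplecticGroup_iff_sympForm]
    intro u v
    have hu : u = b'.equivFun (b'.equivFun.symm u) := (LinearEquiv.apply_symm_apply _ _).symm
    have hv : v = b'.equivFun (b'.equivFun.symm v) := (LinearEquiv.apply_symm_apply _ _).symm
    rw [hu, hv]
    change Cfsg.sympForm m F
      ((LinearMap.toMatrixAlgEquiv b' (heartAct ω₀ hΩ σ)) *ᵥ (b'.equivFun (b'.equivFun.symm u)))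
      ((LinearMap.toMatrixAlgEquiv b' (heartAct ω₀ hΩ σ)) *ᵥ (b'.equivFun (b'.equivFun.symm v))) = _
    rw [hmv, hmv, hform, hform, heartB_act]
  refine ⟨m, ((MonoidHomClass.toMonoidHom (LinearMap.toMatrixAlgEquiv b')).comp
    (heartHom ω₀ hΩ)).codRestrict (Matrix.symplecticGroup (Fin m) F) hmem, by omega, ?_⟩
  intro σ τ h
  have h1 : LinearMap.toMatrixAlgEquiv b' (heartHom ω₀ hΩ σ) =
      LinearMap.toMatrixAlgEquiv b' (heartHom ω₀ hΩ τ) := congrArg Subtype.val h
  exact heartHom_injective ω₀ hΩ h5 ((LinearMap.toMatrixAlgEquiv b').injective h1)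

end symembed

end Cfsg.Agent.Helper5
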