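import Mathlib
import Cfsg.Agent.Helper5.SymEmbed
import Cfsg.Agent.Helper5.OrthForms

set_option autoImplicit false
set_option linter.unusedSimpArgs false
set_option linter.unusedSectionVars false

namespace Cfsg.Agent.Helper5

open Matrix

section heartquad
variable {F : Type*} [Field F] {n : ℕ}

/-- The second elementary symmetric function of the coordinates. -/
def pairQ (x : Fin n → F) : F := ∑ i, ∑ j, if i < j then x i * x j else 0

theorem pairQ_add (x y : Fin n → F) :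
    pairQ (x + y) = pairQ x + pairQ y + ((∑ i, x i) * (∑ i, y i) - ∑ i, x i * y i) := by
  have h1 : (∑ i, x i) * (∑ i, y i) = ∑ i, ∑ j, x i * y j := Finset.sum_mul_sum _ _ _ _
  have h2 : ∑ i, x i * y i = ∑ i, ∑ j, if i = j then x i * y j else 0 := by
    simp
  have h3 : ∑ i : Fin n, ∑ j : Fin n, (if j < i then x i * y j else 0) =
      ∑ i : Fin n, ∑ j : Fin n, (if i < j then x j * y i else 0) := Finset.sum_comm
  have key : ∀ i j : Fin n, (if i < j then (x + y) i * (x + y) j else 0) =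
      (if i < j then x i * x j else 0) + (if i < j then y i * y j else 0) +
        (x i * y j - (if i = j then x i * y j else 0)) -
        ((if j < i then x i * y j else 0) - (if i < j then x j * y i else 0)) := by
    intro i j
    rcases lt_trichotomy i j with h | h | h
    · simp only [if_pos h, if_neg h.ne, if_neg (not_lt_of_gt h), Pi.add_apply]
      ring
    · subst h
      simp
    · simp only [if_pos h, if_neg h.ne', if_neg (not_lt_of_gt h), Pi.add_apply]
      ring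
  unfold pairQ
  rw [h1, h2]
  simp only [key, Finset.sum_add_distrib, Finset.sum_sub_distrib]
  rw [h3]
  ring

theorem pairQ_zero_of (x : Fin n → F) (h : ∀ i j, i ≠ j → x i * x j = 0) : pairQ x = 0 := by
  unfold pairQ
  apply Finset.sum_eq_zero
  intro i _
  apply Finset.sum_eq_zero
  intro j _
  split_ifs with hij
  · exact h i j hij.ne
  · rfl

theorem pairQ_perm (σ : Equiv.Perm (Fin n)) (x : Fin n → F) : pairQ (x ∘ σ) = pairQ x := by
  let D : (Fin n → F) →+ F := AddMonoidHom.mk' (fun x => pairQ (x ∘ σ) - pairQ x) (by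
    intro a b
    have e : (a + b) ∘ σ = a ∘ σ + b ∘ σ := rfl
    have e1 : ∑ i, (a ∘ σ) i = ∑ i, a i := Equiv.sum_comp σ a
    have e2 : ∑ i, (b ∘ σ) i = ∑ i, b i := Equiv.sum_comp σ b
    have e3 : ∑ i, (a ∘ σ) i * (b ∘ σ) i = ∑ i, a i * b i := Equiv.sum_comp σ (fun i => a i * b i)
    rw [e, pairQ_add, pairQ_add, e1, e2, e3]
    ring)
  have hD : ∀ x, D x = 0 := by
    intro x
    rw [pi_eq_sum_univ x, map_sum]
    apply Finset.sum_eq_zero
    intro k _
    change pairQ (F := F) ((x k • fun j => if k = j then (1 : F) else 0) ∘ σ) -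
      pairQ (F := F) (x k • fun j => if k = j then (1 : F) else 0) = 0
    rw [pairQ_zero_of, pairQ_zero_of, sub_zero]
    · intro i j hij
      simp only [Pi.smul_apply, smul_eq_mul]
      by_cases hi : k = i
      · have hj : ¬ k = j := fun h => hij (hi.symm.trans h)
        simp [hj]
      · simp [hi]
    · intro i j hij
      simp only [Function.comp_apply, Pi.smul_apply, smul_eq_mul]
      by_cases hi : k = σ i
      · have hj : ¬ k = σ j := fun h => hij (σ.injective (hi.symm.trans h))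
        simp [hj]
      · simp [hi]
  exact sub_eq_zero.1 (hD x)

theorem pairQ_const_eight (d : F) : pairQ (fun _ : Fin 8 => d) = 28 * d ^ 2 := by
  unfold pairQ
  simp only [Fin.sum_univ_eight]
  simp [Fin.lt_def]
  ring

/-- The quadratic form on the heart is invariant under the symmetric group (8 points). -/
theorem pairQ_heartAct (h2 : (2 : F) = 0) (hΩ : ((Fintype.card (Fin 8) : ℕ) : F) = 0)
    (σ : Equiv.Perm (Fin 8)) (x : heartV F (7 : Fin 8)) :
    pairQ (heartAct (7 : Fin 8) hΩ σ x : Fin 8 → F) = pairQ (x : Fin 8 → F) := by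
  have hx := (mem_heartV (7 : Fin 8) x.1).1 x.2
  have e : (heartAct (7 : Fin 8) hΩ σ x : Fin 8 → F) =
      (x.1 ∘ σ.symm) + (fun _ : Fin 8 => - x.1 (σ.symm 7)) := by
    funext i
    rw [heartAct_apply]
    simp [sub_eq_add_neg]
  have e1 : ∑ i, (x.1 ∘ σ.symm) i = 0 := (Equiv.sum_comp σ.symm x.1).trans hx.1
  rw [e, pairQ_add, pairQ_perm, pairQ_const_eight, e1, ← Finset.sum_mul, e1]
  linear_combination (14 * (x.1 (σ.symm 7)) ^ 2) * h2

/-- Coordinates of the heart of the 8-point permutation module adapted to the quadratic form. -/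
def heartPhi (F : Type*) [Field F] : (Fin 3 ⊕ Fin 3 → F) →ₗ[F] (Fin 8 → F) where
  toFun t := ![t (Sum.inl 1) + t (Sum.inl 2) + t (Sum.inr 0) + t (Sum.inr 1),
    t (Sum.inl 2) + t (Sum.inr 0) + t (Sum.inr 2),
    t (Sum.inl 0) + t (Sum.inr 0),
    t (Sum.inl 1) + t (Sum.inr 0) + t (Sum.inr 1) + t (Sum.inr 2),
    t (Sum.inl 0) + t (Sum.inl 2) + t (Sum.inr 1) + t (Sum.inr 2),
    t (Sum.inl 0) + t (Sum.inl 1) + t (Sum.inr 1),
    t (Sum.inl 0) + t (Sum.inl 1) + t (Sum.inl 2) + t (Sum.inr 2),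
    0]
  map_add' s t := by
    funext i
    fin_cases i <;> simp <;> ring
  map_smul' c t := by
    funext i
    fin_cases i <;> simp <;> ring

theorem heartPhi_mem (h2 : (2 : F) = 0) (t : Fin 3 ⊕ Fin 3 → F) :
    heartPhi F t ∈ heartV F (7 : Fin 8) := by
  rw [mem_heartV]
  constructor
  · simp only [Fin.sum_univ_eight]
    simp [heartPhi]
    linear_combination (2 * (t (Sum.inl 0) + t (Sum.inl 1) + t (Sum.inl 2) + t (Sum.inr 0) +
      t (Sum.inr 1) + t (Sum.inr 2))) * h2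
  · rfl

theorem heartPhi_pairQ (h2 : (2 : F) = 0) (t : Fin 3 ⊕ Fin 3 → F) :
    pairQ (heartPhi F t) = Cfsg.quadFormPlus 3 F t := by
  unfold pairQ Cfsg.quadFormPlus
  simp only [Fin.sum_univ_eight, Fin.sum_univ_three]
  simp [heartPhi, Fin.lt_def]
  linear_combination (3 * t (Sum.inl 0) ^ 2 + 3 * t (Sum.inl 1) ^ 2 + 3 * t (Sum.inl 2) ^ 2 + 3 * t (Sum.inr 0) ^ 2 + 3 * t (Sum.inr 1) ^ 2 + 3 * t (Sum.inr 2) ^ 2 + 7 * t (Sum.inl 0) * t (Sum.inl 1) + 7 * t (Sum.inl 0) * t (Sum.inl 2) + 7 * t (Sum.inl 0) * t (Sum.inr 0) + 7 * t (Sum.inl 0) * t (Sum.inr 1) + 7 * t (Sum.inl 0) * t (Sum.inr 2) + 7 * t (Sum.inl 1) * t (Sum.inl 2) + 7 * t (Sum.inl 1) * t (Sum.inr 0) + 6 * t (Sum.inl 1) * t (Sum.inr 1) + 7 * t (Sum.inl 1) * t (Sum.inr 2) + 7 * t (Sum.inl 2) * t (Sum.inr 0) + 7 * t (Sum.inl 2) * t (Sum.inr 1) + 6 * t (Sum.inl 2) * t (Sum.inr 2) + 7 * t (Sum.inr 0) * t (Sum.inr 1) + 7 * t (Sum.inr 0) * t (Sum.inr 2) + 7 * t (Sum.inr 1) * t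 (Sum.inr 2)) * h2

theorem heartPhi_injective (h2 : (2 : F) = 0) : Function.Injective (heartPhi F) := by
  rw [injective_iff_map_eq_zero]
  intro t h
  have g0 : t (Sum.inl 1) + t (Sum.inl 2) + t (Sum.inr 0) + t (Sum.inr 1) = 0 := congrFun h 0
  have g1 : t (Sum.inl 2) + t (Sum.inr 0) + t (Sum.inr 2) = 0 := congrFun h 1
  have g2 : t (Sum.inl 0) + t (Sum.inr 0) = 0 := congrFun h 2
  have g3 : t (Sum.inl 1) + t (Sum.inr 0) + t (Sum.inr 1) + t (Sum.inr 2) = 0 := congrFun h 3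
  have g4 : t (Sum.inl 0) + t (Sum.inl 2) + t (Sum.inr 1) + t (Sum.inr 2) = 0 := congrFun h 4
  have g5 : t (Sum.inl 0) + t (Sum.inl 1) + t (Sum.inr 1) = 0 := congrFun h 5
  have g6 : t (Sum.inl 0) + t (Sum.inl 1) + t (Sum.inl 2) + t (Sum.inr 2) = 0 := congrFun h 6
  funext c
  rcases c with c | c <;> fin_cases c <;> simp only [Pi.zero_apply]
  · change t (Sum.inl 0) = 0
    linear_combination g0 + g1 + g2 + g3 - (1 * t (Sum.inl 1) + 1 * t (Sum.inl 2) + 2 * t (Sum.inr 0) + 1 * t (Sum.inr 1) + 1 * t (Sum.inr 2)) * h2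
  · change t (Sum.inl 1) = 0
    linear_combination g0 + g3 + g4 + g5 - (1 * t (Sum.inl 0) + 1 * t (Sum.inl 1) + 1 * t (Sum.inl 2) + 1 * t (Sum.inr 0) + 2 * t (Sum.inr 1) + 1 * t (Sum.inr 2)) * h2
  · change t (Sum.inl 2) = 0
    linear_combination g1 + g3 + g4 + g6 - (1 * t (Sum.inl 0) + 1 * t (Sum.inl 1) + 1 * t (Sum.inl 2) + 1 * t (Sum.inr 0) + 1 * t (Sum.inr 1) + 2 * t (Sum.inr 2)) * h2
  · change t (Sum.inr 0) = 0
    linear_combination g2 + g4 + g5 + g6 - (2 * t (Sum.inl 0) + 1 * t (Sum.inl 1) + 1 * t (Sum.inl 2) + 1 * t (Sum.inr 1) + 1 * t (Sum.inr 2)) * h2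
  · change t (Sum.inr 1) = 0
    linear_combination g0 + g3 + g5 + g6 - (1 * t (Sum.inl 0) + 2 * t (Sum.inl 1) + 1 * t (Sum.inl 2) + 1 * t (Sum.inr 0) + 1 * t (Sum.inr 1) + 1 * t (Sum.inr 2)) * h2
  · change t (Sum.inr 2) = 0
    linear_combination g0 + g1 + g4 + g6 - (1 * t (Sum.inl 0) + 1 * t (Sum.inl 1) + 2 * t (Sum.inl 2) + 1 * t (Sum.inr 0) + 1 * t (Sum.inr 1) + 1 * t (Sum.inr 2)) * h2

end heartquad

end Cfsg.Agent.Helper5
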