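import Mathlib
import Cfsg.Prelude.Def_Classical

set_option autoImplicit false
set_option linter.unusedSimpArgs false
set_option linter.unusedSectionVars false

namespace Cfsg.Agent.Helper5

open Matrix

section klein
variable {F : Type*} [Field F]

/-- The alternating `4 × 4` matrix with given Plücker coordinates. -/
def kleinA (F : Type*) [Field F] : (Fin 3 ⊕ Fin 3 → F) →ₗ[F] Matrix (Fin 4) (Fin 4) F where
  toFun v := !![0, v (Sum.inl 0), v (Sum.inl 1), v (Sum.inl 2);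
                -v (Sum.inl 0), 0, v (Sum.inr 2), -v (Sum.inr 1);
                -v (Sum.inl 1), -v (Sum.inr 2), 0, v (Sum.inr 0);
                -v (Sum.inl 2), v (Sum.inr 1), -v (Sum.inr 0), 0]
  map_add' u v := by
    ext i j
    fin_cases i <;> fin_cases j <;> simp <;> ring
  map_smul' c v := by
    ext i j
    fin_cases i <;> fin_cases j <;> simp

/-- The Plücker coordinates of a matrix. -/
def kleinK (F : Type*) [Field F] : Matrix (Fin 4) (Fin 4) F →ₗ[F] (Fin 3 ⊕ Fin 3 → F) where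
  toFun M := Sum.elim ![M 0 1, M 0 2, M 0 3] ![M 2 3, M 3 1, M 1 2]
  map_add' M N := by
    funext c
    rcases c with c | c <;> fin_cases c <;> simp
  map_smul' a M := by
    funext c
    rcases c with c | c <;> fin_cases c <;> simp

theorem kleinK_A (v : Fin 3 ⊕ Fin 3 → F) : kleinK F (kleinA F v) = v := by
  funext c
  rcases c with c | c <;> fin_cases c <;> simp [kleinK, kleinA]

theorem kleinA_K_of (M : Matrix (Fin 4) (Fin 4) F) (h1 : ∀ i j, M j i = - M i j)
    (h0 : ∀ i, M i i = 0) : kleinA F (kleinK F M) = M := by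
  ext i j
  fin_cases i <;> fin_cases j <;>
    simp only [kleinK, kleinA, LinearMap.coe_mk, AddHom.coe_mk, Matrix.of_apply, Matrix.cons_val',
      Matrix.cons_val_zero, Matrix.cons_val_one, Matrix.cons_val_two, Matrix.cons_val_three,
      Sum.elim_inl, Sum.elim_inr, Fin.zero_eta, Fin.mk_one, Fin.reduceFinMk, Matrix.cons_val_fin_one,
      Matrix.empty_val', Matrix.head_cons, Matrix.head_fin_const] <;>
    first | rfl | exact (h0 _).symm | exact (h1 _ _).symm

theorem kleinA_transpose (v : Fin 3 ⊕ Fin 3 → F) : (kleinA F v)ᵀ = - kleinA F v := by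
  ext i j
  fin_cases i <;> fin_cases j <;> simp [kleinA]

theorem klein_conj_apply (g : Matrix (Fin 4) (Fin 4) F) (v : Fin 3 ⊕ Fin 3 → F) (i j : Fin 4) :
    (g * kleinA F v * gᵀ) i j =
      v (Sum.inl 0) * (g i 0 * g j 1 - g i 1 * g j 0) + v (Sum.inl 1) * (g i 0 * g j 2 - g i 2 * g j 0)
      + v (Sum.inl 2) * (g i 0 * g j 3 - g i 3 * g j 0) + v (Sum.inr 0) * (g i 2 * g j 3 - g i 3 * g j 2)
      + v (Sum.inr 1) * (g i 3 * g j 1 - g i 1 * g j 3) + v (Sum.inr 2) * (g i 1 * g j 2 - g i 2 * g j 1) := by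
  simp [kleinA, Matrix.mul_apply, Fin.sum_univ_four]
  ring

theorem kleinA_K (g : Matrix (Fin 4) (Fin 4) F) (v : Fin 3 ⊕ Fin 3 → F) :
    kleinA F (kleinK F (g * kleinA F v * gᵀ)) = g * kleinA F v * gᵀ := by
  apply kleinA_K_of
  · intro i j
    rw [klein_conj_apply, klein_conj_apply]
    ring
  · intro i
    rw [klein_conj_apply]
    ring

theorem det_fin_four' (g : Matrix (Fin 4) (Fin 4) F) :
    g.det = g 0 0 * (g 1 1 * (g 2 2 * g 3 3 - g 2 3 * g 3 2) - g 1 2 * (g 2 1 * g 3 3 - g 2 3 * g 3 1)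
        + g 1 3 * (g 2 1 * g 3 2 - g 2 2 * g 3 1))
      - g 0 1 * (g 1 0 * (g 2 2 * g 3 3 - g 2 3 * g 3 2) - g 1 2 * (g 2 0 * g 3 3 - g 2 3 * g 3 0)
        + g 1 3 * (g 2 0 * g 3 2 - g 2 2 * g 3 0))
      + g 0 2 * (g 1 0 * (g 2 1 * g 3 3 - g 2 3 * g 3 1) - g 1 1 * (g 2 0 * g 3 3 - g 2 3 * g 3 0)
        + g 1 3 * (g 2 0 * g 3 1 - g 2 1 * g 3 0))
      - g 0 3 * (g 1 0 * (g 2 1 * g 3 2 - g 2 2 * g 3 1) - g 1 1 * (g 2 0 * g 3 2 - g 2 2 * g 3 0)
        + g 1 2 * (g 2 0 * g 3 1 - g 2 1 * g 3 0)) := by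
  rw [Matrix.det_succ_row_zero]
  simp [Fin.sum_univ_four, Matrix.det_fin_three, Fin.succAbove]
  ring

theorem klein_quad (g : Matrix (Fin 4) (Fin 4) F) (v : Fin 3 ⊕ Fin 3 → F) :
    Cfsg.quadFormPlus 3 F (kleinK F (g * kleinA F v * gᵀ)) = g.det * Cfsg.quadFormPlus 3 F v := by
  rw [det_fin_four']
  unfold Cfsg.quadFormPlus
  simp [kleinK, kleinA, Matrix.mul_apply, Fin.sum_univ_four, Fin.sum_univ_three]
  ring

/-- The action of `4 × 4` matrices on Plücker coordinates. -/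
def kleinAct (g : Matrix (Fin 4) (Fin 4) F) : Module.End F (Fin 3 ⊕ Fin 3 → F) where
  toFun v := kleinK F (g * kleinA F v * gᵀ)
  map_add' u v := by rw [map_add, mul_add, add_mul, map_add]
  map_smul' c v := by
    rw [map_smul, Matrix.mul_smul, Matrix.smul_mul, map_smul]
    rfl

theorem kleinAct_apply (g : Matrix (Fin 4) (Fin 4) F) (v : Fin 3 ⊕ Fin 3 → F) :
    kleinAct g v = kleinK F (g * kleinA F v * gᵀ) := rfl

/-- The Klein representation. -/
def kleinHom (F : Type*) [Field F] :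
    Matrix (Fin 4) (Fin 4) F →* Module.End F (Fin 3 ⊕ Fin 3 → F) where
  toFun := kleinAct
  map_one' := by
    apply LinearMap.ext
    intro v
    rw [kleinAct_apply, one_mul, Matrix.transpose_one, mul_one, kleinK_A]
    rfl
  map_mul' g h := by
    apply LinearMap.ext
    intro v
    rw [Module.End.mul_apply, kleinAct_apply, kleinAct_apply, kleinAct_apply, kleinA_K,
      Matrix.transpose_mul]
    simp only [mul_assoc]

/-- The Klein representation of `SL₄` on the six-dimensional space. -/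
noncomputable def kleinGL (F : Type*) [Field F] :
    Matrix.SpecialLinearGroup (Fin 4) F →* Matrix.GeneralLinearGroup (Fin 3 ⊕ Fin 3) F :=
  (((MonoidHomClass.toMonoidHom (LinearMap.toMatrixAlgEquiv' (R := F) (n := Fin 3 ⊕ Fin 3))).comp
    (kleinHom F)).comp ((Units.coeHom _).comp Matrix.SpecialLinearGroup.toGL)).toHomUnits

theorem kleinGL_coe (g : Matrix.SpecialLinearGroup (Fin 4) F) :
    ((kleinGL F g : Matrix.GeneralLinearGroup (Fin 3 ⊕ Fin 3) F) :
      Matrix (Fin 3 ⊕ Fin 3) (Fin 3 ⊕ Fin 3) F) =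
      LinearMap.toMatrix' (kleinAct (g : Matrix (Fin 4) (Fin 4) F)) := rfl

theorem kleinGL_mem (g : Matrix.SpecialLinearGroup (Fin 4) F) :
    kleinGL F g ∈ Cfsg.isometryGroup F (Cfsg.quadFormPlus 3 F) := by
  intro u _
  change Cfsg.quadFormPlus 3 F (((kleinGL F g : Matrix.GeneralLinearGroup (Fin 3 ⊕ Fin 3) F) :
      Matrix (Fin 3 ⊕ Fin 3) (Fin 3 ⊕ Fin 3) F) *ᵥ u) = Cfsg.quadFormPlus 3 F u
  rw [kleinGL_coe, LinearMap.toMatrix'_mulVec, kleinAct_apply, klein_quad, g.2, one_mul]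

/-- The Klein homomorphism `SL₄(F) → O⁺₆(F)`. -/
noncomputable def kleinIso (F : Type*) [Field F] :
    Matrix.SpecialLinearGroup (Fin 4) F →* Cfsg.isometryGroup F (Cfsg.quadFormPlus 3 F) :=
  (kleinGL F).codRestrict _ kleinGL_mem

theorem kleinIso_ker (g : Matrix.SpecialLinearGroup (Fin 4) F) (hg : g ∈ (kleinIso F).ker)
    (v : Fin 3 ⊕ Fin 3 → F) :
    kleinK F ((g : Matrix (Fin 4) (Fin 4) F) * kleinA F v * (g : Matrix (Fin 4) (Fin 4) F)ᵀ) = v := by
  have h1 : kleinGL F g = 1 := congrArg Subtype.val (MonoidHom.mem_ker.1 hg)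
  have h2 : LinearMap.toMatrix' (kleinAct (g : Matrix (Fin 4) (Fin 4) F)) = 1 := by
    rw [← kleinGL_coe, h1]
    rfl
  have h3 : kleinAct (g : Matrix (Fin 4) (Fin 4) F) = 1 := by
    apply (LinearMap.toMatrix' (R := F) (n := Fin 3 ⊕ Fin 3) (m := Fin 3 ⊕ Fin 3)).injective
    rw [h2, Module.End.one_eq_id, LinearMap.toMatrix'_id]
  rw [← kleinAct_apply, h3]
  rfl

/-- A transvection acts non-trivially. -/
theorem kleinIso_ker_ne_top (F : Type*) [Field F] : (kleinIso F).ker ≠ ⊤ := by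
  intro h
  let T : Matrix.SpecialLinearGroup (Fin 4) F := ⟨Matrix.transvection (0 : Fin 4) 1 (1 : F),
      Matrix.det_transvection_of_ne _ _ (by decide) _⟩
  have hT : T ∈ (kleinIso F).ker := by
    rw [h]
    exact Subgroup.mem_top _
  have h1 := congrFun (kleinIso_ker T hT (Pi.single (Sum.inr 2) 1)) (Sum.inl 1)
  change (Matrix.transvection (0 : Fin 4) 1 (1 : F) * kleinA F (Pi.single (Sum.inr 2) 1) *
    (Matrix.transvection (0 : Fin 4) 1 (1 : F))ᵀ) 0 2 = _ at h1
  rw [klein_conj_apply] at h1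
  simp [Matrix.transvection, Matrix.one_apply, Matrix.single_apply] at h1

end klein

end Cfsg.Agent.Helper5
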