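import Mathlib
import Cfsg.Agent.Helper60.NCDefs

/-!
# helper5: piece NORMAB of CALL S4135 (helper60): two commuting automorphisms of order `p` of an abelian
group whose nontrivial products have their fixed points in `Z₀`: every `p`-th power lies in `Z₀`
-/

set_option autoImplicit false
open Subgroup

namespace Cfsg.Agent.Helper5.NCNORMAB
open Cfsg.Agent.Helper60.NC

variable {G : Type*} [Group G] [Finite G] {r : ℕ} [Fact r.Prime] {N : Subgroup G} {m : ℕ}

/-- cyclic shift of a product over a period -/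
theorem shift_prod {A : Type*} [CommGroup A] (f : ℕ → A) (p : ℕ) (hf : f p = f 0) :
    ∏ k ∈ Finset.range p, f (k + 1) = ∏ k ∈ Finset.range p, f k := by
  have h1 := Finset.prod_range_succ' f p
  have h2 := Finset.prod_range_succ f p
  rw [h1, hf] at h2
  exact mul_right_cancel h2

/-- reindexing a product over the residues by multiplication with a unit -/
theorem reindex_prod {A : Type*} [CommGroup A] (f : ℕ → A) {p : ℕ} (hp : p.Prime) (k : ℕ)
    (hk0 : 0 < k) (hkp : k < p) :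
    ∏ j ∈ Finset.range p, f ((j * k) % p) = ∏ l ∈ Finset.range p, f l := by
  have hcop : Nat.gcd p k = 1 := by
    rw [← Nat.coprime_iff_gcd_eq_one]
    exact (Nat.Prime.coprime_iff_not_dvd hp).mpr (fun h => by
      have := Nat.le_of_dvd hk0 h
      omega)
  have hinj : ∀ x ∈ Finset.range p, ∀ y ∈ Finset.range p,
      (x * k) % p = (y * k) % p → x = y := by
    intro x hx y hy h
    have h1 : x * k ≡ y * k [MOD p] := h
    have h2 : x ≡ y [MOD p] := Nat.ModEq.cancel_right_of_coprime hcop h1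
    exact Nat.ModEq.eq_of_lt_of_lt h2 (Finset.mem_range.mp hx) (Finset.mem_range.mp hy)
  have himg : (Finset.range p).image (fun j => (j * k) % p) = Finset.range p := by
    apply Finset.eq_of_subset_of_card_le
    · intro x hx
      obtain ⟨j, _, rfl⟩ := Finset.mem_image.mp hx
      exact Finset.mem_range.mpr (Nat.mod_lt _ hp.pos)
    · rw [Finset.card_image_of_injOn (fun x hx y hy h => hinj x hx y hy h)]
  have h3 := Finset.prod_image (s := Finset.range p) (g := fun j => (j * k) % p) (f := f)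
    (fun x hx y hy h => hinj x hx y hy h)
  rw [himg] at h3
  exact h3.symm

/-- NORMAB -/
theorem norm_ab (A : Type*) [CommGroup A] (p : ℕ) (hp : p.Prime) (σ τ : MulAut A)
    (hcomm : σ * τ = τ * σ) (hσ : σ ^ p = 1) (hτ : τ ^ p = 1) (Z₀ : Subgroup A)
    (hfix : ∀ i j : ℕ, ¬ (p ∣ i ∧ p ∣ j) → ∀ a : A, (σ ^ i * τ ^ j) a = a → a ∈ Z₀) (a : A) :
    a ^ p ∈ Z₀ := by
  have hστ : Commute σ τ := hcomm
  have hp1 : ¬ p ∣ 1 := fun h => hp.one_lt.ne' (Nat.dvd_one.mp h)
  obtain ⟨p', rfl⟩ : ∃ p', p = p' + 1 := ⟨p - 1, (Nat.succ_pred_eq_of_pos hp.pos).symm⟩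
  have hGp : ∏ l ∈ Finset.range (p' + 1), (σ ^ (p' + 1) * τ ^ l) a =
      ∏ l ∈ Finset.range (p' + 1), (σ ^ 0 * τ ^ l) a := by
    rw [hσ, pow_zero]
  have hσG : ∀ k, σ (∏ l ∈ Finset.range (p' + 1), (σ ^ k * τ ^ l) a) =
      ∏ l ∈ Finset.range (p' + 1), (σ ^ (k + 1) * τ ^ l) a := by
    intro k
    rw [map_prod]
    refine Finset.prod_congr rfl fun l _ => ?_
    rw [← MulAut.mul_apply, ← mul_assoc, ← pow_succ']
  have hNE : ∏ k ∈ Finset.range (p' + 1), ∏ l ∈ Finset.range (p' + 1), (σ ^ k * τ ^ l) a ∈ Z₀ := by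
    apply hfix 1 0 (fun h => hp1 h.1)
    rw [pow_one, pow_zero, mul_one, map_prod, Finset.prod_congr rfl (fun k _ => hσG k)]
    exact shift_prod (fun k => ∏ l ∈ Finset.range (p' + 1), (σ ^ k * τ ^ l) a) (p' + 1) hGp
  have hG0 : ∏ l ∈ Finset.range (p' + 1), (σ ^ 0 * τ ^ l) a ∈ Z₀ := by
    apply hfix 0 1 (fun h => hp1 h.2)
    simp only [pow_zero, pow_one, one_mul, map_prod]
    have h3 := shift_prod (fun l => (τ ^ l) a) (p' + 1) (by simp [hτ])
    rw [← h3]
    refine Finset.prod_congr rfl fun l _ => ?_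
    rw [← MulAut.mul_apply, ← pow_succ']
  have hNj : ∀ j, ∏ k ∈ Finset.range (p' + 1), ((σ * τ ^ j) ^ k) a ∈ Z₀ := by
    intro j
    have hρp : (σ * τ ^ j) ^ (p' + 1) = 1 := by
      rw [(hστ.pow_right j).mul_pow, hσ, ← pow_mul, mul_comm j, pow_mul, hτ, one_pow, one_mul]
    apply hfix 1 j (fun h => hp1 h.1)
    rw [pow_one, map_prod]
    have h3 := shift_prod (fun k => ((σ * τ ^ j) ^ k) a) (p' + 1) (by simp [hρp])
    rw [← h3]
    refine Finset.prod_congr rfl fun k _ => ?_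
    rw [← MulAut.mul_apply, ← pow_succ']
  have hT : ∀ k j, ((σ * τ ^ j) ^ k) a = (σ ^ k * τ ^ ((j * k) % (p' + 1))) a := by
    intro k j
    rw [(hστ.pow_right j).mul_pow, ← pow_mul, pow_eq_pow_mod (j * k) hτ]
  have hprod : ∏ j ∈ Finset.range (p' + 1), ∏ k ∈ Finset.range (p' + 1), ((σ * τ ^ j) ^ k) a =
      a ^ (p' + 1) * ∏ k ∈ Finset.range p',
        ∏ l ∈ Finset.range (p' + 1), (σ ^ (k + 1) * τ ^ l) a := by
    rw [Finset.prod_comm,
      Finset.prod_range_succ' (fun k => ∏ j ∈ Finset.range (p' + 1), ((σ * τ ^ j) ^ k) a) p']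
    simp only [pow_zero, MulAut.one_apply, Finset.prod_const, Finset.card_range]
    rw [mul_comm]
    congr 1
    refine Finset.prod_congr rfl fun k hk => ?_
    have hk' : k + 1 < p' + 1 := by
      have := Finset.mem_range.mp hk
      omega
    simp only [hT]
    exact reindex_prod (fun l => (σ ^ (k + 1) * τ ^ l) a) hp (k + 1) (by omega) hk'
  have hNEsplit : ∏ k ∈ Finset.range (p' + 1), ∏ l ∈ Finset.range (p' + 1), (σ ^ k * τ ^ l) a =
      (∏ k ∈ Finset.range p', ∏ l ∈ Finset.range (p' + 1), (σ ^ (k + 1) * τ ^ l) a) *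
        ∏ l ∈ Finset.range (p' + 1), (σ ^ 0 * τ ^ l) a :=
    Finset.prod_range_succ' (fun k => ∏ l ∈ Finset.range (p' + 1), (σ ^ k * τ ^ l) a) p'
  have hfinal : a ^ (p' + 1) =
      (∏ l ∈ Finset.range (p' + 1), (σ ^ 0 * τ ^ l) a) *
        (∏ j ∈ Finset.range (p' + 1), ∏ k ∈ Finset.range (p' + 1), ((σ * τ ^ j) ^ k) a) *
        (∏ k ∈ Finset.range (p' + 1), ∏ l ∈ Finset.range (p' + 1), (σ ^ k * τ ^ l) a)⁻¹ := by
    rw [eq_mul_inv_iff_mul_eq, hprod, hNEsplit]
    ac_rfl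
  rw [hfinal]
  exact Z₀.mul_mem (Z₀.mul_mem hG0 (Z₀.prod_mem (fun j _ => hNj j))) (Z₀.inv_mem hNE)

end Cfsg.Agent.Helper5.NCNORMAB
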