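import Mathlib
import Cfsg.Agent.Helper96.OHDefs
import Cfsg.Agent.Helper69.ODDefs
import Cfsg.Agent.Helper84.OEETRANSFIXCore
import Cfsg.Agent.Helper69.OEEBADDIRcore
import Cfsg.Agent.Helper84.ODDNDSUBCARD

/-!
# CALL OD (helper69; rows S5989 + S5991), piece DBADDIR (helper5)

`od_bad_dir`, statement verbatim from `tools/calls/ODSkel.lean.txt`; twin of
`Cfsg.Agent.Helper69.OE5993.oe_bad_dir_core` (whose public `ebd_*` lemmas are reused).
-/

set_option autoImplicit false
set_option linter.unusedSectionVars false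
set_option linter.unusedVariables false

namespace Cfsg.Agent.Helper5.OD59

open Module Polynomial Cfsg Cfsg.Geo
open Cfsg.Agent.Helper13.TIu Cfsg.Agent.Helper96.OH Cfsg.Agent.Helper69.OD
open scoped MatrixGroups

variable {ι : Type} [Fintype ι] [DecidableEq ι] {F : Type*} [Field F] (Q : (ι → F) → F)


/-- the image of a member of the orbit under an isometry of finite order is a member -/
theorem odbd_map (T : Module.End F (ι → F)) (hT : OPres Q T) (r : ℕ) (hr0 : 0 < r)
    (hTr : T ^ r = 1) (m : ℕ) (W₀ W : Submodule F (ι → F))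
    (hW : finrank F W = m ∧ ONd Q W ∧ AreIsometricFor Q W W₀) :
    finrank F (W.map T) = m ∧ ONd Q (W.map T) ∧ AreIsometricFor Q (W.map T) W₀ := by
  have hinj := Cfsg.Agent.Helper69.OE5993.ebd_inj T r hr0 hTr
  refine ⟨?_, ?_, ?_⟩
  · rw [← hW.1]
    exact (Submodule.equivMapOfInjective T hinj W).finrank_eq.symm
  · rintro _ ⟨w, hw, rfl⟩ hw0
    have hw0' : w ≠ 0 := by
      rintro rfl
      exact hw0 (map_zero T)
    obtain ⟨⟨x, hx, hx1⟩, ⟨y, hy, hy1⟩⟩ := hW.2.1 w hw hw0'
    exact ⟨⟨T x, Submodule.mem_map_of_mem hx, by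
        rw [Cfsg.Agent.Helper69.OE5993.ebd_polar Q T hT]; exact hx1⟩,
      ⟨T y, Submodule.mem_map_of_mem hy, by
        rw [Cfsg.Agent.Helper69.OE5993.ebd_polar Q T hT]; exact hy1⟩⟩
  · obtain ⟨e, he⟩ := hW.2.2
    refine ⟨(Submodule.equivMapOfInjective T hinj W).symm.trans e, fun w => ?_⟩
    rw [LinearEquiv.trans_apply, he]
    have h1 := (Submodule.equivMapOfInjective T hinj W).apply_symm_apply w
    have h2 : T (((Submodule.equivMapOfInjective T hinj W).symm w : W) : ι → F)
        = (w : ι → F) := by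
      conv_rhs => rw [← h1]
      rw [Submodule.coe_equivMapOfInjective_apply]
    rw [← h2, hT]

/-- DBADDIR. -/
theorem od_bad_dir [Fintype F] (hQ : IsNondegenerateQuadraticForm Q) (h2 : (2 : F) ≠ 0)
    (T : Module.End F (ι → F)) (hT : OPres Q T) (r : ℕ) [Fact r.Prime] (hr2 : 2 < r)
    (hrF : (r : F) ≠ 0) (hTr : T ^ r = 1) (i c : ℕ)
    (hi : i = orderOf ((Fintype.card F : ℕ) : ZMod r)) (hc : c = if Even i then i else 2 * i)
    (m : ℕ) (hmo : Odd m) (hne : Even (Fintype.card ι)) (W₀ : Submodule F (ι → F))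
    (hfix : finrank F (LinearMap.ker (T - 1)) = Fintype.card ι % c)
    (hΩ : r ∣ Nat.card {W : Submodule F (ι → F) //
      finrank F W = m ∧ ONd Q W ∧ AreIsometricFor Q W W₀})
    (W : Submodule F (ι → F))
    (hW : (finrank F W = m ∧ ONd Q W ∧ AreIsometricFor Q W W₀) ∧ W.map T ≤ W) :
    c ≤ m ∧ m % c < Fintype.card ι % c := by
  classical
  have hrpr : r.Prime := Fact.out
  have hipos : 0 < i := by rw [hi]; exact Cfsg.Agent.Helper69.OE5993.ebd_ord_pos r hrF
  have hcpos : 0 < c := by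
    rw [hc]; split_ifs <;> omega
  have hceven : Even c := by
    rw [hc]; split_ifs with h
    · exact h
    · exact even_two_mul i
  have hdiv : ∀ W' : Submodule F (ι → F), finrank F W' = m → ONd Q W' → W'.map T ≤ W' →
      c ∣ m - finrank F (W' ⊓ LinearMap.ker (T - 1) : Submodule F _) := by
    intro W' hWm hW' hWT
    have h := Cfsg.Agent.Helper96.OH5992.o_cdvd Q hQ h2 T hT r hr2 hrF hTr i c hi hc W' hWT hW'
    rwa [hWm] at h
  have hfle : ∀ W' : Submodule F (ι → F), finrank F W' = m →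
      finrank F (W' ⊓ LinearMap.ker (T - 1) : Submodule F _) ≤ m := by
    intro W' hWm
    rw [← hWm]
    exact Submodule.finrank_mono inf_le_left
  have hmodlt : Fintype.card ι % c < c := Nat.mod_lt _ hcpos
  -- (1) `c ≤ m`
  have h1 : c ≤ m := by
    by_contra hcon
    have hmc : m < c := not_le.mp hcon
    have hA : ∀ W' : Submodule F (ι → F), finrank F W' = m → ONd Q W' → W'.map T ≤ W' →
        W' ≤ LinearMap.ker (T - 1) := by
      intro W' hWm hW' hWT
      have h3 := hdiv W' hWm hW' hWT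
      have h4 := hfle W' hWm
      have h5 : m - finrank F (W' ⊓ LinearMap.ker (T - 1) : Submodule F _) = 0 := by
        by_contra h6
        have h7 := Nat.le_of_dvd (Nat.pos_of_ne_zero h6) h3
        omega
      have h8 : finrank F (W' ⊓ LinearMap.ker (T - 1) : Submodule F _) = finrank F W' := by
        omega
      have h9 : W' ⊓ LinearMap.ker (T - 1) = W' :=
        Submodule.eq_of_le_of_finrank_eq inf_le_left h8
      rw [← h9]
      exact inf_le_right
    have hK : ONd Q (LinearMap.ker (T - 1)) := by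
      have h := (Cfsg.Agent.Helper31.OH5992.o_fix Q hQ T hT r hrpr.pos hrF hTr ⊤ le_top
        (ond_top _ hQ)).1
      rwa [top_inf_eq] at h
    have hKc : finrank F (LinearMap.ker (T - 1)) < c := by
      rw [hfix]; exact hmodlt
    have hWK : W ≤ LinearMap.ker (T - 1) := hA W hW.1.1 hW.1.2.1 hW.2
    have hns := Cfsg.Agent.Helper84.OD59.od_nd_sub_card Q hQ h2 r hr2 hrF i c hi hc m (LinearMap.ker (T - 1)) hK hKc
      W₀ W ⟨hW.1, hWK⟩
    apply hns
    have hcongr := Cfsg.Agent.Helper37.OH5992.o_fix_congr (F := F) T r hTr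
      (fun W' => finrank F W' = m ∧ ONd Q W' ∧ AreIsometricFor Q W' W₀)
      (fun W' hW' => odbd_map Q T hT r hrpr.pos hTr m W₀ W' hW')
    have hcard2 : Nat.card {W' : Submodule F (ι → F) //
          (finrank F W' = m ∧ ONd Q W' ∧ AreIsometricFor Q W' W₀) ∧ W'.map T ≤ W'} =
        Nat.card {W' : Submodule F (ι → F) //
          (finrank F W' = m ∧ ONd Q W' ∧ AreIsometricFor Q W' W₀) ∧
            W' ≤ LinearMap.ker (T - 1)} := by
      apply Nat.card_congr
      refine Equiv.subtypeEquivRight (fun W' =>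
        ⟨fun h => ⟨h.1, hA W' h.1.1 h.1.2.1 h.2⟩, fun h => ⟨h.1, ?_⟩⟩)
      rintro _ ⟨x, hx, rfl⟩
      have hxk := h.2 hx
      rw [LinearMap.mem_ker, LinearMap.sub_apply, Module.End.one_apply, sub_eq_zero] at hxk
      rw [hxk]
      exact hx
    rw [← hcard2]
    exact (Nat.modEq_zero_iff_dvd.mp ((hcongr.symm.trans (Nat.modEq_zero_iff_dvd.mpr hΩ))))
  -- (2)
  obtain ⟨f, hfdef⟩ : ∃ f : ℕ, f = finrank F (W ⊓ LinearMap.ker (T - 1) : Submodule F _) :=
    ⟨_, rfl⟩
  have hfK : f ≤ Fintype.card ι % c := by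
    rw [hfdef, ← hfix]
    exact Submodule.finrank_mono inf_le_right
  have hfm : f ≤ m := hfdef ▸ hfle W hW.1.1
  have hfdvd : c ∣ m - f := hfdef ▸ hdiv W hW.1.1 hW.1.2.1 hW.2
  have hmf : m % c = f := by
    obtain ⟨t, ht⟩ := hfdvd
    have hm' : m = f + c * t := by omega
    rw [hm', Nat.add_mul_mod_self_left]
    exact Nat.mod_eq_of_lt (by omega)
  -- parity
  have hmco : Odd (m % c) := by
    obtain ⟨c', hc'⟩ := hceven
    obtain ⟨m', hm'⟩ := hmo
    have := Nat.div_add_mod m c
    rw [hc'] at this ⊢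
    have h5 : (c' + c') * (m / (c' + c')) = 2 * (c' * (m / (c' + c'))) := by ring
    exact ⟨(m % (c' + c')) / 2, by omega⟩
  have hnce : Even (Fintype.card ι % c) := by
    obtain ⟨c', hc'⟩ := hceven
    obtain ⟨n', hn'⟩ := hne
    have := Nat.div_add_mod (Fintype.card ι) c
    rw [hc'] at this ⊢
    have h5 : (c' + c') * (Fintype.card ι / (c' + c'))
        = 2 * (c' * (Fintype.card ι / (c' + c'))) := by ring
    exact ⟨(Fintype.card ι % (c' + c')) / 2, by omega⟩
  refine ⟨h1, ?_⟩
  rcases hmco with ⟨a, ha⟩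
  rcases hnce with ⟨b, hb⟩
  omega

end Cfsg.Agent.Helper5.OD59
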