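import Mathlib
import Cfsg.Agent.Helper96.OHDefs
import Cfsg.Agent.Helper69.ODDefs
import Cfsg.Agent.Helper84.OEETRANSFIXCore
import Cfsg.Agent.Helper69.OEEGOOD
import Cfsg.Agent.Helper33.ODDSSUM
import Cfsg.Agent.Helper33.ODDSSUB

/-!
# CALL OD (helper69; rows S5989 + S5991), piece DGOOD (helper5)

`od_good`, statement verbatim from `tools/calls/ODSkel.lean.txt`; twin of
`Cfsg.Agent.Helper69.OE5993.oe_good` with the discriminant class in place of the type.
-/

set_option autoImplicit false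
set_option linter.unusedSectionVars false
set_option linter.unusedVariables false

namespace Cfsg.Agent.Helper5.OD59

open Module Polynomial Cfsg Cfsg.Geo
open Cfsg.Agent.Helper13.TIu Cfsg.Agent.Helper96.OH Cfsg.Agent.Helper69.OD
open scoped MatrixGroups

variable {ι : Type} [Fintype ι] [DecidableEq ι] {F : Type*} [Field F] (Q : (ι → F) → F)


/-- DGOOD. -/
theorem od_good [Fintype F] (hQ : IsNondegenerateQuadraticForm Q) (h2 : (2 : F) ≠ 0)
    (T : Module.End F (ι → F)) (hT : OPres Q T) (r : ℕ) [Fact r.Prime] (hr2 : 2 < r)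
    (hrF : (r : F) ≠ 0) (hTr : T ^ r = 1) (i c : ℕ)
    (hi : i = orderOf ((Fintype.card F : ℕ) : ZMod r)) (hc : c = if Even i then i else 2 * i)
    (m : ℕ) (hmo : Odd m) (hmn : m < Fintype.card ι)
    (hk : m % c < Fintype.card ι % c ∨
      (Fintype.card ι % c = 0 ∧ LinearMap.ker (T - 1) ≠ ⊥)) (b : Prop) :
    ∃ W : Submodule F (ι → F), (finrank F W = m ∧ ONd Q W ∧ (ODs Q W ↔ b)) ∧ W.map T ≤ W := by
  classical
  have hrpr : r.Prime := Fact.out
  have hipos : 0 < i := by rw [hi]; exact Cfsg.Agent.Helper69.OE5993.egood_ord_pos r hrF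
  have hcpos : 0 < c := by
    rw [hc]; split_ifs <;> omega
  have hceven : Even c := by
    rw [hc]; split_ifs with h
    · exact h
    · exact even_two_mul i
  -- fixed space and its complement
  have htop : finrank F (⊤ : Submodule F (ι → F)) = Fintype.card ι := by
    rw [finrank_top, Module.finrank_fintype_fun_eq_card]
  have hfix0 := Cfsg.Agent.Helper31.OH5992.o_fix Q hQ T hT r hrpr.pos hrF hTr ⊤ le_top
    (ond_top Q hQ)
  have hcd := Cfsg.Agent.Helper96.OH5992.o_cdvd Q hQ h2 T hT r hr2 hrF hTr i c hi hc ⊤ le_top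
    (ond_top Q hQ)
  obtain ⟨Fix, hFixdef⟩ : ∃ Fix : Submodule F (ι → F), Fix = ⊤ ⊓ LinearMap.ker (T - 1) :=
    ⟨_, rfl⟩
  rw [← hFixdef] at hfix0 hcd
  rw [htop] at hfix0 hcd
  obtain ⟨hFix, P, -, hPT, hP, hPk, hsup, horth, hdim⟩ := hfix0
  obtain ⟨ρ, hρ⟩ := hcd
  have hPdim : finrank F P = c * ρ := by omega
  have hFixdim : finrank F Fix + c * ρ = Fintype.card ι := by omega
  -- atoms
  have hatom : ∀ N : Submodule F (ι → F), N ≤ P → N.map T ≤ N → ONd Q N → N ≠ ⊥ →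
      ∃ E : Submodule F (ι → F), E ≤ N ∧ E.map T ≤ E ∧ ONd Q E ∧ finrank F E = c := by
    intro N hNP hNT hN hN0
    have hNk : N ⊓ LinearMap.ker (T - 1) = ⊥ :=
      le_bot_iff.mp (hPk ▸ inf_le_inf_right _ hNP)
    exact Cfsg.Agent.Helper96.OH5992.o_atom Q hQ h2 T hT r hr2 hrF hTr i c hi hc N hNT hN hN0 hNk
  obtain ⟨h₁, hh₁⟩ : ∃ h₁ : ℕ, h₁ = min (m / c) ρ := ⟨_, rfl⟩
  have hh₁ρ : h₁ ≤ ρ := hh₁ ▸ min_le_right _ _
  have hh₁m : h₁ ≤ m / c := hh₁ ▸ min_le_left _ _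
  have hh₁le : c * h₁ ≤ finrank F P := by
    rw [hPdim]
    exact Nat.mul_le_mul_left c hh₁ρ
  obtain ⟨N₁, hN₁P, hN₁T, hN₁, hN₁dim⟩ :=
    Cfsg.Agent.Helper31.OH5992.o_grow Q hQ T hT r hrpr.pos hTr c hcpos P hatom P le_rfl hPT hP
      h₁ hh₁le
  have hch₁m : c * h₁ ≤ m := by
    calc c * h₁ ≤ c * (m / c) := Nat.mul_le_mul_left c hh₁m
      _ ≤ m := Nat.mul_div_le m c
  -- `e₁ = m - c * h₁` is odd, hence positive
  have hepos : 0 < m - c * h₁ := by
    obtain ⟨a, ha⟩ := hmo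
    obtain ⟨c', hc'⟩ := hceven
    have h5 : c * h₁ = 2 * (c' * h₁) := by rw [hc']; ring
    omega
  have he1lt : m - c * h₁ < finrank F Fix := by
    rcases le_or_gt (m / c) ρ with hle | hgt
    · have hh : h₁ = m / c := hh₁.trans (min_eq_left hle)
      have h5 : m - c * h₁ = m % c := by
        rw [hh]
        have := Nat.div_add_mod m c
        omega
      rw [h5]
      have h6 : Fintype.card ι % c = finrank F Fix % c := by
        rw [← hFixdim, Nat.add_mul_mod_self_left]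
      rcases hk with hk | ⟨hk0, hker⟩
      · rw [h6] at hk
        exact lt_of_lt_of_le hk (Nat.mod_le _ _)
      · have hFne : Fix ≠ ⊥ := by rw [hFixdef, top_inf_eq]; exact hker
        have hpos : 0 < finrank F Fix := by
          rw [Nat.pos_iff_ne_zero]
          intro h0
          exact hFne (Submodule.finrank_eq_zero.mp h0)
        have hdvd : c ∣ finrank F Fix := Nat.dvd_of_mod_eq_zero (by rw [← h6]; exact hk0)
        exact lt_of_lt_of_le (Nat.mod_lt _ hcpos) (Nat.le_of_dvd hpos hdvd)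
    · have hh : h₁ = ρ := hh₁.trans (min_eq_right hgt.le)
      rw [hh] at hepos ⊢
      omega
  obtain ⟨X, hXF, hX, hXdim, hXty⟩ :=
    Cfsg.Agent.Helper33.OD59.ods_sub Q hQ h2 Fix hFix (m - c * h₁) hepos he1lt (ODs Q N₁ ↔ b)
  have hXN : OOrth Q X N₁ := fun u hu v hv => horth u (hXF hu) v (hN₁P hv)
  refine ⟨X ⊔ N₁, ⟨?_, ?_, ?_⟩, ?_⟩
  · rw [Cfsg.Agent.Helper33.OType.finrank_sup_of_orth Q X N₁ hX hXN, hXdim, hN₁dim]
    omega
  · exact Cfsg.Agent.Helper33.OType.nondeg_sup Q hQ X N₁ hX hN₁ hXN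
  · rw [Cfsg.Agent.Helper33.OD59.ods_sup Q hQ X N₁ hX hN₁ hXN]
    tauto
  · rw [Submodule.map_sup]
    refine sup_le_sup ?_ hN₁T
    rintro _ ⟨x, hx, rfl⟩
    have hxk : x ∈ LinearMap.ker (T - 1) := (hFixdef ▸ hXF hx : x ∈ ⊤ ⊓ LinearMap.ker (T - 1)).2
    rw [LinearMap.mem_ker, LinearMap.sub_apply, Module.End.one_apply, sub_eq_zero] at hxk
    rw [hxk]
    exact hx

end Cfsg.Agent.Helper5.OD59
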