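import Mathlib
import Cfsg.Agent.Helper96.OHDefs
import Cfsg.Agent.Helper69.ODDefs

/-!
# CALL OD part 2 (helper69; row S5991), piece PMCONJ (helper5)

`od_pm_conj`, statement verbatim from `tools/calls/ODSkel2.lean.txt`: conjugation by an invertible
matrix transports kernel dimensions of the powers of `A - 1` and invariant subspaces.
-/

set_option autoImplicit false
set_option linter.unusedSectionVars false
set_option linter.unusedVariables false

namespace Cfsg.Agent.Helper5.OD59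

open Module Polynomial Cfsg Cfsg.Geo
open Cfsg.Agent.Helper13.TIu Cfsg.Agent.Helper96.OH Cfsg.Agent.Helper69.OD
open scoped MatrixGroups

variable {ι : Type} [Fintype ι] [DecidableEq ι] {F : Type*} [Field F] (Q : (ι → F) → F)

theorem pmconj_pow (S Sinv A : Matrix ι ι F) (hSS : S * Sinv = 1) (hSS' : Sinv * S = 1) :
    ∀ (k : ℕ) (x : ι → F), ((Matrix.toLin' (S * A * Sinv) - 1) ^ k) x =
      S.mulVec (((Matrix.toLin' A - 1) ^ k) (Sinv.mulVec x)) := by
  intro k
  induction k with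
  | zero =>
    intro x
    rw [pow_zero, pow_zero, Module.End.one_apply, Module.End.one_apply, Matrix.mulVec_mulVec, hSS,
      Matrix.one_mulVec]
  | succ k ih =>
    intro x
    rw [pow_succ, pow_succ, Module.End.mul_apply, Module.End.mul_apply, ih]
    congr 2
    rw [LinearMap.sub_apply, LinearMap.sub_apply, Module.End.one_apply, Module.End.one_apply,
      Matrix.toLin'_apply, Matrix.toLin'_apply, Matrix.mulVec_sub, Matrix.mulVec_mulVec,
      Matrix.mulVec_mulVec]
    have h1 : Sinv * (S * A * Sinv) = A * Sinv := by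
      rw [← Matrix.mul_assoc, ← Matrix.mul_assoc, hSS', Matrix.one_mul]
    rw [h1]

theorem pmconj_inj (S Sinv : Matrix ι ι F) (hSS' : Sinv * S = 1) (y : ι → F)
    (h : S.mulVec y = 0) : y = 0 := by
  have h1 : Sinv.mulVec (S.mulVec y) = y := by
    rw [Matrix.mulVec_mulVec, hSS', Matrix.one_mulVec]
  rw [← h1, h, Matrix.mulVec_zero]

/-- PMCONJ. -/
theorem od_pm_conj (S Sinv A : Matrix ι ι F) (hSS : S * Sinv = 1) (hSS' : Sinv * S = 1) :
    (∀ k, finrank F (LinearMap.ker ((Matrix.toLin' (S * A * Sinv) - 1) ^ k)) =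
      finrank F (LinearMap.ker ((Matrix.toLin' A - 1) ^ k))) ∧
    (∀ k, (Matrix.toLin' A - 1) ^ k = 0 → (Matrix.toLin' (S * A * Sinv) - 1) ^ k = 0) ∧
    ∀ W' : Submodule F (ι → F), W'.map (Matrix.toLin' (S * A * Sinv)) ≤ W' →
      (W'.map (Matrix.toLin' Sinv)).map (Matrix.toLin' A) ≤ W'.map (Matrix.toLin' Sinv) ∧
      finrank F ↥(W'.map (Matrix.toLin' Sinv) ⊓ LinearMap.ker (Matrix.toLin' A - 1)) =
        finrank F ↥(W' ⊓ LinearMap.ker (Matrix.toLin' (S * A * Sinv) - 1)) := by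
  classical
  have hpow := pmconj_pow S Sinv A hSS hSS'
  have hSx : ∀ x : ι → F, S.mulVec (Sinv.mulVec x) = x := fun x => by
    rw [Matrix.mulVec_mulVec, hSS, Matrix.one_mulVec]
  have hSx' : ∀ x : ι → F, Sinv.mulVec (S.mulVec x) = x := fun x => by
    rw [Matrix.mulVec_mulVec, hSS', Matrix.one_mulVec]
  -- the linear equivalence `x ↦ S x`
  obtain ⟨e, he, hes⟩ : ∃ e : (ι → F) ≃ₗ[F] (ι → F), (∀ x, e x = S.mulVec x) ∧
      ∀ x, e.symm x = Sinv.mulVec x := by
    refine ⟨LinearEquiv.ofLinear (Matrix.toLin' S) (Matrix.toLin' Sinv) ?_ ?_, fun x => rfl,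
      fun x => rfl⟩
    · rw [← Matrix.toLin'_mul, hSS, Matrix.toLin'_one]
    · rw [← Matrix.toLin'_mul, hSS', Matrix.toLin'_one]
  refine ⟨fun k => ?_, fun k hk => ?_, fun W' hW' => ⟨?_, ?_⟩⟩
  · have hker : LinearMap.ker ((Matrix.toLin' (S * A * Sinv) - 1) ^ k) =
        (LinearMap.ker ((Matrix.toLin' A - 1) ^ k)).map (e : (ι → F) →ₗ[F] (ι → F)) := by
      ext x
      rw [LinearMap.mem_ker, hpow, Submodule.mem_map]
      constructor
      · intro h
        refine ⟨Sinv.mulVec x, ?_, ?_⟩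
        · rw [LinearMap.mem_ker]
          exact pmconj_inj S Sinv hSS' _ h
        · show e (Sinv.mulVec x) = x
          rw [he, hSx]
      · rintro ⟨y, hy, rfl⟩
        have h1 : (e : (ι → F) →ₗ[F] (ι → F)) y = S.mulVec y := he y
        rw [h1, hSx', LinearMap.mem_ker.mp hy, Matrix.mulVec_zero]
    rw [hker, LinearEquiv.finrank_map_eq]
  · apply LinearMap.ext
    intro x
    rw [hpow, hk, LinearMap.zero_apply, LinearMap.zero_apply, Matrix.mulVec_zero]
  · rintro _ ⟨_, ⟨w, hw, rfl⟩, rfl⟩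
    refine ⟨Matrix.toLin' (S * A * Sinv) w, hW' ⟨w, hw, rfl⟩, ?_⟩
    rw [Matrix.toLin'_apply, Matrix.toLin'_apply, Matrix.toLin'_apply, Matrix.toLin'_apply,
      Matrix.mulVec_mulVec, Matrix.mulVec_mulVec]
    have h1 : Sinv * (S * A * Sinv) = A * Sinv := by
      rw [← Matrix.mul_assoc, ← Matrix.mul_assoc, hSS', Matrix.one_mul]
    rw [h1]
  · have hset : W'.map (Matrix.toLin' Sinv) ⊓ LinearMap.ker (Matrix.toLin' A - 1) =
        (W' ⊓ LinearMap.ker (Matrix.toLin' (S * A * Sinv) - 1)).map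
          (e.symm : (ι → F) →ₗ[F] (ι → F)) := by
      have hp1 := hpow 1
      simp only [pow_one] at hp1
      ext y
      constructor
      · rintro ⟨⟨w, hw, rfl⟩, hy⟩
        refine ⟨w, ⟨hw, ?_⟩, ?_⟩
        · rw [SetLike.mem_coe, LinearMap.mem_ker, hp1]
          rw [SetLike.mem_coe, LinearMap.mem_ker, Matrix.toLin'_apply] at hy
          rw [hy, Matrix.mulVec_zero]
        · show e.symm w = Matrix.toLin' Sinv w
          rw [hes, Matrix.toLin'_apply]
      · rintro ⟨w, ⟨hw, hk⟩, rfl⟩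
        refine ⟨⟨w, hw, ?_⟩, ?_⟩
        · show Matrix.toLin' Sinv w = e.symm w
          rw [hes, Matrix.toLin'_apply]
        · rw [SetLike.mem_coe, LinearMap.mem_ker, hp1] at hk
          have h1 : (e.symm : (ι → F) →ₗ[F] (ι → F)) w = Sinv.mulVec w := hes w
          rw [SetLike.mem_coe, LinearMap.mem_ker, h1]
          exact pmconj_inj S Sinv hSS' _ hk
    rw [hset, LinearEquiv.finrank_map_eq]

end Cfsg.Agent.Helper5.OD59
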