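import Mathlib
import Cfsg.Agent.Helper96.OHDefs
import Cfsg.Agent.Helper69.ODDefs

/-!
# CALL OD part 2 (helper69; row S5991), piece PMS (helper5)

`od_pm_sim`, statement verbatim from `tools/calls/ODSkel2.lean.txt`: a similarity of the minus form
with a nonsquare multiplier (scale the `x`-coordinates of the hyperbolic part by `lam`, multiply the
anisotropic part by an element of norm `lam`).
-/

set_option autoImplicit false
set_option linter.unusedSectionVars false
set_option linter.unusedVariables false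

namespace Cfsg.Agent.Helper5.OD59

open Module Polynomial Cfsg Cfsg.Geo
open Cfsg.Agent.Helper13.TIu Cfsg.Agent.Helper96.OH Cfsg.Agent.Helper69.OD
open scoped MatrixGroups

variable {ι : Type} [Fintype ι] [DecidableEq ι] {F : Type*} [Field F] (Q : (ι → F) → F)

/-- the linear map scaling the first block by `c` and acting by `[[p, q], [r, s]]` on the last. -/
theorem pms_lin (n : ℕ) (c p q r s : F) :
    ∃ f : (((Fin n ⊕ Fin n) ⊕ Fin 2) → F) →ₗ[F] (((Fin n ⊕ Fin n) ⊕ Fin 2) → F),
      ∀ w, (∀ j, f w (.inl (.inl j)) = c * w (.inl (.inl j))) ∧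
        (∀ j, f w (.inl (.inr j)) = w (.inl (.inr j))) ∧
        f w (.inr 0) = p * w (.inr 0) + q * w (.inr 1) ∧
        f w (.inr 1) = r * w (.inr 0) + s * w (.inr 1) := by
  refine ⟨{ toFun := fun w => Sum.elim
              (Sum.elim (fun j => c * w (.inl (.inl j))) (fun j => w (.inl (.inr j))))
              ![p * w (.inr 0) + q * w (.inr 1), r * w (.inr 0) + s * w (.inr 1)]
            map_add' := ?_
            map_smul' := ?_ }, fun w => ⟨fun j => rfl, fun j => rfl, rfl, rfl⟩⟩
  · intro x y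
    funext i
    rcases i with (j | j) | k
    · simp only [Sum.elim_inl, Pi.add_apply]; ring
    · simp only [Sum.elim_inl, Sum.elim_inr, Pi.add_apply]
    · fin_cases k
      · simp only [Sum.elim_inr, Pi.add_apply, Fin.zero_eta, Matrix.cons_val_zero]; ring
      · simp only [Sum.elim_inr, Pi.add_apply, Fin.mk_one, Matrix.cons_val_one,
          Matrix.cons_val_zero]; ring
  · intro t x
    funext i
    rcases i with (j | j) | k
    · simp only [Sum.elim_inl, Pi.smul_apply, smul_eq_mul, RingHom.id_apply]; ring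
    · simp only [Sum.elim_inl, Sum.elim_inr, Pi.smul_apply, smul_eq_mul, RingHom.id_apply]
    · fin_cases k
      · simp only [Sum.elim_inr, Pi.smul_apply, smul_eq_mul, RingHom.id_apply, Fin.zero_eta,
          Matrix.cons_val_zero]; ring
      · simp only [Sum.elim_inr, Pi.smul_apply, smul_eq_mul, RingHom.id_apply, Fin.mk_one,
          Matrix.cons_val_one, Matrix.cons_val_zero]; ring

/-- an anisotropic binary form over a finite field of odd characteristic represents everything -/
theorem pms_repr [Fintype F] (h2 : (2 : F) ≠ 0) (a b : F)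
    (hab : ∀ x y : F, x ^ 2 + a * x * y + b * y ^ 2 = 0 → x = 0 ∧ y = 0) (lam : F) :
    ∃ u v : F, u ^ 2 + a * u * v + b * v ^ 2 = lam := by
  classical
  have hchar : ringChar F ≠ 2 := by
    intro h
    apply h2
    have h1 := CharP.cast_eq_zero F (ringChar F)
    rw [h] at h1
    exact_mod_cast h1
  have hcard := FiniteField.odd_card_of_char_ne_two hchar
  obtain ⟨c, hc⟩ : ∃ c : F, c = b - a ^ 2 / 4 := ⟨_, rfl⟩
  have h4 : (4 : F) ≠ 0 := by
    have : (4 : F) = 2 * 2 := by norm_num
    rw [this]; exact mul_ne_zero h2 h2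
  have hc0 : c ≠ 0 := by
    intro h0
    have hval : (-a / 2) ^ 2 + a * (-a / 2) * 1 + b * 1 ^ 2 = c := by
      rw [hc]; field_simp; ring
    have h1 := hab (-a / 2) 1 (by rw [hval, h0])
    exact one_ne_zero h1.2
  have hf : (X ^ 2 : F[X]).degree = 2 := by
    rw [degree_X_pow]; rfl
  have hg : (C c * X ^ 2 - C lam : F[X]).degree = 2 := by
    rw [degree_sub_C (by rw [degree_C_mul_X_pow 2 hc0]; norm_num), degree_C_mul_X_pow 2 hc0]
    rfl
  obtain ⟨x, y, hxy⟩ := FiniteField.exists_root_sum_quadratic hf hg hcard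
  simp only [eval_pow, eval_X, eval_sub, eval_mul, eval_C] at hxy
  refine ⟨x - a / 2 * y, y, ?_⟩
  rw [hc] at hxy
  field_simp
  field_simp at hxy
  linear_combination hxy

/-- PMS. -/
theorem od_pm_sim [Fintype F] (h2 : (2 : F) ≠ 0) (n : ℕ) (a b : F)
    (hab : ∀ x y : F, x ^ 2 + a * x * y + b * y ^ 2 = 0 → x = 0 ∧ y = 0) :
    ∃ (S Sinv : Matrix ((Fin n ⊕ Fin n) ⊕ Fin 2) ((Fin n ⊕ Fin n) ⊕ Fin 2) F) (lam : F),
      ¬ IsSquare lam ∧ S * Sinv = 1 ∧ Sinv * S = 1 ∧
      ∀ v, Cfsg.quadFormMinus n F a b (S.mulVec v) = lam * Cfsg.quadFormMinus n F a b v := by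
  classical
  have hchar : ringChar F ≠ 2 := by
    intro h
    apply h2
    have h1 := CharP.cast_eq_zero F (ringChar F)
    rw [h] at h1
    exact_mod_cast h1
  obtain ⟨lam, hlam⟩ := FiniteField.exists_nonsquare hchar
  have hlam0 : lam ≠ 0 := by
    rintro rfl
    exact hlam ⟨0, by simp⟩
  obtain ⟨u, v, huv⟩ := pms_repr h2 a b hab lam
  obtain ⟨f, hf⟩ := pms_lin (F := F) n lam u (-(b * v)) v (u + a * v)
  obtain ⟨g, hg⟩ := pms_lin (F := F) n lam⁻¹ ((u + a * v) / lam) (b * v / lam) (-v / lam)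
    (u / lam)
  have hN : ∀ z : F, (u ^ 2 + a * u * v + b * v ^ 2) / lam * z = z := by
    intro z
    rw [huv, div_self hlam0, one_mul]
  have hfg : f ∘ₗ g = LinearMap.id := by
    apply LinearMap.ext
    intro w
    funext i
    obtain ⟨hf1, hf2, hf3, hf4⟩ := hf (g w)
    obtain ⟨hg1, hg2, hg3, hg4⟩ := hg w
    rw [LinearMap.comp_apply, LinearMap.id_apply]
    rcases i with (j | j) | k
    · rw [hf1, hg1, ← mul_assoc, mul_inv_cancel₀ hlam0, one_mul]
    · rw [hf2, hg2]
    · fin_cases k
      · show f (g w) (Sum.inr 0) = w (Sum.inr 0)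
        rw [hf3, hg3, hg4]
        conv_rhs => rw [← hN (w (Sum.inr 0))]
        ring
      · show f (g w) (Sum.inr 1) = w (Sum.inr 1)
        rw [hf4, hg3, hg4]
        conv_rhs => rw [← hN (w (Sum.inr 1))]
        ring
  have hgf : g ∘ₗ f = LinearMap.id := by
    apply LinearMap.ext
    intro w
    funext i
    obtain ⟨hg1, hg2, hg3, hg4⟩ := hg (f w)
    obtain ⟨hf1, hf2, hf3, hf4⟩ := hf w
    rw [LinearMap.comp_apply, LinearMap.id_apply]
    rcases i with (j | j) | k
    · rw [hg1, hf1, ← mul_assoc, inv_mul_cancel₀ hlam0, one_mul]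
    · rw [hg2, hf2]
    · fin_cases k
      · show g (f w) (Sum.inr 0) = w (Sum.inr 0)
        rw [hg3, hf3, hf4]
        conv_rhs => rw [← hN (w (Sum.inr 0))]
        ring
      · show g (f w) (Sum.inr 1) = w (Sum.inr 1)
        rw [hg4, hf3, hf4]
        conv_rhs => rw [← hN (w (Sum.inr 1))]
        ring
  refine ⟨LinearMap.toMatrix' f, LinearMap.toMatrix' g, lam, hlam, ?_, ?_, ?_⟩
  · rw [← LinearMap.toMatrix'_comp, hfg, LinearMap.toMatrix'_id]
  · rw [← LinearMap.toMatrix'_comp, hgf, LinearMap.toMatrix'_id]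
  · intro w
    rw [LinearMap.toMatrix'_mulVec]
    obtain ⟨hf1, hf2, hf3, hf4⟩ := hf w
    unfold Cfsg.quadFormMinus
    simp only [hf1, hf2, hf3, hf4]
    have hsum : ∑ x : Fin n, lam * w (Sum.inl (Sum.inl x)) * w (Sum.inl (Sum.inr x)) =
        lam * ∑ i : Fin n, w (Sum.inl (Sum.inl i)) * w (Sum.inl (Sum.inr i)) := by
      rw [Finset.mul_sum]
      apply Finset.sum_congr rfl
      intro j _
      ring
    rw [hsum, ← huv]
    ring

end Cfsg.Agent.Helper5.OD59
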