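import Mathlib
import Cfsg.Prelude.Def_GeometricClasses
import Cfsg.Prelude.Def_Classical
import Cfsg.Agent.Helper96.OHDefs

set_option autoImplicit false
set_option linter.unusedSectionVars false
set_option linter.unusedVariables false

/-!
# Sub-CALL S74T2 (helper65; row S5974, `r = p = 2`), piece GDUAL (helper5)

`t2_gdual`, statement verbatim from `tools/calls/S74T2Skel.lean.txt`: a family with a dual family
inside its span spans a nondegenerate subspace of dimension `n`.
-/

namespace Cfsg.Agent.Helper5.S74T2

open Module Cfsg Cfsg.Geo Cfsg.Agent.Helper96.OH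
open Cfsg.Agent.Helper13.TIu

variable {ι : Type} [Fintype ι] [DecidableEq ι] {F : Type*} [Field F] (Q : (ι → F) → F)

/-- pairing a linear combination of `b` with a member of the dual family -/
theorem t2_gdual_key (hQ : IsNondegenerateQuadraticForm Q) {n : ℕ} (b b' : Fin n → (ι → F))
    (hdual : ∀ i j, QuadraticMap.polar Q (b i) (b' j) = if i = j then 1 else 0)
    (c : Fin n → F) (j : Fin n) : pB Q hQ (∑ i, c i • b i) (b' j) = c j := by
  classical
  rw [map_sum, LinearMap.sum_apply]
  have h1 : ∀ i ∈ Finset.univ, (pB Q hQ (c i • b i)) (b' j) = if i = j then c i else 0 := by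
    intro i _
    rw [map_smul, LinearMap.smul_apply, pB_apply, hdual, smul_eq_mul]
    split_ifs
    · rw [mul_one]
    · rw [mul_zero]
  rw [Finset.sum_congr rfl h1, Finset.sum_ite_eq' Finset.univ j c, if_pos (Finset.mem_univ j)]

/-- GDUAL. -/
theorem t2_gdual (hQ : IsNondegenerateQuadraticForm Q) {n : ℕ} (b b' : Fin n → (ι → F))
    (hb' : ∀ j, b' j ∈ Submodule.span F (Set.range b))
    (hdual : ∀ i j, QuadraticMap.polar Q (b i) (b' j) = if i = j then 1 else 0) :
    ONd Q (Submodule.span F (Set.range b)) ∧ finrank F ↥(Submodule.span F (Set.range b)) = n := by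
  classical
  have key := t2_gdual_key Q hQ b b' hdual
  have hli : LinearIndependent F b := by
    rw [Fintype.linearIndependent_iff]
    intro c hc j
    have h1 := key c j
    rw [hc, map_zero, LinearMap.zero_apply] at h1
    exact h1.symm
  refine ⟨(und_iff Q hQ _).mp ?_, ?_⟩
  · intro u hu hall
    obtain ⟨c, rfl⟩ := (Submodule.mem_span_range_iff_exists_fun F).mp hu
    have hc : c = 0 := by
      funext j
      rw [← key c j]
      exact hall _ (hb' j)
    rw [hc]
    simp
  · rw [finrank_span_eq_card hli, Fintype.card_fin]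

end Cfsg.Agent.Helper5.S74T2
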