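import Mathlib
import Cfsg.Prelude.Def_GeometricClasses
import Cfsg.Prelude.Def_Classical
import Cfsg.Agent.Helper96.OHDefs
import Cfsg.Agent.Helper5.S74T2GDUAL

set_option autoImplicit false
set_option linter.unusedSectionVars false
set_option linter.unusedVariables false

/-!
# Sub-CALL S74T2 (helper65; row S5974, `r = p = 2`), piece BLK2 (helper5)

`t2_blk2`, statement verbatim from `tools/calls/S74T2Skel.lean.txt`: if `polar v (T v) ≠ 0` the
plane `span {v, T v}` is invariant and nondegenerate.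
-/

namespace Cfsg.Agent.Helper5.S74T2

open Module Cfsg Cfsg.Geo Cfsg.Agent.Helper96.OH
open Cfsg.Agent.Helper13.TIu

variable {ι : Type} [Fintype ι] [DecidableEq ι] {F : Type*} [Field F] (Q : (ι → F) → F)

/-- an involution applied twice -/
theorem t2_inv_apply (T : Module.End F (ι → F)) (hTT : T ^ 2 = 1) (u : ι → F) : T (T u) = u := by
  have h1 : (T ^ 2) u = u := by rw [hTT]; rfl
  rw [pow_two, Module.End.mul_apply] at h1
  exact h1

/-- BLK2. -/
theorem t2_blk2 (hQ : IsNondegenerateQuadraticForm Q) (h2 : (2 : F) = 0)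
    (T : Module.End F (ι → F)) (hT : OPres Q T) (hTT : T ^ 2 = 1)
    (K : Submodule F (ι → F)) (hKT : K.map T ≤ K) (v : ι → F) (hv : v ∈ K)
    (hne : QuadraticMap.polar Q v (T v) ≠ 0) :
    ∃ P : Submodule F (ι → F), P ≤ K ∧ P.map T ≤ P ∧ ONd Q P ∧ finrank F ↥P = 2 := by
  classical
  obtain ⟨c, hc⟩ : ∃ c, c = QuadraticMap.polar Q v (T v) := ⟨_, rfl⟩
  have hc0 : c ≠ 0 := by rw [hc]; exact hne
  have hself : ∀ u, pB Q hQ u u = 0 := fun u => by rw [pB_self, h2, zero_mul]
  have hTvK : T v ∈ K := hKT (Submodule.mem_map_of_mem hv)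
  have hvT : pB Q hQ v (T v) = c := by rw [pB_apply, hc]
  have hTv : pB Q hQ (T v) v = c := by rw [pB_comm, hvT]
  have h00 : QuadraticMap.polar Q v (c⁻¹ • T v) = 1 := by
    rw [← pB_apply Q hQ, map_smul, smul_eq_mul, hvT, inv_mul_cancel₀ hc0]
  have h01 : QuadraticMap.polar Q v (c⁻¹ • v) = 0 := by
    rw [← pB_apply Q hQ, map_smul, smul_eq_mul, hself, mul_zero]
  have h10 : QuadraticMap.polar Q (T v) (c⁻¹ • T v) = 0 := by
    rw [← pB_apply Q hQ, map_smul, smul_eq_mul, hself, mul_zero]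
  have h11 : QuadraticMap.polar Q (T v) (c⁻¹ • v) = 1 := by
    rw [← pB_apply Q hQ, map_smul, smul_eq_mul, hTv, inv_mul_cancel₀ hc0]
  have hb' : ∀ j, ![c⁻¹ • T v, c⁻¹ • v] j ∈ Submodule.span F (Set.range ![v, T v]) := by
    intro j
    fin_cases j
    · exact Submodule.smul_mem _ _ (Submodule.subset_span ⟨1, rfl⟩)
    · exact Submodule.smul_mem _ _ (Submodule.subset_span ⟨0, rfl⟩)
  have hdual : ∀ i j, QuadraticMap.polar Q (![v, T v] i) (![c⁻¹ • T v, c⁻¹ • v] j) =
      if i = j then 1 else 0 := by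
    intro i j
    fin_cases i <;> fin_cases j
    · exact h00.trans (if_pos rfl).symm
    · exact h01.trans (if_neg (by decide)).symm
    · exact h10.trans (if_neg (by decide)).symm
    · exact h11.trans (if_pos rfl).symm
  obtain ⟨hnd, hdim⟩ := t2_gdual Q hQ ![v, T v] ![c⁻¹ • T v, c⁻¹ • v] hb' hdual
  refine ⟨Submodule.span F (Set.range ![v, T v]), ?_, ?_, hnd, hdim⟩
  · rw [Submodule.span_le]
    rintro _ ⟨i, rfl⟩
    fin_cases i
    · exact hv
    · exact hTvK
  · rw [Submodule.map_span, Submodule.span_le]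
    rintro _ ⟨_, ⟨i, rfl⟩, rfl⟩
    fin_cases i
    · exact Submodule.subset_span ⟨1, rfl⟩
    · show T (T v) ∈ _
      rw [t2_inv_apply T hTT]
      exact Submodule.subset_span ⟨0, rfl⟩

end Cfsg.Agent.Helper5.S74T2
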