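import Mathlib
import Cfsg.Prelude.Def_GeometricClasses
import Cfsg.Prelude.Def_Classical
import Cfsg.Agent.Helper96.OHDefs
import Cfsg.Agent.Helper5.S74T2GDUAL
import Cfsg.Agent.Helper5.S74T2BLK2

set_option autoImplicit false
set_option linter.unusedSectionVars false
set_option linter.unusedVariables false

/-!
# Sub-CALL S74T2 (helper65; row S5974, `r = p = 2`), piece BLK4 (helper5)

`t2_blk4`, statement verbatim from `tools/calls/S74T2Skel.lean.txt`: if `polar u (T u) = 0` on the
invariant nondegenerate `K` and `T v ≠ v`, then `span {v, N v, w, N w}` (`N = T + 1`,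
`polar (N v) w = 1`) is an invariant nondegenerate `4`-space of plus type.
-/

namespace Cfsg.Agent.Helper5.S74T2

open Module Cfsg Cfsg.Geo Cfsg.Agent.Helper96.OH
open Cfsg.Agent.Helper13.TIu

variable {ι : Type} [Fintype ι] [DecidableEq ι] {F : Type*} [Field F] (Q : (ι → F) → F)

/-- BLK4. -/
theorem t2_blk4 (hQ : IsNondegenerateQuadraticForm Q) (h2 : (2 : F) = 0)
    (T : Module.End F (ι → F)) (hT : OPres Q T) (hTT : T ^ 2 = 1)
    (K : Submodule F (ι → F)) (hKT : K.map T ≤ K) (hK : ONd Q K)
    (halt : ∀ u ∈ K, QuadraticMap.polar Q u (T u) = 0) (v : ι → F) (hv : v ∈ K)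
    (hne : T v ≠ v) :
    ∃ P : Submodule F (ι → F), P ≤ K ∧ P.map T ≤ P ∧ ONd Q P ∧ finrank F ↥P = 4 ∧ OPl Q P := by
  classical
  obtain ⟨B, hB⟩ : ∃ B : LinearMap.BilinForm F (ι → F), B = pB Q hQ := ⟨_, rfl⟩
  have hBp : ∀ x y, B x y = QuadraticMap.polar Q x y := fun x y => by rw [hB, pB_apply]
  have hBc : ∀ x y, B x y = B y x := fun x y => by rw [hB]; exact pB_comm Q hQ x y
  have hBs : ∀ x, B x x = 0 := fun x => by rw [hB, pB_self, h2, zero_mul]
  have hBT : ∀ x y, B (T x) (T y) = B x y := fun x y => by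
    rw [hB]; exact upres_of Q hQ T hT x y
  have hTT' := t2_inv_apply T hTT
  have hchar : ∀ x : ι → F, x + x = 0 := by
    intro x
    rw [← two_smul F x, h2, zero_smul]
  have hcharF : ∀ a : F, a + a = 0 := by
    intro a
    rw [← two_mul, h2, zero_mul]
  -- the nilpotent part
  obtain ⟨N, hN⟩ : ∃ N : Module.End F (ι → F), N = T + 1 := ⟨_, rfl⟩
  have hNa : ∀ u, N u = T u + u := fun u => by rw [hN]; rfl
  have hTN : ∀ u, T (N u) = N u := by
    intro u
    rw [hNa, map_add, hTT', add_comm]
  have hTu : ∀ u, T u = u + N u := by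
    intro u
    rw [hNa, add_comm (T u) u, ← add_assoc, hchar, zero_add]
  have hNK : ∀ u ∈ K, N u ∈ K := fun u hu => by
    rw [hNa]
    exact K.add_mem (hKT (Submodule.mem_map_of_mem hu)) hu
  have hF2 : ∀ u u', B (N u) u' = B u (N u') := by
    intro u u'
    rw [hNa, hNa, map_add, LinearMap.add_apply, map_add]
    congr 1
    rw [← hBT (T u) u', hTT']
  have hNN : ∀ u, N (N u) = 0 := by
    intro u
    rw [hNa (N u), hTN, hchar]
  have hF3 : ∀ u u', B (N u) (N u') = 0 := by
    intro u u'
    rw [hF2, hNN, map_zero]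
  have hF4 : ∀ u ∈ K, B u (N u) = 0 := by
    intro u hu
    rw [hNa, map_add, hBs, add_zero, hBp]
    exact halt u hu
  have hF4' : ∀ u ∈ K, B (N u) u = 0 := fun u hu => by rw [hBc]; exact hF4 u hu
  have hQN : ∀ u ∈ K, Q (N u) = 0 := by
    intro u hu
    have h1 : QuadraticMap.polar Q (T u) u = Q (T u + u) - Q (T u) - Q u := rfl
    have h3 : QuadraticMap.polar Q (T u) u = 0 := by
      rw [QuadraticMap.polar_comm]
      exact halt u hu
    have h4 : Q (T u + u) = Q (T u) + Q u := by
      rw [h3] at h1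
      linear_combination -h1
    rw [hNa, h4, hT u]
    exact hcharF (Q u)
  have hNv0 : N v ≠ 0 := by
    intro h0
    apply hne
    rw [hTu, h0, add_zero]
  -- the partner `w`
  obtain ⟨⟨w₀, hw₀K, hw₀⟩, -⟩ := hK (N v) (hNK v hv) hNv0
  obtain ⟨a, ha⟩ : ∃ a, a = QuadraticMap.polar Q w₀ (N v) := ⟨_, rfl⟩
  have ha0 : a ≠ 0 := by rw [ha]; exact hw₀
  obtain ⟨w, hw⟩ : ∃ w, w = a⁻¹ • w₀ := ⟨_, rfl⟩
  have hwK : w ∈ K := by rw [hw]; exact K.smul_mem _ hw₀K
  have hNvw : B (N v) w = 1 := by
    rw [hw, map_smul, smul_eq_mul, hBc, hBp, ← ha, inv_mul_cancel₀ ha0]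
  have hwNv : B w (N v) = 1 := by rw [hBc]; exact hNvw
  have hvNw : B v (N w) = 1 := by rw [← hF2]; exact hNvw
  have hNwv : B (N w) v = 1 := by rw [hF2]; exact hwNv
  obtain ⟨t, ht⟩ : ∃ t, t = B v w := ⟨_, rfl⟩
  have htw : B w v = t := by rw [hBc, ht]
  -- the sixteen pairings
  have h00 : QuadraticMap.polar Q v (N w) = 1 := by rw [← hBp]; exact hvNw
  have h01 : QuadraticMap.polar Q v (w + t • N w) = 0 := by
    rw [← hBp, map_add, map_smul, smul_eq_mul, hvNw, ← ht, mul_one]
    exact hcharF t
  have h02 : QuadraticMap.polar Q v (N v) = 0 := by rw [← hBp]; exact hF4 v hv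
  have h03 : QuadraticMap.polar Q v (v + t • N v) = 0 := by
    rw [← hBp, map_add, map_smul, smul_eq_mul, hBs, hF4 v hv, mul_zero, add_zero]
  have h10 : QuadraticMap.polar Q (N v) (N w) = 0 := by rw [← hBp]; exact hF3 v w
  have h11 : QuadraticMap.polar Q (N v) (w + t • N w) = 1 := by
    rw [← hBp, map_add, map_smul, smul_eq_mul, hNvw, hF3, mul_zero, add_zero]
  have h12 : QuadraticMap.polar Q (N v) (N v) = 0 := by rw [← hBp]; exact hBs _
  have h13 : QuadraticMap.polar Q (N v) (v + t • N v) = 0 := by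
    rw [← hBp, map_add, map_smul, smul_eq_mul, hF4' v hv, hBs, mul_zero, add_zero]
  have h20 : QuadraticMap.polar Q w (N w) = 0 := by rw [← hBp]; exact hF4 w hwK
  have h21 : QuadraticMap.polar Q w (w + t • N w) = 0 := by
    rw [← hBp, map_add, map_smul, smul_eq_mul, hBs, hF4 w hwK, mul_zero, add_zero]
  have h22 : QuadraticMap.polar Q w (N v) = 1 := by rw [← hBp]; exact hwNv
  have h23 : QuadraticMap.polar Q w (v + t • N v) = 0 := by
    rw [← hBp, map_add, map_smul, smul_eq_mul, htw, hwNv, mul_one]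
    exact hcharF t
  have h30 : QuadraticMap.polar Q (N w) (N w) = 0 := by rw [← hBp]; exact hBs _
  have h31 : QuadraticMap.polar Q (N w) (w + t • N w) = 0 := by
    rw [← hBp, map_add, map_smul, smul_eq_mul, hF4' w hwK, hBs, mul_zero, add_zero]
  have h32 : QuadraticMap.polar Q (N w) (N v) = 0 := by rw [← hBp]; exact hF3 w v
  have h33 : QuadraticMap.polar Q (N w) (v + t • N v) = 1 := by
    rw [← hBp, map_add, map_smul, smul_eq_mul, hNwv, hF3, mul_zero, add_zero]
  have hmem : ∀ i, ![v, N v, w, N w] i ∈ Submodule.span F (Set.range ![v, N v, w, N w]) :=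
    fun i => Submodule.subset_span ⟨i, rfl⟩
  have hb' : ∀ j, ![N w, w + t • N w, N v, v + t • N v] j ∈
      Submodule.span F (Set.range ![v, N v, w, N w]) := by
    intro j
    fin_cases j
    · exact hmem 3
    · exact Submodule.add_mem _ (hmem 2) (Submodule.smul_mem _ _ (hmem 3))
    · exact hmem 1
    · exact Submodule.add_mem _ (hmem 0) (Submodule.smul_mem _ _ (hmem 1))
  have hdual : ∀ i j, QuadraticMap.polar Q (![v, N v, w, N w] i)
      (![N w, w + t • N w, N v, v + t • N v] j) = if i = j then 1 else 0 := by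
    intro i j
    fin_cases i <;> fin_cases j
    · exact h00.trans (if_pos rfl).symm
    · exact h01.trans (if_neg (by decide)).symm
    · exact h02.trans (if_neg (by decide)).symm
    · exact h03.trans (if_neg (by decide)).symm
    · exact h10.trans (if_neg (by decide)).symm
    · exact h11.trans (if_pos rfl).symm
    · exact h12.trans (if_neg (by decide)).symm
    · exact h13.trans (if_neg (by decide)).symm
    · exact h20.trans (if_neg (by decide)).symm
    · exact h21.trans (if_neg (by decide)).symm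
    · exact h22.trans (if_pos rfl).symm
    · exact h23.trans (if_neg (by decide)).symm
    · exact h30.trans (if_neg (by decide)).symm
    · exact h31.trans (if_neg (by decide)).symm
    · exact h32.trans (if_neg (by decide)).symm
    · exact h33.trans (if_pos rfl).symm
  obtain ⟨hnd, hdim⟩ := t2_gdual Q hQ ![v, N v, w, N w] ![N w, w + t • N w, N v, v + t • N v]
    hb' hdual
  refine ⟨Submodule.span F (Set.range ![v, N v, w, N w]), ?_, ?_, hnd, hdim, ?_⟩
  · rw [Submodule.span_le]
    rintro _ ⟨i, rfl⟩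
    fin_cases i
    · exact hv
    · exact hNK v hv
    · exact hwK
    · exact hNK w hwK
  · rw [Submodule.map_span, Submodule.span_le]
    rintro _ ⟨_, ⟨i, rfl⟩, rfl⟩
    fin_cases i
    · show T v ∈ _
      rw [hTu]
      exact Submodule.add_mem _ (hmem 0) (hmem 1)
    · show T (N v) ∈ _
      rw [hTN]
      exact hmem 1
    · show T w ∈ _
      rw [hTu]
      exact Submodule.add_mem _ (hmem 2) (hmem 3)
    · show T (N w) ∈ _
      rw [hTN]
      exact hmem 3
  · -- plus type: `span {N v, N w}` is totally singular of dimension 2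
    have hli : LinearIndependent F ![N v, N w] := by
      rw [LinearIndependent.pair_iff]
      intro s s' hs
      have h1 : B (s • N v + s' • N w) w = s := by
        rw [map_add, LinearMap.add_apply, map_smul, map_smul, LinearMap.smul_apply,
          LinearMap.smul_apply, hNvw, hF4' w hwK, smul_eq_mul, smul_eq_mul, mul_one, mul_zero,
          add_zero]
      have h3 : B (s • N v + s' • N w) v = s' := by
        rw [map_add, LinearMap.add_apply, map_smul, map_smul, LinearMap.smul_apply,
          LinearMap.smul_apply, hNwv, hF4' v hv, smul_eq_mul, smul_eq_mul, mul_one, mul_zero,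
          zero_add]
      rw [hs, map_zero, LinearMap.zero_apply] at h1 h3
      exact ⟨h1.symm, h3.symm⟩
    refine ⟨Submodule.span F (Set.range ![N v, N w]), ?_, ?_, ?_⟩
    · rw [Submodule.span_le]
      rintro _ ⟨i, rfl⟩
      fin_cases i
      · exact hmem 1
      · exact hmem 3
    · intro u hu
      obtain ⟨c, rfl⟩ := (Submodule.mem_span_range_iff_exists_fun F).mp hu
      rw [Fin.sum_univ_two]
      show Q (c 0 • N v + c 1 • N w) = 0
      have h1 : QuadraticMap.polar Q (c 0 • N v) (c 1 • N w) =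
          Q (c 0 • N v + c 1 • N w) - Q (c 0 • N v) - Q (c 1 • N w) := rfl
      have h3 : QuadraticMap.polar Q (c 0 • N v) (c 1 • N w) = 0 := by
        rw [← hBp, map_smul, map_smul, LinearMap.smul_apply, hF3, smul_zero, smul_zero]
      have h4 : Q (c 0 • N v) = 0 := by rw [hQ.smul, hQN v hv, mul_zero]
      have h5 : Q (c 1 • N w) = 0 := by rw [hQ.smul, hQN w hwK, mul_zero]
      rw [h3, h4, h5] at h1
      linear_combination -h1
    · rw [hdim, finrank_span_eq_card hli, Fintype.card_fin]

end Cfsg.Agent.Helper5.S74T2
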