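import Mathlib
import Cfsg.Prelude.Def_GeometricClasses
import Cfsg.Prelude.Def_Classical
import Cfsg.Agent.Helper96.OHDefs
import Cfsg.Agent.Helper65.OSubAll
import Cfsg.Agent.Helper5.S74T2BLK2
import Cfsg.Agent.Helper5.S74T2BLK4

set_option autoImplicit false
set_option linter.unusedSectionVars false
set_option linter.unusedVariables false

/-!
# Sub-CALL S90T2 (helper98; row S5990, `r = p = 2`), piece BLOCK (helper5)

`t2_block`, statement verbatim from `tools/calls/S90T2Skel.lean.txt`: a nonzero invariant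
nondegenerate subspace contains an invariant nondegenerate block of dimension `2`, or of dimension
`4` and plus type.  From the S74T2 pieces BLK2 / BLK4 (`Cfsg.Agent.Helper5.S74T2`).
-/

namespace Cfsg.Agent.Helper5.S90T2

open Module Cfsg Cfsg.Geo Cfsg.Agent.Helper96.OH

variable {ι : Type} [Fintype ι] [DecidableEq ι] {F : Type*} [Field F]

/-- BLOCK. -/
theorem t2_block [Fintype F] (Q : (ι → F) → F) (hQ : IsNondegenerateQuadraticForm Q)
    (h2 : (2 : F) = 0) (T : Module.End F (ι → F)) (hT : ∀ v, Q (T v) = Q v) (hT2 : T * T = 1)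
    (U : Submodule F (ι → F)) (hU : IsNondegenerateOn (QuadraticMap.polar Q) U)
    (hUT : U.map T ≤ U) (hU0 : U ≠ ⊥) :
    ∃ B : Submodule F (ι → F), B ≤ U ∧ B.map T ≤ B ∧ IsNondegenerateOn (QuadraticMap.polar Q) B ∧
      (finrank F B = 2 ∨ (finrank F B = 4 ∧ IsPlusTypeOn Q B)) := by
  have hTT : T ^ 2 = 1 := by rw [pow_two]; exact hT2
  have hT' : OPres Q T := hT
  by_cases h1 : ∃ v ∈ U, QuadraticMap.polar Q v (T v) ≠ 0
  · obtain ⟨v, hv, hne⟩ := h1
    obtain ⟨P, h1, h2', h3, h4⟩ :=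
      Cfsg.Agent.Helper5.S74T2.t2_blk2 Q hQ h2 T hT' hTT U hUT v hv hne
    exact ⟨P, h1, h2', h3, Or.inl h4⟩
  · push Not at h1
    by_cases h3 : ∃ v ∈ U, T v ≠ v
    · obtain ⟨v, hv, hne⟩ := h3
      obtain ⟨P, h1', h2', h3', h4, h5⟩ :=
        Cfsg.Agent.Helper5.S74T2.t2_blk4 Q hQ h2 T hT' hTT U hUT hU h1 v hv hne
      exact ⟨P, h1', h2', h3', Or.inr ⟨h4, h5⟩⟩
    · push Not at h3
      obtain ⟨E, hEK, hEnd, hEdim⟩ := Cfsg.Agent.Helper65.OHAll.o_plane_char2 Q hQ h2 U hU hU0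
      refine ⟨E, hEK, ?_, hEnd, Or.inl hEdim⟩
      rintro _ ⟨u, hu, rfl⟩
      rw [h3 u (hEK hu)]
      exact hu

end Cfsg.Agent.Helper5.S90T2
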