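import Mathlib
import Cfsg.Agent.Helper5.Symp

set_option autoImplicit false

namespace Cfsg.Agent.Helper5

open Matrix

section symp
variable {F : Type*} [Field F] {m : ℕ}

/-- An element of `Sp` commuting with all transvections `T_{u,1}` has every vector as an
eigenvector. -/
theorem sp_eigen_of_comm (A : Matrix.symplecticGroup (Fin m) F)
    (h : ∀ u : Fin m ⊕ Fin m → F, A * spTv m u 1 = spTv m u 1 * A)
    (u : Fin m ⊕ Fin m → F) (hu : u ≠ 0) :
    ∃ a : F, a • u = (A : Matrix (Fin m ⊕ Fin m) (Fin m ⊕ Fin m) F) *ᵥ u := by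
  obtain ⟨x, hx⟩ := exists_sympForm_ne_zero u hu
  have hx' : Cfsg.sympForm m F x u ≠ 0 := by
    rw [Helper13.sympForm_swap]
    exact neg_ne_zero.2 hx
  have h1 := congrArg (fun B : Matrix.symplecticGroup (Fin m) F =>
    (B : Matrix (Fin m ⊕ Fin m) (Fin m ⊕ Fin m) F) *ᵥ x) (h u)
  simp only [sp_mul_mulVec, spTv_mulVec, one_mul, Matrix.mulVec_add, Matrix.mulVec_smul] at h1
  have h2 : Cfsg.sympForm m F x u • ((A : Matrix (Fin m ⊕ Fin m) (Fin m ⊕ Fin m) F) *ᵥ u)
      = Cfsg.sympForm m F ((A : Matrix (Fin m ⊕ Fin m) (Fin m ⊕ Fin m) F) *ᵥ x) u • u :=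
    add_left_cancel h1
  refine ⟨(Cfsg.sympForm m F x u)⁻¹ *
    Cfsg.sympForm m F ((A : Matrix (Fin m ⊕ Fin m) (Fin m ⊕ Fin m) F) *ᵥ x) u, ?_⟩
  rw [mul_smul, ← h2, smul_smul, inv_mul_cancel₀ hx', one_smul]

/-- An element of `Sp` having every vector as an eigenvector is a scalar `a` with `a² = 1`. -/
theorem sp_scalar_of_eigen (A : Matrix.symplecticGroup (Fin m) F)
    (h : ∀ u : Fin m ⊕ Fin m → F, u ≠ 0 →
      ∃ a : F, a • u = (A : Matrix (Fin m ⊕ Fin m) (Fin m ⊕ Fin m) F) *ᵥ u) :
    ∃ a : F, a * a = 1 ∧ ∀ x : Fin m ⊕ Fin m → F,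
      (A : Matrix (Fin m ⊕ Fin m) (Fin m ⊕ Fin m) F) *ᵥ x = a • x := by
  obtain ⟨a, ha⟩ := (Matrix.mulVecLin (A : Matrix (Fin m ⊕ Fin m) (Fin m ⊕ Fin m) F)).exists_eq_smul_id_of_forall_notLinearIndependent
    (fun v => by
      by_cases hv : v = 0
      · subst hv
        intro hli
        exact hli.ne_zero 0 rfl
      · rw [LinearIndependent.pair_iff' hv]
        push Not
        obtain ⟨a, ha⟩ := h v hv
        exact ⟨a, by rw [ha]; rfl⟩)
  have hA : ∀ x : Fin m ⊕ Fin m → F,
      (A : Matrix (Fin m ⊕ Fin m) (Fin m ⊕ Fin m) F) *ᵥ x = a • x := by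
    intro x
    have := congrArg (fun f : (Fin m ⊕ Fin m → F) →ₗ[F] (Fin m ⊕ Fin m → F) => f x) ha
    simpa using this
  by_cases hex : ∃ u : Fin m ⊕ Fin m → F, u ≠ 0
  · obtain ⟨u, hu⟩ := hex
    obtain ⟨x, hx⟩ := exists_sympForm_ne_zero u hu
    refine ⟨a, ?_, hA⟩
    have h3 := sp_sympForm A u x
    rw [hA, hA, Helper13.sympForm_smul_left, Helper13.sympForm_smul_right] at h3
    have h4 : (a * a - 1) * Cfsg.sympForm m F u x = 0 := by linear_combination h3
    rcases mul_eq_zero.1 h4 with h5 | h5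
    · linear_combination h5
    · exact absurd h5 hx
  · push Not at hex
    refine ⟨1, one_mul 1, ?_⟩
    intro x
    rw [hex x, Matrix.mulVec_zero, smul_zero]

theorem sp_neg_one_mem : (-1 : Matrix (Fin m ⊕ Fin m) (Fin m ⊕ Fin m) F)
    ∈ Matrix.symplecticGroup (Fin m) F :=
  SymplecticGroup.neg_mem (Submonoid.one_mem _)

/-- The centre of the symplectic group consists of `±1`. -/
theorem sp_mem_center_iff (A : Matrix.symplecticGroup (Fin m) F) :
    A ∈ Subgroup.center (Matrix.symplecticGroup (Fin m) F) ↔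
      (A : Matrix (Fin m ⊕ Fin m) (Fin m ⊕ Fin m) F) = 1 ∨
      (A : Matrix (Fin m ⊕ Fin m) (Fin m ⊕ Fin m) F) = -1 := by
  constructor
  · intro hA
    rw [Subgroup.mem_center_iff] at hA
    obtain ⟨a, ha, hAx⟩ := sp_scalar_of_eigen A
      (sp_eigen_of_comm A (fun u => (hA (spTv m u 1)).symm))
    have : (a - 1) * (a + 1) = 0 := by linear_combination ha
    rcases mul_eq_zero.1 this with h | h
    · left
      have ha1 : a = 1 := by linear_combination h
      apply Helper13.mulVec_ext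
      intro x
      rw [hAx, ha1, one_smul, Matrix.one_mulVec]
    · right
      have ha1 : a = -1 := by linear_combination h
      apply Helper13.mulVec_ext
      intro x
      rw [hAx, ha1, Matrix.neg_mulVec, Matrix.one_mulVec, neg_smul, one_smul]
  · intro hA
    rw [Subgroup.mem_center_iff]
    intro B
    apply Subtype.ext
    rw [sp_coe_mul, sp_coe_mul]
    rcases hA with h | h
    · rw [h, Matrix.mul_one, Matrix.one_mul]
    · rw [h, Matrix.mul_neg, Matrix.neg_mul, Matrix.mul_one, Matrix.one_mul]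

theorem sp_center_eq_bot (h2 : (2 : F) = 0) :
    Subgroup.center (Matrix.symplecticGroup (Fin m) F) = ⊥ := by
  rw [eq_bot_iff]
  intro A hA
  rw [sp_mem_center_iff] at hA
  rw [Subgroup.mem_bot]
  apply Subtype.ext
  rcases hA with h | h
  · exact h
  · rw [h]
    change (-1 : Matrix (Fin m ⊕ Fin m) (Fin m ⊕ Fin m) F) = 1
    ext i j
    have h3 : (-1 : F) = 1 := by linear_combination -h2
    by_cases hij : i = j
    · subst hij
      simp [h3]
    · simp [hij]

theorem card_sp_center_of_two_ne (hm : 1 ≤ m) (h2 : (2 : F) ≠ 0) :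
    Nat.card (Subgroup.center (Matrix.symplecticGroup (Fin m) F)) = 2 := by
  have hset : (Subgroup.center (Matrix.symplecticGroup (Fin m) F) :
      Set (Matrix.symplecticGroup (Fin m) F)) = {1, ⟨-1, sp_neg_one_mem⟩} := by
    ext A
    simp only [SetLike.mem_coe, Set.mem_insert_iff, Set.mem_singleton_iff]
    rw [sp_mem_center_iff]
    constructor
    · rintro (h | h)
      · left
        exact Subtype.ext h
      · right
        exact Subtype.ext h
    · rintro (rfl | rfl)
      · left; rfl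
      · right; rfl
  have hne : (1 : Matrix.symplecticGroup (Fin m) F) ≠ ⟨-1, sp_neg_one_mem⟩ := by
    intro h
    have h1 := congrArg (fun A : Matrix.symplecticGroup (Fin m) F =>
      (A : Matrix (Fin m ⊕ Fin m) (Fin m ⊕ Fin m) F) (Sum.inl ⟨0, hm⟩) (Sum.inl ⟨0, hm⟩)) h
    simp only [sp_coe_one, Matrix.one_apply_eq, Matrix.neg_apply] at h1
    apply h2
    linear_combination h1
  rw [← SetLike.coe_sort_coe, Nat.card_coe_set_eq, hset, Set.ncard_pair hne]

/-- The centre of `Sp_{2m}(q)` has order `gcd(2, q - 1)` for `m ≥ 1`. -/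
theorem card_sp_center [Fintype F] (hm : 1 ≤ m) :
    Nat.card (Subgroup.center (Matrix.symplecticGroup (Fin m) F))
      = Nat.gcd 2 (Fintype.card F - 1) := by
  have hpos : 0 < Fintype.card F := Fintype.card_pos
  by_cases h2 : (2 : F) = 0
  · rw [sp_center_eq_bot h2, Subgroup.card_bot]
    have : CharP F 2 := CharTwo.of_one_ne_zero_of_two_eq_zero one_ne_zero h2
    have hc : ringChar F = 2 := ringChar.eq F 2
    have := FiniteField.even_card_of_char_two hc
    have h3 : (Fintype.card F - 1) % 2 = 1 := by omega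
    rw [Nat.gcd_rec, h3]
    rfl
  · rw [card_sp_center_of_two_ne hm h2]
    have hc : ringChar F ≠ 2 := by
      intro hc
      apply h2
      have := CharP.cast_eq_zero F (ringChar F)
      rw [hc] at this
      exact_mod_cast this
    have := FiniteField.odd_card_of_char_ne_two hc
    have h3 : (Fintype.card F - 1) % 2 = 0 := by omega
    rw [Nat.gcd_rec, h3]
    rfl

end symp

end Cfsg.Agent.Helper5
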