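import Mathlib
import Cfsg.Agent.Helper5.Symp
import Cfsg.Agent.Helper5.SympCenter
import Cfsg.Agent.Helper5.SympPerfect

set_option autoImplicit false
set_option linter.unusedSimpArgs false

namespace Cfsg.Agent.Helper5

open Matrix
open scoped Pointwise LinearAlgebra.Projectivization

section abstract

variable {G X : Type*} [Group G] [MulAction G X]

/-- A primitivity criterion for "rank 3" actions: `R` is a symmetric relation (adjacency) such
that point stabilisers are transitive on neighbours, any two points have a common neighbour, and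
non-adjacent distinct points can be made adjacent inside a point stabiliser. -/
theorem isTrivialBlock_of_rel (R : X → X → Prop) (hsymm : ∀ a b, R a b → R b a)
    (h1 : ∀ a b c, R a b → R a c → ∃ g : G, g • a = a ∧ g • b = c)
    (h2 : ∀ a b, a ≠ b → ¬ R a b → ∃ c, R a c ∧ R c b)
    (h3 : ∀ a b, a ≠ b → ¬ R a b → ∃ g : G, g • a = a ∧ R (g • b) b)
    (B : Set X) (hB : MulAction.IsBlock G B) : MulAction.IsTrivialBlock B := by
  rw [MulAction.isBlock_iff_smul_eq_of_mem] at hB
  -- (P): neighbours of `a ∈ B` are in `B` as soon as one of them is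
  have hP : ∀ a b c, a ∈ B → b ∈ B → R a b → R a c → c ∈ B := by
    intro a b c ha hb hab hac
    obtain ⟨g, hga, hgb⟩ := h1 a b c hab hac
    have hgB : g • B = B := hB ha (by rw [hga]; exact ha)
    rw [← hgB, ← hgb]
    exact Set.smul_mem_smul_set hb
  -- if `B` contains two adjacent points then `B = univ`
  have hQ : ∀ a b, a ∈ B → b ∈ B → R a b → B = Set.univ := by
    intro a b ha hb hab
    rw [Set.eq_univ_iff_forall]
    intro x
    by_cases hxa : a = x
    · rw [← hxa]; exact ha
    by_cases hax : R a x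
    · exact hP a b x ha hb hab hax
    obtain ⟨c, hac, hcx⟩ := h2 a x hxa hax
    have hc : c ∈ B := hP a b c ha hb hab hac
    exact hP c a x hc ha (hsymm _ _ hac) hcx
  by_cases hsub : B.Subsingleton
  · exact Or.inl hsub
  right
  rw [Set.not_subsingleton_iff] at hsub
  obtain ⟨a, ha, b, hb, hab⟩ := hsub
  by_cases hR : R a b
  · exact hQ a b ha hb hR
  obtain ⟨g, hga, hgb⟩ := h3 a b hab hR
  have hgB : g • B = B := hB ha (by rw [hga]; exact ha)
  have hgbB : g • b ∈ B := by
    rw [← hgB]
    exact Set.smul_mem_smul_set hb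
  exact hQ (g • b) b hgbB hb hgb

end abstract

section symp
variable {F : Type*} [Field F] {m : ℕ}

theorem sp_smul_def (g : Matrix.symplecticGroup (Fin m) F) (v : Fin m ⊕ Fin m → F) :
    g • v = (g : Matrix (Fin m ⊕ Fin m) (Fin m ⊕ Fin m) F) *ᵥ v := rfl

/-- Non-orthogonality of points of the projective space. -/
def spAdj (p q : ℙ F (Fin m ⊕ Fin m → F)) : Prop := Cfsg.sympForm m F p.rep q.rep ≠ 0

theorem sp_isPretransitive :
    MulAction.IsPretransitive (Matrix.symplecticGroup (Fin m) F) (ℙ F (Fin m ⊕ Fin m → F)) := by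
  constructor
  intro p q
  obtain ⟨g, hg⟩ := symp_transitive p.rep q.rep p.rep_nonzero q.rep_nonzero
  refine ⟨g, ?_⟩
  conv_lhs => rw [← Projectivization.mk_rep p]
  conv_rhs => rw [← Projectivization.mk_rep q]
  rw [Projectivization.smul_mk, Projectivization.mk_eq_mk_iff']
  exact ⟨1, by rw [one_smul, sp_smul_def, hg]⟩

theorem sympForm_smul_self_left (s : F) (u : Fin m ⊕ Fin m → F) :
    Cfsg.sympForm m F (s • u) u = 0 := by
  rw [Helper13.sympForm_smul_left, Helper13.sympForm_self, mul_zero]

theorem spAdj_h1 (a b c : ℙ F (Fin m ⊕ Fin m → F)) (hab : spAdj a b) (hac : spAdj a c) :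
    ∃ g : Matrix.symplecticGroup (Fin m) F, g • a = a ∧ g • b = c := by
  unfold spAdj at hab hac
  set u := a.rep with hu
  set v := b.rep with hv
  set w := c.rep with hw
  set w' := (Cfsg.sympForm m F u v / Cfsg.sympForm m F u w) • w with hw'
  have hfw' : Cfsg.sympForm m F u w' = Cfsg.sympForm m F u v := by
    rw [hw', Helper13.sympForm_smul_right, div_mul_cancel₀ _ hac]
  have hnotmem : ∀ x : Fin m ⊕ Fin m → F, Cfsg.sympForm m F u x ≠ 0 →
      x ∉ Submodule.span F {u} := by
    intro x hx hmem
    rw [Submodule.mem_span_singleton] at hmem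
    obtain ⟨s, rfl⟩ := hmem
    rw [Helper13.sympForm_smul_right, Helper13.sympForm_self, mul_zero] at hx
    exact hx rfl
  obtain ⟨t, ht, htfix, htv⟩ := Helper13.alt_step (sympBil m F) sympBil_nondegenerate sympBil_isAlt
    (Submodule.span F {u}) v w' (hnotmem v hab) (hnotmem w' (by rw [hfw']; exact hab))
    (fun z hz => by
      rw [Submodule.mem_span_singleton] at hz
      obtain ⟨s, rfl⟩ := hz
      simp only [sympBil_apply]
      constructor
      · rw [Helper13.sympForm_smul_left, Helper13.sympForm_smul_left, hfw']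
      · rw [Helper13.sympForm_smul_right, Helper13.sympForm_smul_right,
          Helper13.sympForm_swap w' u, Helper13.sympForm_swap v u, hfw'])
    (by rw [sympBil_isAlt.self_eq_zero, sympBil_isAlt.self_eq_zero])
  obtain ⟨g, -, hg⟩ := exists_spT_of_TG t ht
  refine ⟨g, ?_, ?_⟩
  · conv_lhs => rw [← Projectivization.mk_rep a]
    conv_rhs => rw [← Projectivization.mk_rep a]
    rw [Projectivization.smul_mk, Projectivization.mk_eq_mk_iff']
    refine ⟨1, ?_⟩
    rw [one_smul, sp_smul_def, ← hg, htfix _ (Submodule.mem_span_singleton_self _)]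
  · conv_lhs => rw [← Projectivization.mk_rep b]
    conv_rhs => rw [← Projectivization.mk_rep c]
    rw [Projectivization.smul_mk, Projectivization.mk_eq_mk_iff']
    refine ⟨Cfsg.sympForm m F u v / Cfsg.sympForm m F u w, ?_⟩
    rw [sp_smul_def, ← hg, htv]

theorem spAdj_h2 (a b : ℙ F (Fin m ⊕ Fin m → F)) :
    ∃ c, spAdj a c ∧ spAdj c b := by
  obtain ⟨x, hx⟩ := exists_sympForm_ne_zero a.rep a.rep_nonzero
  obtain ⟨y, hy⟩ := exists_sympForm_ne_zero b.rep b.rep_nonzero
  have key : ∃ w : Fin m ⊕ Fin m → F, Cfsg.sympForm m F a.rep w ≠ 0 ∧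
      Cfsg.sympForm m F b.rep w ≠ 0 := by
    by_cases h1 : Cfsg.sympForm m F b.rep x ≠ 0
    · exact ⟨x, hx, h1⟩
    by_cases h2 : Cfsg.sympForm m F a.rep y ≠ 0
    · exact ⟨y, h2, hy⟩
    push Not at h1 h2
    refine ⟨x + y, ?_, ?_⟩
    · rw [Helper13.sympForm_add_right, h2, add_zero]; exact hx
    · rw [Helper13.sympForm_add_right, h1, zero_add]; exact hy
  obtain ⟨w, hw1, hw2⟩ := key
  have hw0 : w ≠ 0 := by
    rintro rfl
    rw [Helper13.sympForm_zero_right] at hw1
    exact hw1 rfl
  obtain ⟨s, hs⟩ := Projectivization.exists_smul_eq_mk_rep F w hw0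
  refine ⟨Projectivization.mk F w hw0, ?_, ?_⟩
  · unfold spAdj
    rw [← hs, Units.smul_def, Helper13.sympForm_smul_right]
    exact mul_ne_zero (Units.ne_zero s) hw1
  · unfold spAdj
    rw [← hs, Units.smul_def, Helper13.sympForm_smul_left, Helper13.sympForm_swap]
    exact mul_ne_zero (Units.ne_zero s) (neg_ne_zero.2 hw2)

theorem spAdj_h3 (a b : ℙ F (Fin m ⊕ Fin m → F)) (hab : a ≠ b) :
    ∃ g : Matrix.symplecticGroup (Fin m) F, g • a = a ∧ spAdj (g • b) b := by
  set u := a.rep with hu
  set v := b.rep with hv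
  obtain ⟨x, hx⟩ := exists_sympForm_ne_zero u a.rep_nonzero
  -- a vector orthogonal to `u` but not to `v`
  have key : ∃ y : Fin m ⊕ Fin m → F, Cfsg.sympForm m F u y = 0 ∧ Cfsg.sympForm m F v y ≠ 0 := by
    by_contra hcon
    push Not at hcon
    apply hab
    have h4 : v - (Cfsg.sympForm m F v x / Cfsg.sympForm m F u x) • u = 0 := by
      apply sympForm_nondeg_left
      intro y
      have h5 := hcon (y - (Cfsg.sympForm m F u y / Cfsg.sympForm m F u x) • x) (by
        rw [Helper13.sympForm_sub_right, Helper13.sympForm_smul_right, div_mul_cancel₀ _ hx,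
          sub_self])
      rw [Helper13.sympForm_sub_right, Helper13.sympForm_smul_right] at h5
      rw [Helper13.sympForm_sub_left, Helper13.sympForm_smul_left]
      field_simp
      field_simp at h5
      linear_combination h5
    symm
    rw [← Projectivization.mk_rep a, ← Projectivization.mk_rep b, Projectivization.mk_eq_mk_iff']
    exact ⟨Cfsg.sympForm m F v x / Cfsg.sympForm m F u x, (sub_eq_zero.1 h4).symm⟩
  obtain ⟨y, hy1, hy2⟩ := key
  refine ⟨spTv m y 1, ?_, ?_⟩
  · conv_lhs => rw [← Projectivization.mk_rep a]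
    conv_rhs => rw [← Projectivization.mk_rep a]
    rw [Projectivization.smul_mk, Projectivization.mk_eq_mk_iff']
    refine ⟨1, ?_⟩
    rw [one_smul, sp_smul_def, spTv_mulVec, ← hu, hy1, mul_zero, zero_smul, add_zero]
  · have hgb : spTv m y 1 • b = Projectivization.mk F (v + Cfsg.sympForm m F v y • y) (by
        intro h0
        have h6 := congrArg (fun z => Cfsg.sympForm m F z y) h0
        simp only [Helper13.sympForm_add_left, Helper13.sympForm_smul_left,
          Helper13.sympForm_self, mul_zero, add_zero, Helper13.sympForm_zero_left] at h6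
        exact hy2 h6) := by
      conv_lhs => rw [← Projectivization.mk_rep b]
      rw [Projectivization.smul_mk, Projectivization.mk_eq_mk_iff']
      refine ⟨1, ?_⟩
      rw [one_smul, sp_smul_def, spTv_mulVec, one_mul]
    rw [hgb]
    unfold spAdj
    obtain ⟨s, hs⟩ := Projectivization.exists_smul_eq_mk_rep F (v + Cfsg.sympForm m F v y • y)
      (by
        intro h0
        have h6 := congrArg (fun z => Cfsg.sympForm m F z y) h0
        simp only [Helper13.sympForm_add_left, Helper13.sympForm_smul_left,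
          Helper13.sympForm_self, mul_zero, add_zero, Helper13.sympForm_zero_left] at h6
        exact hy2 h6)
    rw [← hs, Units.smul_def, Helper13.sympForm_smul_left, Helper13.sympForm_add_left,
      Helper13.sympForm_self, zero_add, Helper13.sympForm_smul_left, Helper13.sympForm_swap y v]
    exact mul_ne_zero (Units.ne_zero s) (mul_ne_zero hy2 (neg_ne_zero.2 hy2))

theorem spAdj_symm (a b : ℙ F (Fin m ⊕ Fin m → F)) (h : spAdj a b) : spAdj b a := by
  unfold spAdj at h ⊢
  rw [Helper13.sympForm_swap]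
  exact neg_ne_zero.2 h

/-- `Sp_{2m}(F)` acts primitively on the points of the projective space. -/
theorem sp_isPreprimitive :
    MulAction.IsPreprimitive (Matrix.symplecticGroup (Fin m) F) (ℙ F (Fin m ⊕ Fin m → F)) := by
  have := sp_isPretransitive (F := F) (m := m)
  exact ⟨fun {B} hB => isTrivialBlock_of_rel spAdj spAdj_symm spAdj_h1
    (fun a b _ _ => spAdj_h2 a b) (fun a b hab _ => spAdj_h3 a b hab) B hB⟩

/-- The transvections along `u` as a homomorphism from the additive group of `F`. -/
def spTvHom (m : ℕ) {F : Type*} [Field F] (u : Fin m ⊕ Fin m → F) :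
    Multiplicative F →* Matrix.symplecticGroup (Fin m) F where
  toFun c := spTv m u c.toAdd
  map_one' := by
    apply sp_ext
    intro x
    rw [spTv_mulVec, toAdd_one, zero_mul, zero_smul, add_zero, sp_coe_one, Matrix.one_mulVec]
  map_mul' c d := by
    rw [spTv_mul]
    rfl

/-- The subgroup of transvections attached to a point. -/
noncomputable def spIwT (p : ℙ F (Fin m ⊕ Fin m → F)) : Subgroup (Matrix.symplecticGroup (Fin m) F) :=
  (spTvHom m p.rep).range

theorem mem_spIwT_mk (u : Fin m ⊕ Fin m → F) (hu : u ≠ 0) (g : Matrix.symplecticGroup (Fin m) F) :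
    g ∈ spIwT (Projectivization.mk F u hu) ↔ ∃ c : F, g = spTv m u c := by
  obtain ⟨s, hs⟩ := Projectivization.exists_smul_eq_mk_rep F u hu
  unfold spIwT
  rw [MonoidHom.mem_range, ← hs]
  constructor
  · rintro ⟨c, rfl⟩
    refine ⟨(s : F) * (s : F) * c.toAdd, ?_⟩
    change spTv m (s • u) c.toAdd = _
    rw [Units.smul_def, spTv_smul]
  · rintro ⟨c, rfl⟩
    refine ⟨Multiplicative.ofAdd (c / ((s : F) * (s : F))), ?_⟩
    change spTv m (s • u) (c / ((s : F) * (s : F))) = _
    rw [Units.smul_def, spTv_smul]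
    congr 1
    have hs0 : (s : F) ≠ 0 := Units.ne_zero s
    field_simp

theorem spIwT_isMulCommutative (p : ℙ F (Fin m ⊕ Fin m → F)) : IsMulCommutative (spIwT p) := by
  refine ⟨⟨?_⟩⟩
  rintro ⟨a, ha⟩ ⟨b, hb⟩
  obtain ⟨c, rfl⟩ := ha
  obtain ⟨d, rfl⟩ := hb
  apply Subtype.ext
  change spTvHom m p.rep c * spTvHom m p.rep d = spTvHom m p.rep d * spTvHom m p.rep c
  rw [← map_mul, ← map_mul, mul_comm]

theorem spIwT_conj (g : Matrix.symplecticGroup (Fin m) F) (p : ℙ F (Fin m ⊕ Fin m → F)) :
    spIwT (g • p) = MulAut.conj g • spIwT p := by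
  have hp : g • p = Projectivization.mk F (g • p.rep) ((smul_ne_zero_iff_ne g).mpr p.rep_nonzero) := by
    conv_lhs => rw [← Projectivization.mk_rep p]
    rw [Projectivization.smul_mk]
  ext h
  rw [hp, mem_spIwT_mk, Subgroup.mem_smul_pointwise_iff_exists]
  constructor
  · rintro ⟨c, rfl⟩
    refine ⟨spTv m p.rep c, ?_, ?_⟩
    · conv_lhs => rw [← Projectivization.mk_rep p]
      rw [mem_spIwT_mk]
      exact ⟨c, rfl⟩
    · rw [MulAut.smul_def, MulAut.conj_apply, spTv_conj]
      rfl
  · rintro ⟨t, ht, rfl⟩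
    conv_lhs at ht => rw [← Projectivization.mk_rep p]
    rw [mem_spIwT_mk] at ht
    obtain ⟨c, rfl⟩ := ht
    refine ⟨c, ?_⟩
    rw [MulAut.smul_def, MulAut.conj_apply, spTv_conj]
    rfl

theorem iSup_spIwT : iSup (spIwT (F := F) (m := m)) = ⊤ := by
  rw [eq_top_iff, ← spT_eq_top, spT, Subgroup.closure_le]
  rintro g ⟨u, c, rfl⟩
  by_cases hu : u = 0
  · subst hu
    rw [spTv_zero_left]
    exact Subgroup.one_mem _
  · apply Subgroup.mem_iSup_of_mem (Projectivization.mk F u hu)
    rw [mem_spIwT_mk]
    exact ⟨c, rfl⟩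

/-- The Iwasawa structure of `Sp_{2m}(F)` acting on points. -/
noncomputable def spIwasawa (m : ℕ) (F : Type*) [Field F] :
    MulAction.IwasawaStructure (Matrix.symplecticGroup (Fin m) F) (ℙ F (Fin m ⊕ Fin m → F)) where
  T := spIwT
  is_comm := spIwT_isMulCommutative
  is_conj := spIwT_conj
  is_generator := iSup_spIwT

/-- A normal subgroup of `Sp_{2m}(F)` is central or contains the commutator subgroup. -/
theorem sp_normal_le_center_or_commutator_le (N : Subgroup (Matrix.symplecticGroup (Fin m) F))
    [hN : N.Normal] :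
    N ≤ Subgroup.center (Matrix.symplecticGroup (Fin m) F) ∨
      commutator (Matrix.symplecticGroup (Fin m) F) ≤ N := by
  have := sp_isPreprimitive (F := F) (m := m)
  by_cases hfix : MulAction.fixedPoints N (ℙ F (Fin m ⊕ Fin m → F)) = Set.univ
  · left
    intro n hn
    rw [sp_mem_center_iff]
    obtain ⟨a, ha, hax⟩ := sp_scalar_of_eigen n (by
      intro u hu
      have h1 : Projectivization.mk F u hu ∈ MulAction.fixedPoints N (ℙ F (Fin m ⊕ Fin m → F)) := by
        rw [hfix]; exact Set.mem_univ _
      have h2 := h1 ⟨n, hn⟩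
      change n • Projectivization.mk F u hu = _ at h2
      rw [Projectivization.smul_mk, Projectivization.mk_eq_mk_iff'] at h2
      exact h2)
    have : (a - 1) * (a + 1) = 0 := by linear_combination ha
    rcases mul_eq_zero.1 this with h | h
    · left
      have ha1 : a = 1 := by linear_combination h
      apply Helper13.mulVec_ext
      intro x
      rw [hax, ha1, one_smul, Matrix.one_mulVec]
    · right
      have ha1 : a = -1 := by linear_combination h
      apply Helper13.mulVec_ext
      intro x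
      rw [hax, ha1, Matrix.neg_mulVec, Matrix.one_mulVec, neg_smul, one_smul]
  · right
    exact (spIwasawa m F).commutator_le N hfix

/-- `spTv e 1` is not central. -/
theorem spTv_single_not_mem_center (i : Fin m) :
    spTv m (Pi.single (Sum.inl i) (1 : F)) 1 ∉ Subgroup.center (Matrix.symplecticGroup (Fin m) F) := by
  rw [sp_mem_center_iff, spTv_single_eq]
  change ¬ ((fromBlocks 1 (Matrix.single i i (1 : F)) 0 1 : Matrix (Fin m ⊕ Fin m) (Fin m ⊕ Fin m) F) = 1
    ∨ (fromBlocks 1 (Matrix.single i i (1 : F)) 0 1 : Matrix (Fin m ⊕ Fin m) (Fin m ⊕ Fin m) F) = -1)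
  rintro (h | h)
  · have := congrFun (congrFun h (Sum.inl i)) (Sum.inr i)
    simp at this
  · have := congrFun (congrFun h (Sum.inl i)) (Sum.inr i)
    simp at this

/-- `PSp_{2m}(F)` is simple whenever `Sp_{2m}(F)` is perfect and `m ≥ 1`. -/
theorem isSimpleGroup_PSp_of_perfect (hm : 1 ≤ m)
    (hperf : commutator (Matrix.symplecticGroup (Fin m) F) = ⊤) :
    IsSimpleGroup (Matrix.symplecticGroup (Fin m) F ⧸
      Subgroup.center (Matrix.symplecticGroup (Fin m) F)) := by
  have hnt : Nontrivial (Matrix.symplecticGroup (Fin m) F ⧸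
      Subgroup.center (Matrix.symplecticGroup (Fin m) F)) := by
    refine ⟨⟨QuotientGroup.mk (spTv m (Pi.single (Sum.inl ⟨0, hm⟩) (1 : F)) 1), 1, ?_⟩⟩
    intro h
    rw [QuotientGroup.eq_one_iff] at h
    exact spTv_single_not_mem_center _ h
  apply IsSimpleGroup.mk
  intro N hN
  have hNc : (N.comap (QuotientGroup.mk' (Subgroup.center (Matrix.symplecticGroup (Fin m) F)))).Normal :=
    hN.comap _
  rcases sp_normal_le_center_or_commutator_le
    (N.comap (QuotientGroup.mk' (Subgroup.center (Matrix.symplecticGroup (Fin m) F)))) with h | h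
  · left
    rw [eq_bot_iff]
    intro x hx
    obtain ⟨n, rfl⟩ := QuotientGroup.mk_surjective x
    rw [Subgroup.mem_bot, QuotientGroup.eq_one_iff]
    exact h (Subgroup.mem_comap.2 hx)
  · right
    rw [eq_top_iff]
    intro x _
    obtain ⟨n, rfl⟩ := QuotientGroup.mk_surjective x
    rw [hperf] at h
    exact Subgroup.mem_comap.1 (h (Subgroup.mem_top n))

/-- `PSp_{2m}(q)` is simple for `m ≥ 2`, except for `PSp_4(2)`. -/
theorem isSimpleGroup_PSp [Fintype F] (hm : 2 ≤ m) (h : m = 2 → 3 ≤ Fintype.card F) :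
    IsSimpleGroup (Matrix.symplecticGroup (Fin m) F ⧸
      Subgroup.center (Matrix.symplecticGroup (Fin m) F)) := by
  apply isSimpleGroup_PSp_of_perfect (by omega)
  apply commutator_sp_eq_top
  by_cases h3 : 3 ≤ m
  · exact Or.inl h3
  · have h2 : m = 2 := by omega
    exact Or.inr (Or.inl ⟨h2, h h2⟩)

end symp

end Cfsg.Agent.Helper5
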