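import Mathlib
import Cfsg.Agent.Helper71.T4Defs

/-!
# CALL S5637, piece ZB (helper5): core of `zero_block`, with the two dependencies
(`zero_block_half`, `glue2`) as hypotheses.
-/

set_option autoImplicit false

namespace Cfsg.Agent.Helper5.T4ZBCore

open Matrix Cfsg.Agent.Helper71.T4
open scoped Kronecker

variable {F : Type*} [Field F] {a b : ℕ}

/-- Two functionals vanishing on `lam` with a dual pair of vectors. -/
theorem exists_dual_pair (hb : 3 ≤ b) (lam : Fin b → F) :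
    ∃ β₁ β₂ p₁ p₂ : Fin b → F, β₁ ⬝ᵥ lam = 0 ∧ β₂ ⬝ᵥ lam = 0 ∧ β₁ ⬝ᵥ p₁ = 1 ∧ β₁ ⬝ᵥ p₂ = 0 ∧
      β₂ ⬝ᵥ p₁ = 0 ∧ β₂ ⬝ᵥ p₂ = 1 := by
  obtain ⟨k, hk⟩ : ∃ k : Fin b, lam k ≠ 0 ∨ lam = 0 := by
    by_cases h : lam = 0
    · exact ⟨⟨0, by omega⟩, Or.inr h⟩
    · obtain ⟨k, hk⟩ := Function.ne_iff.mp h
      exact ⟨k, Or.inl hk⟩
  obtain ⟨i, j, hik, hjk, hij⟩ : ∃ i j : Fin b, i ≠ k ∧ j ≠ k ∧ i ≠ j := by
    by_cases h0 : k.val = 0
    · refine ⟨⟨1, by omega⟩, ⟨2, by omega⟩, ?_, ?_, ?_⟩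
      · intro h; have := congrArg Fin.val h; simp at this; omega
      · intro h; have := congrArg Fin.val h; simp at this; omega
      · intro h; have := congrArg Fin.val h; simp at this
    · by_cases h1 : k.val = 1
      · refine ⟨⟨0, by omega⟩, ⟨2, by omega⟩, ?_, ?_, ?_⟩
        · intro h; have := congrArg Fin.val h; simp at this; omega
        · intro h; have := congrArg Fin.val h; simp at this; omega
        · intro h; have := congrArg Fin.val h; simp at this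
      · refine ⟨⟨0, by omega⟩, ⟨1, by omega⟩, ?_, ?_, ?_⟩
        · intro h; have := congrArg Fin.val h; simp at this; omega
        · intro h; have := congrArg Fin.val h; simp at this; omega
        · intro h; have := congrArg Fin.val h; simp at this
  have hlam : ∀ m : Fin b, lam m - lam m / lam k * lam k = 0 := by
    intro m
    rcases hk with hk | hk
    · rw [div_mul_cancel₀ _ hk, sub_self]
    · rw [hk]; simp
  refine ⟨Pi.single i 1 - (lam i / lam k) • Pi.single k 1,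
    Pi.single j 1 - (lam j / lam k) • Pi.single k 1, Pi.single i 1, Pi.single j 1,
    ?_, ?_, ?_, ?_, ?_, ?_⟩
  · simp only [sub_dotProduct, smul_dotProduct, single_dotProduct, one_mul, smul_eq_mul]
    exact hlam i
  · simp only [sub_dotProduct, smul_dotProduct, single_dotProduct, one_mul, smul_eq_mul]
    exact hlam j
  · simp [hik.symm]
  · simp [hij, hjk.symm]
  · simp [hij.symm, hik.symm]
  · simp [hjk.symm]

/-- Core of piece ZB: a zero block of `x⁻¹` forces `x` to be a Kronecker product, given the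
half-description (`zero_block_half`) and the gluing lemma (`glue2`) as hypotheses. -/
theorem zero_block_core (hb : 3 ≤ b) (M : Subgroup (GL (Fin a × Fin b) F))
    (hZH : ∀ x : GL (Fin a × Fin b) F, x ∈ M → ∀ β w' : Fin b → F, β ≠ 0 → w' ≠ 0 →
      blk ((x⁻¹ : GL (Fin a × Fin b) F) : Matrix (Fin a × Fin b) (Fin a × Fin b) F) β w' = 0 →
      ∃ (A : Matrix (Fin a) (Fin a) F) (Λ : (Fin b → F) → (Fin b → F)),
        ∀ w : Fin b → F, β ⬝ᵥ w = 0 → ∀ β' : Fin b → F,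
          blk (x : Matrix (Fin a × Fin b) (Fin a × Fin b) F) β' w = (β' ⬝ᵥ Λ w) • A)
    (hGL2 : ∀ y : Matrix (Fin a × Fin b) (Fin a × Fin b) F, y.det ≠ 0 →
      ∀ β₁ β₂ p₁ p₂ w₀ : Fin b → F,
      β₁ ⬝ᵥ p₁ = 1 → β₁ ⬝ᵥ p₂ = 0 → β₂ ⬝ᵥ p₁ = 0 → β₂ ⬝ᵥ p₂ = 1 → w₀ ≠ 0 →
      β₁ ⬝ᵥ w₀ = 0 → β₂ ⬝ᵥ w₀ = 0 →
      ∀ (A₁ A₂ : Matrix (Fin a) (Fin a) F) (Λ₁ Λ₂ : (Fin b → F) → (Fin b → F)),
      (∀ w : Fin b → F, β₁ ⬝ᵥ w = 0 → ∀ β' : Fin b → F, blk y β' w = (β' ⬝ᵥ Λ₁ w) • A₁) →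
      (∀ w : Fin b → F, β₂ ⬝ᵥ w = 0 → ∀ β' : Fin b → F, blk y β' w = (β' ⬝ᵥ Λ₂ w) • A₂) →
      IsKron y)
    (x : GL (Fin a × Fin b) F) (hx : x ∈ M) (β w' : Fin b → F)
    (hβ : β ≠ 0) (hw' : w' ≠ 0)
    (h0 : blk ((x⁻¹ : GL (Fin a × Fin b) F) : Matrix (Fin a × Fin b) (Fin a × Fin b) F) β w' = 0) :
    IsKron (x : Matrix (Fin a × Fin b) (Fin a × Fin b) F) := by
  obtain ⟨A, Λ, hA⟩ := hZH x hx β w' hβ hw' h0
  obtain ⟨wa, hwa, hwaβ⟩ := exists_perp1 (F := F) (b := b) (by omega) β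
  have hβwa : β ⬝ᵥ wa = 0 := by rw [dotProduct_comm]; exact hwaβ
  obtain ⟨β₁, β₂, p₁, p₂, h1l, h2l, h11, h12, h21, h22⟩ := exists_dual_pair hb (Λ wa)
  have hβ₁ : β₁ ≠ 0 := by
    rintro rfl
    rw [zero_dotProduct] at h11
    exact zero_ne_one h11
  have hβ₂ : β₂ ≠ 0 := by
    rintro rfl
    rw [zero_dotProduct] at h22
    exact zero_ne_one h22
  obtain ⟨w₀, hw₀, hw₀1, hw₀2⟩ := exists_perp2 (F := F) hb β₁ β₂
  have hx1 : blk (x : Matrix (Fin a × Fin b) (Fin a × Fin b) F) β₁ wa = 0 := by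
    rw [hA wa hβwa β₁, h1l, zero_smul]
  have hx2 : blk (x : Matrix (Fin a × Fin b) (Fin a × Fin b) F) β₂ wa = 0 := by
    rw [hA wa hβwa β₂, h2l, zero_smul]
  have hxinv : x⁻¹ ∈ M := M.inv_mem hx
  obtain ⟨A₁, Λ₁, hA₁⟩ := hZH x⁻¹ hxinv β₁ wa hβ₁ hwa (by rw [inv_inv]; exact hx1)
  obtain ⟨A₂, Λ₂, hA₂⟩ := hZH x⁻¹ hxinv β₂ wa hβ₂ hwa (by rw [inv_inv]; exact hx2)
  have hdet : ((x⁻¹ : GL (Fin a × Fin b) F) : Matrix (Fin a × Fin b) (Fin a × Fin b) F).det ≠ 0 :=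
    ((Matrix.isUnit_iff_isUnit_det _).1 (x⁻¹).isUnit).ne_zero
  exact isKron_inv x (hGL2 _ hdet β₁ β₂ p₁ p₂ w₀ h11 h12 h21 h22 hw₀
    (by rw [dotProduct_comm]; exact hw₀1) (by rw [dotProduct_comm]; exact hw₀2)
    A₁ A₂ Λ₁ Λ₂ hA₁ hA₂)

end Cfsg.Agent.Helper5.T4ZBCore
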