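import Mathlib
import Cfsg.Agent.Helper71.T4Defs
import Cfsg.Agent.Helper71.T4ZH
import Cfsg.Agent.Helper74.T4GL2
import Cfsg.Agent.Helper5.T4ZBCore

/-!
# CALL S5637, piece ZB (helper5): `zero_block`, verbatim from the skeleton.
-/

set_option autoImplicit false

namespace Cfsg.Agent.Helper5.T4ZB

open Matrix Cfsg.Agent.Helper71.T4
open scoped Kronecker

variable {F : Type*} [Field F] {a b : ℕ}

theorem zero_block (ha : 1 ≤ a) (hb : 3 ≤ b) (M : Subgroup (GL (Fin a × Fin b) F))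
    (hS : HasS M) (hNS : NS M) (x : GL (Fin a × Fin b) F) (hx : x ∈ M) (β w' : Fin b → F)
    (hβ : β ≠ 0) (hw' : w' ≠ 0)
    (h0 : blk ((x⁻¹ : GL (Fin a × Fin b) F) : Matrix (Fin a × Fin b) (Fin a × Fin b) F) β w' = 0) :
    IsKron (x : Matrix (Fin a × Fin b) (Fin a × Fin b) F) :=
  Cfsg.Agent.Helper5.T4ZBCore.zero_block_core hb M
    (fun x hx β w' hβ hw' h0 =>
      Cfsg.Agent.Helper71.T4ZH.zero_block_half ha hb M hS hNS x hx β w' hβ hw' h0)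
    (fun y hy β₁ β₂ p₁ p₂ w₀ h11 h12 h21 h22 hw₀ h1 h2 A₁ A₂ Λ₁ Λ₂ hA₁ hA₂ =>
      Cfsg.Agent.Helper74.T4GL2.glue2 ha y hy β₁ β₂ p₁ p₂ w₀ h11 h12 h21 h22 hw₀ h1 h2
        A₁ A₂ Λ₁ Λ₂ hA₁ hA₂)
    x hx β w' hβ hw' h0

end Cfsg.Agent.Helper5.T4ZB
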